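import Groth.Agent.ModPic.Setting
import Groth.Agent.Div89.DivProd

/-!
The special fibre as a combination of its components.
-/

set_option autoImplicit false
set_option backward.isDefEq.respectTransparency.types false
set_option linter.style.haveILetI false

noncomputable section

universe u

open CategoryTheory AlgebraicGeometry TopologicalSpace Opposite
open scoped nonZeroDivisors

namespace Groth.Agent.ModPic

open Div89

variable {R : Type u} [CommRing R] [IsDomain R] [IsDiscreteValuationRing R]
variable {X : Scheme.{u}} {p : X ⟶ Spec (CommRingCat.of R)} (Γ : ArSurf.VertComp R (Over.mk p))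

/-- The embedding of a vertical component in `X`. -/
abbrev cι : Γ.curve.left ⟶ X := Γ.ι

instance : IsClosedImmersion (cι Γ) := Γ.isClosedImmersion

/-- The ideal of a vertical component. -/
abbrev cI : X.IdealSheafData := (cι Γ).ker

/-- The underlying set of a vertical component. -/
abbrev cSet : Set X := Set.range ((cι Γ).base : Γ.curve.left → X)

/-- Its generic point. -/
abbrev cPt : X := (cι Γ).base (genericPoint Γ.curve.left)

theorem isClosed_cSet : IsClosed (cSet Γ) := (cι Γ).isClosedEmbedding.isClosed_range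

theorem isGenericPoint_cPt : IsGenericPoint (cPt Γ) (cSet Γ) := by
  have h := (genericPoint_spec Γ.curve.left).image (cι Γ).continuous
  rw [Set.image_univ, (isClosed_cSet Γ).closure_eq] at h
  exact h

theorem support_cI : ((cI Γ).support : Set X) = cSet Γ := by
  rw [Scheme.Hom.support_ker]
  exact (isClosed_cSet Γ).closure_eq

theorem isIntegral_cI : IsIntegral (cI Γ).subscheme := by
  haveI : IsIntegral Γ.curve.left := Γ.isIntegral
  haveI : Nonempty (cI Γ).subscheme := ⟨(cι Γ).toImage.base (genericPoint Γ.curve.left)⟩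
  exact isIntegral_of_isOpenImmersion (inv (cι Γ).toImage)

theorem isRadical_cI (U : X.affineOpens) : ((cI Γ).ideal U).IsRadical := by
  haveI := isIntegral_cI Γ
  exact ideal_isRadical_of_isReduced _ U

theorem mem_support_cI {x : X} : x ∈ (cI Γ).support ↔ x ∈ cSet Γ := Set.ext_iff.1 (support_cI Γ) x

theorem isGenericPoint_support : IsGenericPoint (cPt Γ) ((cI Γ).support : Set X) := by
  rw [support_cI]; exact isGenericPoint_cPt Γ

/-- The stalk of the component ideal at its generic point. -/
theorem stalkIdeal_cI_cPt : stalkIdeal (cI Γ) (cPt Γ) = IsLocalRing.maximalIdeal (X.presheaf.stalk (cPt Γ)) := by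
  haveI := isIntegral_cI Γ
  exact stalkIdeal_eq_maximalIdeal_of_genericPoint _ (isGenericPoint_support Γ)

section List

variable {n : ℕ} {C : Fin n → ArSurf.VertComp R (Over.mk p)} (hC : Models.IsComponentList R (Over.mk p) C)

include hC

theorem mem_components (i : Fin n) : cSet (C i) ∈ Models.fibreComponents R (Over.mk p) := by
  rw [← hC.2]; exact ⟨i, rfl⟩

theorem isFibreMax_cPt (i : Fin n) : IsFibreMax p (cPt (C i)) := by
  have hm := mem_components hC i
  refine ⟨hm.1.2 (Set.mem_range_self _), fun y hy hyx => ?_⟩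
  have hsub : cSet (C i) ⊆ closure {y} := by
    rw [← (isGenericPoint_cPt (C i)).def]
    exact hyx.closure_subset
  have h2 := hm.2 ⟨isIrreducible_singleton.closure,
    closure_minimal (Set.singleton_subset_iff.2 hy) (isClosed_fSet p)⟩ hsub
  have h3 : cPt (C i) ⤳ y := (isGenericPoint_cPt (C i)).specializes (h2 (subset_closure rfl))
  exact (hyx.antisymm h3).eq

theorem exists_component_of_fibreMax {z : X} (hz : IsFibreMax p z) : ∃ i, cPt (C i) = z := by
  have h := closure_mem_fibreComponents p hz
  rw [← hC.2] at h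
  obtain ⟨i, hi⟩ := h
  exact ⟨i, (isGenericPoint_cPt (C i)).eq (show IsGenericPoint z (cSet (C i)) from hi.symm)⟩

theorem exists_mem_component [LocallyOfFiniteType p] [QuasiCompact p] {x : X} (hx : x ∈ fSet p) :
    ∃ i, x ∈ cSet (C i) := by
  obtain ⟨z, hz, hzx⟩ := exists_fibreMax p hx
  obtain ⟨i, rfl⟩ := exists_component_of_fibreMax hC hz
  exact ⟨i, hzx.mem_closed (isClosed_cSet _) (Set.mem_range_self _)⟩

theorem cPt_mem_iff (i j : Fin n) : cPt (C i) ∈ cSet (C j) ↔ i = j := by
  refine ⟨fun h => hC.1 ?_, fun h => h ▸ Set.mem_range_self _⟩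
  show cSet (C i) = cSet (C j)
  have hsub : cSet (C i) ⊆ cSet (C j) := by
    rw [← (isGenericPoint_cPt (C i)).def]
    exact closure_minimal (Set.singleton_subset_iff.2 h) (isClosed_cSet _)
  exact Set.Subset.antisymm hsub ((mem_components hC i).2 (mem_components hC j).1 hsub)

theorem cI_subset_fSet (i : Fin n) : cSet (C i) ⊆ fSet p := (mem_components hC i).1.2

variable [Flat p] [LocallyOfFiniteType p] (hreg : Models.IsRegularScheme X)

include hreg

theorem isEffCartier_cI (i : Fin n) : BlowUp.IsEffCartierIdeal (cI (C i)) := by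
  haveI := LocallyOfFiniteType.isLocallyNoetherian p
  refine isEffCartier_of_radical_codim_one_ufd _ (isRadical_cI _) (fun z hz hmax => ?_) fun x _ => ufm_stalk hreg x
  have hz' := (isGenericPoint_support (C i)).specializes hz
  rw [← hmax _ (isGenericPoint_support (C i)).mem hz']
  exact dim_stalk_fibreMax p (isFibreMax_cPt hC i)

theorem isDVR_stalk (i : Fin n) : ∃ _ : IsDomain (X.presheaf.stalk (cPt (C i))),
    IsDiscreteValuationRing (X.presheaf.stalk (cPt (C i))) := by
  haveI := hreg (cPt (C i))
  obtain ⟨g, hg, hgI⟩ := exists_stalk_generator (isEffCartier_cI hC hreg i) (cPt (C i))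
  exact isDiscreteValuationRing_of_principal_nzd _ hg ((stalkIdeal_cI_cPt (C i)).symm.trans hgI)

/-- The stalk at a component of a product of powers of the component ideals. -/
theorem stalkIdeal_prod_cPt (a : Fin n → ℕ) (i : Fin n) :
    stalkIdeal (∏ j, cI (C j) ^ a j) (cPt (C i)) = IsLocalRing.maximalIdeal (X.presheaf.stalk (cPt (C i))) ^ a i := by
  rw [stalkIdeal_prod, Finset.prod_eq_single i (fun j _ hj => ?_) (by simp), stalkIdeal_pow, stalkIdeal_cI_cPt]
  rw [stalkIdeal_pow, (notMem_support_iff_stalkIdeal _ _).1 fun h => hj ?_, ← Ideal.one_eq_top, one_pow]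
  exact ((cPt_mem_iff hC i j).1 ((mem_support_cI (C j)).1 h)).symm

variable [QuasiCompact p]

/-- An effective Cartier divisor inside the special fibre is a combination of components. -/
theorem exists_eq_prod {Z : X.IdealSheafData} (hZ : BlowUp.IsEffCartierIdeal Z)
    (hsupp : (Z.support : Set X) ⊆ fSet p) : ∃ a : Fin n → ℕ, Z = ∏ j, cI (C j) ^ a j := by
  classical
  haveI := isNoetherian p
  let D : ULift.{u} (Fin n) → X.IdealSheafData := fun i => cI (C i.down)
  obtain ⟨a, hle, U, hU, hcod⟩ := exists_effCartier_in_closed Z D (fun i => isEffCartier_cI hC hreg i.down)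
    (fun i => isIntegral_cI _) ∅ isClosed_empty (fun z hz => hz.elim) fun x hx => by
      obtain ⟨i, hi⟩ := exists_mem_component hC (hsupp hx)
      exact Or.inr (Set.mem_iUnion.2 ⟨⟨i⟩, (mem_support_cI (C i)).2 hi⟩)
  have hprod : a.prod (fun i k => D i ^ k) = ∏ j, cI (C j) ^ a ⟨j⟩ := by
    rw [Finsupp.prod_fintype _ _ fun i => pow_zero _]
    exact Fintype.prod_equiv Equiv.ulift _ _ fun i => rfl
  rw [hprod] at hle hU
  exact ⟨fun j => a ⟨j⟩, DivProd.eq_of_le_of_eq_on hZ
    (DivProd.isEffCartier_prod _ _ fun j _ => isEffCartier_pow (isEffCartier_cI hC hreg j) _) hle hU hcod⟩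

theorem fIdeal_eq_prod :
    fIdeal p = ∏ j, cI (C j) ^ Models.mult R (Over.mk p) (C j) := by
  obtain ⟨a, ha⟩ := exists_eq_prod hC hreg (isEffCartier_specialFibre p) (support_specialFibreIdeal p).le
  refine ha.trans (Finset.prod_congr rfl fun i _ => ?_)
  congr 1
  obtain ⟨hd, hdvr⟩ := isDVR_stalk hC hreg i
  have h1 : stalkIdeal (fIdeal p) (cPt (C i)) =
      Ideal.map (Models.stalkHom R (Over.mk p) (cPt (C i))) (IsLocalRing.maximalIdeal R) := by
    obtain ⟨U, hx⟩ := exists_affine_mem (cPt (C i))
    rw [stalkIdeal_eq _ U _ hx, specialFibreIdeal_ideal, maximalIdeal_eq, Ideal.map_span, Ideal.map_span,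
      Set.image_singleton, Set.image_singleton]
    congr 2
    exact TopCat.Presheaf.germ_res_apply X.presheaf (homOfLE (le_top : U.1 ≤ ⊤)) _ hx (piG p)
  let A := X.presheaf.stalk (cPt (C i))
  show a i = (Module.length A (A ⧸ Ideal.map (Models.stalkHom R (Over.mk p) (cPt (C i))) (IsLocalRing.maximalIdeal R))).toNat
  rw [← h1, ha, stalkIdeal_prod_cPt hC hreg a i, IsDiscreteValuationRing.length_quotient_pow_maximalIdeal]
  rfl

end List

end Groth.Agent.ModPic
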