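import Groth.Agent.Curves2.IdealFrame
import Groth.Agent.Var76.RegPow
import Groth.Agent.Var76.ZeroScheme
import Groth.Agent.FGA29.IntNumBasic
import Groth.Agent.An92.Ample.Inverse
import Groth.Agent.Div89.DivProd
import Groth.Agent.Var76.Frames
import Groth.Agent.Amp73.Local

/-!
Classes of invertible modules of effective Cartier ideals.
-/

set_option autoImplicit false
set_option backward.isDefEq.respectTransparency.types false
set_option linter.style.haveILetI false

noncomputable section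

universe u

open CategoryTheory CategoryTheory.Limits AlgebraicGeometry TopologicalSpace Opposite
open Groth.Agent Groth.Agent.Var76.LineBundle
open scoped nonZeroDivisors

namespace Groth.Agent.ModPic

open scoped Groth.Agent.FGA29

variable {X : Scheme.{u}}

theorem eq_zero_of_frames {A C : X.Modules} (f : A ⟶ C)
    (h : ∀ x : X, ∃ (U : X.Opens) (e : Γ(A, U)), x ∈ U ∧ IsFrame A U e ∧ f.app U e = 0) : f = 0 := by
  choose U e hx he hf using h
  ext V m
  refine (Var76.ZeroScheme.eq_of_locally C _ _ fun y hy => ⟨V ⊓ U y, inf_le_left, ⟨hy, hx y⟩, ?_⟩ :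
    f.app V m = (0 : A ⟶ C).app V m)
  obtain ⟨a, ha⟩ := (he y (V ⊓ U y) inf_le_right).2 (res A inf_le_left m)
  dsimp only at ha
  rw [← Mero90.app_res, ← ha, Scheme.Modules.Hom.app_smul, Mero90.app_res, hf]
  simp [res]

/-- Two submodules of a module with the same local generators are isomorphic. -/
theorem iso_of_frames_same {A B N : X.Modules} (φ : A ⟶ N) (ψ : B ⟶ N) [Mono φ] [Mono ψ]
    (h : ∀ x : X, ∃ (U : X.Opens) (a : Γ(A, U)) (b : Γ(B, U)),
      x ∈ U ∧ IsFrame A U a ∧ IsFrame B U b ∧ φ.app U a = ψ.app U b) : Nonempty (A ≅ B) := by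
  have hA : φ ≫ cokernel.π ψ = 0 := eq_zero_of_frames _ fun x => by
    obtain ⟨U, a, b, hx, ha, -, hab⟩ := h x
    refine ⟨U, a, hx, ha, ?_⟩
    show (cokernel.π ψ).app U (φ.app U a) = 0
    rw [hab]
    exact congr($(cokernel.condition ψ).app U b)
  have hB : ψ ≫ cokernel.π φ = 0 := eq_zero_of_frames _ fun x => by
    obtain ⟨U, a, b, hx, -, hb, hab⟩ := h x
    refine ⟨U, b, hx, hb, ?_⟩
    show (cokernel.π φ).app U (ψ.app U b) = 0
    rw [← hab]
    exact congr($(cokernel.condition φ).app U a)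
  refine ⟨⟨Abelian.monoLift ψ φ hA, Abelian.monoLift φ ψ hB, ?_, ?_⟩⟩
  · rw [← cancel_mono φ, Category.assoc, Abelian.monoLift_comp, Abelian.monoLift_comp, Category.id_comp]
  · rw [← cancel_mono ψ, Category.assoc, Abelian.monoLift_comp, Abelian.monoLift_comp, Category.id_comp]

instance mono_idealModι (I : X.IdealSheafData) : Mono (ClSub.idealModι I) :=
  inferInstanceAs (Mono (kernel.ι (ClSub.toSubscheme I)))

theorem isUnit_cl {L : X.Modules} (hL : PicF.IsInvertible L) : IsUnit (PicF.cl L) := by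
  obtain ⟨N, -, ⟨f⟩⟩ := An92.InvMod.exists_inverse hL
  exact IsUnit.of_mul_eq_one (PicF.cl N) (Quot.sound ⟨EGA73.tensComm _ _ ≪≫ f⟩)

theorem cl_mul_eq_one_of_isInverseOf {L M : X.Modules} (h : ClSub.IsInverseOf L M) :
    PicF.cl L * PicF.cl M = 1 := Quot.sound h

theorem exists_affine_span {I : X.IdealSheafData} (hI : BlowUp.IsEffCartierIdeal I) {U : X.Opens} (x : X)
    (hx : x ∈ U) : ∃ (W : X.affineOpens) (f : Γ(X, W.1)), x ∈ W.1 ∧ W.1 ≤ U ∧ f ∈ Γ(X, W.1)⁰ ∧
      I.ideal W = Ideal.span {f} := by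
  obtain ⟨V, hxV, f, hf, hfI⟩ := hI x
  obtain ⟨W, hxW, hle⟩ := Div89.exists_affine_le (show x ∈ V.1 ⊓ U from ⟨hxV, hx⟩)
  have hWV : W.1 ≤ V.1 := hle.trans inf_le_left
  refine ⟨W, X.presheaf.map (homOfLE hWV).op f, hxW, hle.trans inf_le_right,
    Div89.res_mem_nonZeroDivisors hWV hf, Div89.ideal_res_span hWV hfI⟩

theorem cl_idealMod_mul {I J : X.IdealSheafData} (hI : BlowUp.IsEffCartierIdeal I)
    (hJ : BlowUp.IsEffCartierIdeal J) :
    PicF.cl (ClSub.idealMod (I * J)) = PicF.cl (ClSub.idealMod I) * PicF.cl (ClSub.idealMod J) := by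
  let φ := Var76.Reg.idealInc I (ClSub.idealMod J) ≫ ClSub.idealModι J
  haveI : Mono (Var76.Reg.idealInc I (ClSub.idealMod J)) :=
    Var76.Reg.mono_idealInc I ((Curves2.isInvertible_idealMod_iff J).2 hJ)
  haveI : Mono φ := mono_comp _ _
  obtain ⟨e⟩ := iso_of_frames_same φ (ClSub.idealModι (I * J)) fun x => by
    obtain ⟨W₀, g₀, hxW₀, -, hg₀, hJ₀⟩ := exists_affine_span hJ (U := ⊤) x trivial
    obtain ⟨W, f, hxW, hle, hf, hIW⟩ := exists_affine_span hI x hxW₀
    let g := X.presheaf.map (homOfLE hle).op g₀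
    have hg : g ∈ Γ(X, W.1)⁰ := Div89.res_mem_nonZeroDivisors hle hg₀
    have hJW : J.ideal W = Ideal.span {g} := Div89.ideal_res_span hle hJ₀
    have hIJ : (I * J).ideal W = Ideal.span {f * g} := by
      rw [Scheme.IdealSheafData.ideal_mul, Pi.mul_apply, hIW, hJW, Ideal.span_singleton_mul_span_singleton]
    obtain ⟨a, ha⟩ := Curves2.exists_idealSect_of_mem I W (hIW ▸ Ideal.mem_span_singleton_self f)
    obtain ⟨b, hb⟩ := Curves2.exists_idealSect_of_mem J W (hJW ▸ Ideal.mem_span_singleton_self g)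
    obtain ⟨c, hc⟩ := Curves2.exists_idealSect_of_mem (I * J) W (hIJ ▸ Ideal.mem_span_singleton_self (f * g))
    refine ⟨W.1, Amp73.tm _ _ a b, c, hxW,
      Amp73.isFrame_tm (Curves2.isFrame_of_span I W hf hIW a ha) (Curves2.isFrame_of_span J W hg hJW b hb),
      Curves2.isFrame_of_span (I * J) W (mul_mem hf hg) hIJ c hc, ?_⟩
    show (ClSub.idealModι J).app W.1 ((Var76.Reg.idealInc I _).app W.1 (Amp73.tm _ _ a b)) = _
    rw [Var76.Reg.idealInc_tm, ha, Scheme.Modules.Hom.app_smul]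
    show f * OmegaSh.idealSect J W.1 b = OmegaSh.idealSect (I * J) W.1 c
    rw [hb, hc]
  exact (Quot.sound ⟨e⟩).symm

theorem cl_idealMod_top : PicF.cl (ClSub.idealMod (⊤ : X.IdealSheafData)) = 1 := by
  have hu := isUnit_cl ((Curves2.isInvertible_idealMod_iff (⊤ : X.IdealSheafData)).2 Div89.isEffCartier_top)
  have h := cl_idealMod_mul (X := X) Div89.isEffCartier_top Div89.isEffCartier_top
  rw [← Scheme.IdealSheafData.one_eq_top, one_mul] at h
  rw [← Scheme.IdealSheafData.one_eq_top] at hu ⊢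
  exact hu.mul_left_cancel (by rw [mul_one, ← h])

theorem isEffCartier_pow {I : X.IdealSheafData} (hI : BlowUp.IsEffCartierIdeal I) :
    ∀ n : ℕ, BlowUp.IsEffCartierIdeal (I ^ n)
  | 0 => by rw [pow_zero, Scheme.IdealSheafData.one_eq_top]; exact Div89.isEffCartier_top
  | n + 1 => by rw [pow_succ]; exact Div89.isEffCartier_mul (isEffCartier_pow hI n) hI

theorem cl_idealMod_pow {I : X.IdealSheafData} (hI : BlowUp.IsEffCartierIdeal I) :
    ∀ n : ℕ, PicF.cl (ClSub.idealMod (I ^ n)) = PicF.cl (ClSub.idealMod I) ^ n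
  | 0 => by rw [pow_zero, pow_zero, Scheme.IdealSheafData.one_eq_top]; exact cl_idealMod_top
  | n + 1 => by rw [pow_succ, cl_idealMod_mul (isEffCartier_pow hI n) hI, cl_idealMod_pow hI n, pow_succ]

theorem cl_idealMod_prod {ι : Type*} (S : Finset ι) (K : ι → X.IdealSheafData)
    (h : ∀ i ∈ S, BlowUp.IsEffCartierIdeal (K i)) :
    PicF.cl (ClSub.idealMod (∏ i ∈ S, K i)) = ∏ i ∈ S, PicF.cl (ClSub.idealMod (K i)) := by
  classical
  induction S using Finset.induction_on with
  | empty => rw [Finset.prod_empty, Finset.prod_empty, Scheme.IdealSheafData.one_eq_top]; exact cl_idealMod_top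
  | insert a s ha ih =>
    rw [Finset.prod_insert ha, Finset.prod_insert ha, cl_idealMod_mul (h a (Finset.mem_insert_self a s))
      (Div89.DivProd.isEffCartier_prod s K fun i hi => h i (Finset.mem_insert_of_mem hi)),
      ih fun i hi => h i (Finset.mem_insert_of_mem hi)]

theorem cl_idealMod_prod_pow {n : ℕ} (K : Fin n → X.IdealSheafData) (h : ∀ i, BlowUp.IsEffCartierIdeal (K i))
    (a : Fin n → ℕ) :
    PicF.cl (ClSub.idealMod (∏ i, K i ^ a i)) = ∏ i, PicF.cl (ClSub.idealMod (K i)) ^ a i := by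
  rw [cl_idealMod_prod _ _ fun i _ => isEffCartier_pow (h i) _]
  exact Finset.prod_congr rfl fun i _ => cl_idealMod_pow (h i) _

/-- An invertible module with a section of regular coordinates is inverse to the ideal of the zero scheme. -/
theorem cl_zeroScheme_mul {L : X.Modules} (hL : PicF.IsInvertible L) (s : Coh.structureModule X ⟶ L)
    (hreg : ∀ x : X, ∃ (W : X.affineOpens) (e : Γ(L, W.1)) (c : Γ(X, W.1)),
      x ∈ W.1 ∧ IsFrame L W.1 e ∧ c • e = Var76.ZeroScheme.val L s W.1 ∧ c ∈ Γ(X, W.1)⁰) :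
    BlowUp.IsEffCartierIdeal (PicF2.zeroScheme L s) ∧
      PicF.cl (ClSub.idealMod (PicF2.zeroScheme L s)) * PicF.cl L = 1 := by
  have hL1 := Mero90.isFinLocFreeOfRank_of_isInvertible hL
  have hZ : BlowUp.IsEffCartierIdeal (PicF2.zeroScheme L s) := fun x => by
    obtain ⟨W, e, c, hxW, he, hc, hcr⟩ := hreg x
    exact ⟨W, hxW, c, hcr, Var76.ZeroScheme.ideal_zeroScheme hL1 W he hc⟩
  refine ⟨hZ, ?_⟩
  haveI : Mono (Var76.Reg.idealInc (PicF2.zeroScheme L s) L) := Var76.Reg.mono_idealInc _ hL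
  haveI : Mono s := QC70.mono_of_app_injective s fun V a b hab => by
    change Γ(X, V) at a b
    rw [Amp73.app_eq_smul_val, Amp73.app_eq_smul_val] at hab
    refine TopCat.Presheaf.section_ext X.sheaf V a b fun y hy => ?_
    obtain ⟨W, e, c, hyW, he, hc, hcr⟩ := hreg y
    have h1 := congrArg (res L (inf_le_left : V ⊓ W.1 ≤ V)) hab
    rw [res_smul, res_smul, Var76.ZeroScheme.res_val, ← Var76.ZeroScheme.res_val L s (inf_le_right : V ⊓ W.1 ≤ W.1),
      ← hc, res_smul, smul_smul, smul_smul] at h1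
    have h2 := congrArg (X.presheaf.germ (V ⊓ W.1) y ⟨hy, hyW⟩) ((he (V ⊓ W.1) inf_le_right).1 h1)
    rw [map_mul, map_mul, TopCat.Presheaf.germ_res_apply, TopCat.Presheaf.germ_res_apply,
      TopCat.Presheaf.germ_res_apply] at h2
    show X.presheaf.germ V y hy a = X.presheaf.germ V y hy b
    exact sub_eq_zero.1 (mem_nonZeroDivisors_iff_right.1 (Div89.germ_mem_nonZeroDivisors W hcr y hyW) _
      ((sub_mul _ _ _).trans (sub_eq_zero.2 h2)))
  obtain ⟨e⟩ := iso_of_frames_same (Var76.Reg.idealInc (PicF2.zeroScheme L s) L) s fun x => by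
    obtain ⟨W, e, c, hxW, he, hc, hcr⟩ := hreg x
    have hid := Var76.ZeroScheme.ideal_zeroScheme hL1 W he hc
    obtain ⟨a, ha⟩ := Curves2.exists_idealSect_of_mem _ W (hid ▸ Ideal.mem_span_singleton_self c)
    refine ⟨W.1, Amp73.tm _ _ a e, (1 : Γ(X, W.1)), hxW,
      Amp73.isFrame_tm (Curves2.isFrame_of_span _ W hcr hid a ha) he, Amp73.isFrame_one W.1, ?_⟩
    rw [Var76.Reg.idealInc_tm, ha, hc]
    rfl
  exact Quot.sound ⟨e⟩

/-- An ideal generated on all affines by a global regular function is trivial. -/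
theorem cl_idealMod_of_global {I : X.IdealSheafData} (π : Γ(X, ⊤))
    (hreg : ∀ U : X.affineOpens, X.presheaf.map (homOfLE (le_top : U.1 ≤ ⊤)).op π ∈ Γ(X, U.1)⁰)
    (hI : ∀ U : X.affineOpens, I.ideal U = Ideal.span {X.presheaf.map (homOfLE (le_top : U.1 ≤ ⊤)).op π}) :
    PicF.cl (ClSub.idealMod I) = 1 := by
  let s := Var76.Frames.ofSection (Coh.structureModule X) π
  have hcoord : ∀ W : X.Opens, (X.presheaf.map (homOfLE (le_top : W ≤ ⊤)).op π) • ((1 : Γ(X, W)) : Γ(Coh.structureModule X, W)) =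
      Var76.ZeroScheme.val (Coh.structureModule X) s W := fun W => by
    rw [Var76.Frames.val_ofSection]
    exact mul_one (X.presheaf.map (homOfLE (le_top : W ≤ ⊤)).op π)
  have hO : PicF.IsInvertible (Coh.structureModule X) :=
    Mero90.isInvertible_of_frames fun x => ⟨⊤, trivial, _, Amp73.isFrame_one ⊤⟩
  have h := (cl_zeroScheme_mul hO s fun x => by
    obtain ⟨W, hx⟩ := Div89.exists_affine_mem x
    exact ⟨W, _, _, hx, Amp73.isFrame_one W.1, hcoord W.1, hreg W⟩).2
  have e : PicF2.zeroScheme (Coh.structureModule X) s = I := Scheme.IdealSheafData.ext (funext fun U => by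
    rw [Var76.ZeroScheme.ideal_zeroScheme (Mero90.isFinLocFreeOfRank_of_isInvertible hO) U (Amp73.isFrame_one U.1) (hcoord U.1), hI])
  rwa [e, FGA29.cl_one, mul_one] at h

end Groth.Agent.ModPic
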