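import Groth.Agent.ModPic.IdealMul
import Groth.Agent.ModPic.Fibre
import Groth.Agent.Amp73.Ext
import Groth.Agent.Amp73.PullTensor
import Groth.Agent.Cyc90.ImageGen

/-!
Invertible modules trivial on the generic fibre are combinations of components.
-/

set_option autoImplicit false
set_option backward.isDefEq.respectTransparency.types false
set_option linter.style.haveILetI false

noncomputable section

universe u

open CategoryTheory CategoryTheory.Limits AlgebraicGeometry TopologicalSpace Opposite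
open Groth.Agent Groth.Agent.Var76.LineBundle
open scoped nonZeroDivisors

namespace Groth.Agent.ModPic

open scoped Groth.Agent.FGA29

variable {X : Scheme.{u}}

/-- A trivialisation on an open gives a frame. -/
theorem exists_frame_of_restrict_iso {L : X.Modules} (U : X.Opens)
    (ψ : L.restrict U.ι ≅ Coh.structureModule (↑U : Scheme.{u})) : ∃ e : Γ(L, U), IsFrame L U e := by
  let one : Γ(Coh.structureModule (↑U : Scheme.{u}), ⊤) := (1 : Γ((↑U : Scheme.{u}), ⊤))
  let e₀ : Γ(L, U.ι ''ᵁ ⊤) := (L.restrictAppIso U.ι ⊤).hom (ψ.inv.app ⊤ one)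
  have key : ∀ W : (↑U : Scheme.{u}).Opens,
      Function.Bijective (fun a : Γ(X, U.ι ''ᵁ W) => a • res L (Scheme.Hom.image_mono U.ι (le_top : W ≤ ⊤)) e₀) := by
    intro W
    have hb : Function.Bijective (fun a : Γ((↑U : Scheme.{u}), W) =>
        ((ψ.inv.app W ≫ (L.restrictAppIso U.ι W).hom) : _ ⟶ Γ(L, U.ι ''ᵁ W))
          (a : Γ(Coh.structureModule (↑U : Scheme.{u}), W))) :=
      ConcreteCategory.bijective_of_isIso (ψ.inv.app W ≫ (L.restrictAppIso U.ι W).hom)
    have hk : Function.Bijective (fun a : Γ(X, U.ι ''ᵁ W) => (U.ι.appIso W).hom a) :=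
      ConcreteCategory.bijective_of_isIso _
    have heq : (fun a : Γ(X, U.ι ''ᵁ W) => a • res L (Scheme.Hom.image_mono U.ι (le_top : W ≤ ⊤)) e₀) =
        (fun a : Γ((↑U : Scheme.{u}), W) =>
          ((ψ.inv.app W ≫ (L.restrictAppIso U.ι W).hom) : _ ⟶ Γ(L, U.ι ''ᵁ W))
            (a : Γ(Coh.structureModule (↑U : Scheme.{u}), W))) ∘
        (fun a : Γ(X, U.ι ''ᵁ W) => (U.ι.appIso W).hom a) := by
      funext a
      let a' : Γ((↑U : Scheme.{u}), W) := (U.ι.appIso W).hom a
      have h1 : (a' : Γ(Coh.structureModule (↑U : Scheme.{u}), W)) =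
          a' • (Coh.structureModule (↑U : Scheme.{u})).presheaf.map (homOfLE (le_top : W ≤ ⊤)).op one := by
        show a' = a' * ((↑U : Scheme.{u}).presheaf.map (homOfLE (le_top : W ≤ ⊤)).op) 1
        rw [map_one, mul_one]
      have h2 : ψ.inv.app W ((Coh.structureModule (↑U : Scheme.{u})).presheaf.map (homOfLE (le_top : W ≤ ⊤)).op one) =
          (L.restrict U.ι).presheaf.map (homOfLE (le_top : W ≤ ⊤)).op (ψ.inv.app ⊤ one) :=
        ConcreteCategory.congr_hom (ψ.inv.mapPresheaf.naturality (homOfLE (le_top : W ≤ ⊤)).op) one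
      show _ = (L.restrictAppIso U.ι W).hom (ψ.inv.app W (a' : Γ(Coh.structureModule (↑U : Scheme.{u}), W)))
      have h3 : ψ.inv.app W (a' : Γ(Coh.structureModule (↑U : Scheme.{u}), W)) =
          a' • (L.restrict U.ι).presheaf.map (homOfLE (le_top : W ≤ ⊤)).op (ψ.inv.app ⊤ one) := by
        rw [← h2, ← Scheme.Modules.Hom.app_smul]
        exact congrArg (ψ.inv.app W) h1
      rw [h3, ← Scheme.Modules.smul_apply, Scheme.Modules.smul_restrictAppIso_hom_apply,
        Scheme.Modules.smul_apply, show (U.ι.appIso W).inv a' = a from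
        ConcreteCategory.congr_hom (U.ι.appIso W).hom_inv_id a]
      rfl
    rw [heq]
    exact hb.comp hk
  have hU : U.ι ''ᵁ ⊤ = U := U.ι_image_top
  refine ⟨res L hU.ge e₀, ?_⟩
  intro V hV
  rw [res_res]
  obtain ⟨W, rfl⟩ : ∃ W : (↑U : Scheme.{u}).Opens, U.ι ''ᵁ W = V :=
    ⟨U.ι ⁻¹ᵁ V, by rw [Scheme.Hom.image_preimage_eq_opensRange_inf, U.opensRange_ι, inf_eq_right.2 hV]⟩
  exact key W


variable {R : Type u} [CommRing R] [IsDomain R] [IsDiscreteValuationRing R] {p : X ⟶ Spec (CommRingCat.of R)}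

/-- The open complement of the special fibre. -/
abbrev genOpen (p : X ⟶ Spec (CommRingCat.of R)) : X.Opens := X.basicOpen (piG p)

theorem mem_genOpen_iff {x : X} : x ∈ genOpen p ↔ x ∉ fSet p := by
  obtain ⟨U, hx⟩ := Div89.exists_affine_mem x
  rw [← support_specialFibreIdeal p, SetLike.mem_coe, Div89.mem_support_iff_le _ U x hx, specialFibreIdeal_ideal,
    Ideal.span_singleton_le_iff_mem, ← Div89.mem_basicOpen_iff_notMem U x hx, X.basicOpen_res]
  exact ⟨fun h => ⟨hx, h⟩, fun h => h.2⟩

theorem isUnit_res_genOpen {V : X.Opens} (hV : V ≤ genOpen p) :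
    IsUnit (Blow97.res V (piG p)) := by
  have h := RingedSpace.isUnit_res_basicOpen _ (piG p)
  have h2 := h.map (X.presheaf.map (homOfLE hV).op).hom
  rwa [← Blow97.res_res hV]

/-- Every point generalises into the generic fibre. -/
theorem exists_genOpen_specializes [Flat p] (hreg : Models.IsRegularScheme X) (x : X) :
    ∃ z ∈ genOpen p, z ⤳ x := by
  haveI := isDomain_stalk hreg x
  obtain ⟨U, hx⟩ := Div89.exists_affine_mem x
  let qq : PrimeSpectrum (X.presheaf.stalk x) := ⟨⊥, Ideal.isPrime_bot⟩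
  have hz := Cyc90.fromSpecStalk_specializes qq
  refine ⟨(X.fromSpecStalk x).base qq, ?_, hz⟩
  have hne : X.presheaf.germ ⊤ x trivial (piG p) ≠ 0 := fun h0 =>
    nonZeroDivisors.ne_zero (Div89.germ_mem_nonZeroDivisors U (res_piG_mem_nonZeroDivisors p U) x hx)
      ((TopCat.Presheaf.germ_res_apply X.presheaf (homOfLE (le_top : U.1 ≤ ⊤)) x hx (piG p)).trans h0)
  letI := (X.presheaf.stalkSpecializes hz).hom.toAlgebra
  haveI hloc : IsLocalization.AtPrime (X.presheaf.stalk ((X.fromSpecStalk x).base qq)) qq.asIdeal := by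
    have := Cyc90.isLocalization_genPrime hz
    rw [Cyc90.genPrime_fromSpecStalk] at this
    exact this
  refine (X.mem_basicOpen (piG p) _ trivial).2 ?_
  rw [← TopCat.Presheaf.germ_stalkSpecializes_apply X.presheaf (U := ⊤) trivial hz (piG p)]
  exact IsLocalization.map_units (M := qq.asIdeal.primeCompl) (X.presheaf.stalk ((X.fromSpecStalk x).base qq))
    ⟨_, hne⟩

/-- The generic fibre inclusion is an isomorphism onto the complement of the special fibre. -/
theorem exists_iso_genOpen {C : Scheme.{u}} {f : C ⟶ Spec (CommRingCat.of (FractionRing R))} {g : C ⟶ X}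
    (hg : IsPullback g f p (Spec.map (CommRingCat.ofHom (algebraMap R (FractionRing R))))) :
    ∃ e : C ≅ (genOpen p).toScheme, e.hom ≫ (genOpen p).ι = g := by
  haveI := Cyc90.ImageGen.isOpenImmersion_specMap_fractionRing R
  haveI : IsOpenImmersion g := MorphismProperty.of_isPullback hg.flip inferInstance
  have hj : Set.range (Spec.map (CommRingCat.ofHom (algebraMap R (FractionRing R)))) =
      ({IsLocalRing.closedPoint R}ᶜ : Set (PrimeSpectrum R)) := by
    refine Set.Subset.antisymm ?_ fun q hq => ⟨(⟨⊥, Ideal.isPrime_bot⟩ : PrimeSpectrum (FractionRing R)), PrimeSpectrum.ext ?_⟩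
    · rintro _ ⟨y, rfl⟩ h
      have h1 := congrArg PrimeSpectrum.asIdeal h
      change Ideal.comap (algebraMap R (FractionRing R)) (PrimeSpectrum.asIdeal (R := FractionRing R) y) =
        IsLocalRing.maximalIdeal R at h1
      rw [(Ideal.eq_bot_or_top _).resolve_right (PrimeSpectrum.isPrime y).ne_top, ← RingHom.ker_eq_comap_bot,
        (RingHom.injective_iff_ker_eq_bot _).1 (IsFractionRing.injective R (FractionRing R))] at h1
      exact IsDiscreteValuationRing.not_a_field R h1.symm
    · show Ideal.comap (algebraMap R (FractionRing R)) ⊥ = q.asIdeal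
      rw [← RingHom.ker_eq_comap_bot, (RingHom.injective_iff_ker_eq_bot _).1 (IsFractionRing.injective R (FractionRing R))]
      by_contra hb
      exact hq (PrimeSpectrum.ext (IsLocalRing.eq_maximalIdeal (q.2.isMaximal (Ne.symm hb))))
  have hr : Set.range g = (genOpen p : Set X) := by
    rw [show g = hg.isoPullback.hom ≫ pullback.fst p _ from hg.isoPullback_hom_fst.symm, Scheme.Hom.comp_base,
      TopCat.coe_comp, Set.range_comp,
      (show Set.range hg.isoPullback.hom = Set.univ from hg.isoPullback.hom.homeomorph.surjective.range_eq), Set.image_univ,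
      Scheme.Pullback.range_fst, hj]
    ext x
    exact (mem_genOpen_iff (p := p) (x := x)).symm
  exact ⟨IsOpenImmersion.isoOfRangeEq g (genOpen p).ι (by rw [Scheme.Opens.range_ι]; exact hr),
    IsOpenImmersion.isoOfRangeEq_hom_fac _ _ _⟩

theorem exists_frame_genOpen {C : Scheme.{u}} {f : C ⟶ Spec (CommRingCat.of (FractionRing R))} {g : C ⟶ X}
    (hg : IsPullback g f p (Spec.map (CommRingCat.ofHom (algebraMap R (FractionRing R))))) {M : X.Modules}
    (htriv : Nonempty ((Scheme.Modules.pullback g).obj M ≅ Coh.structureModule C)) :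
    ∃ e : Γ(M, genOpen p), IsFrame M (genOpen p) e := by
  obtain ⟨e, he⟩ := exists_iso_genOpen hg
  obtain ⟨φ⟩ := htriv
  have h : (genOpen p).ι = e.inv ≫ g := by rw [← he, e.inv_hom_id_assoc]
  exact exists_frame_of_restrict_iso _ ((Scheme.Modules.restrictFunctorIsoPullback (genOpen p).ι).app M ≪≫
    (Scheme.Modules.pullbackCongr h).app M ≪≫ ((Scheme.Modules.pullbackComp e.inv g).app M).symm ≪≫
    (Scheme.Modules.pullback e.inv).mapIso φ ≪≫ PicLoc.pullbackStructureIso e.inv)

variable [Flat p] [LocallyOfFiniteType p] [QuasiCompact p] (hreg : Models.IsRegularScheme X)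
variable {n : ℕ} {C : Fin n → ArSurf.VertComp R (Over.mk p)} (hC : Models.IsComponentList R (Over.mk p) C)

include hreg hC

theorem cl_fibre_eq_one : ∏ i, PicF.cl (ClSub.idealMod (cI (C i))) ^ Models.mult R (Over.mk p) (C i) = 1 := by
  rw [← cl_idealMod_prod_pow _ (isEffCartier_cI hC hreg), ← fIdeal_eq_prod hC hreg]
  exact cl_idealMod_of_global (piG p) (res_piG_mem_nonZeroDivisors p) (specialFibreIdeal_ideal p)

/-- A module trivial on the generic fibre is inverse to a combination of components. -/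
theorem exists_cl_of_frame {M : X.Modules} (hM : PicF.IsInvertible M) (e : Γ(M, genOpen p))
    (he : IsFrame M (genOpen p) e) :
    ∃ a : Fin n → ℕ, PicF.cl M * ∏ i, PicF.cl (ClSub.idealMod (cI (C i))) ^ a i = 1 := by
  haveI := isNoetherian p
  let O := Coh.structureModule X
  have hO : PicF.IsInvertible O := Mero90.isInvertible_of_frames fun x => ⟨⊤, trivial, _, Amp73.isFrame_one ⊤⟩
  let s := Var76.Frames.ofSection O (piG p)
  have hcoord : ∀ W : X.Opens, Blow97.res W (piG p) • ((1 : Γ(X, W)) : Γ(O, W)) = Var76.ZeroScheme.val O s W :=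
    fun W => by
      rw [Var76.Frames.val_ofSection]
      exact mul_one (Blow97.res W (piG p))
  have hgl : CohB1.genLocus O s = genOpen p := by
    have := Amp73.genLocus_inf_eq_basicOpen s (Amp73.isFrame_one ⊤) (hcoord ⊤)
    rw [inf_top_eq] at this
    exact this.trans (X.basicOpen_res (piG p) (homOfLE (le_top : (⊤ : X.Opens) ≤ ⊤)).op |>.trans (top_inf_eq _))
  let e' : Γ(M, CohB1.genLocus O s) := res M hgl.le e
  obtain ⟨N, hN⟩ := Amp73.exists_tw_extend hO s (Mero90.isQCoh_of_isInvertible hM) e'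
  obtain ⟨t, ht⟩ := hN N le_rfl
  let M' := CohB1.tensorMod M (CohB1.tensorPow O N)
  have hM' : PicF.IsInvertible M' := EGA73.isInvertible_tensorMod hM (EGA73.isInvertible_tensorPow hO N)
  have hcl : PicF.cl M' = PicF.cl M := by
    rw [FGA29.cl_tensor, FGA29.cl_tensorPow, FGA29.cl_one, one_pow, mul_one]
  have hfr : IsFrame M' (genOpen p) (res M' le_top t) := by
    have h1 : IsFrame M' (CohB1.genLocus O s) (res M' le_top t) := by
      rw [ht]
      exact Amp73.isFrame_tm (he.res hgl.le) (Amp73.isFrame_epow (Amp73.isFrame_genLocus s) N)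
    have := h1.res hgl.ge
    rwa [res_res] at this
  let s' := Var76.Frames.ofSection M' t
  have hreg' : ∀ x : X, ∃ (W : X.affineOpens) (ε : Γ(M', W.1)) (c : Γ(X, W.1)),
      x ∈ W.1 ∧ IsFrame M' W.1 ε ∧ c • ε = Var76.ZeroScheme.val M' s' W.1 ∧ c ∈ Γ(X, W.1)⁰ ∧
      ∀ y ∈ W.1, y ∈ genOpen p → y ∈ X.basicOpen c := fun x => by
    obtain ⟨W, hxW, -, ε, hε⟩ := Mero90.exists_affine_frame hM' x ⊤ trivial
    obtain ⟨c, hc⟩ := Amp73.exists_coord s' hε
    have hb : ∀ y ∈ W.1, y ∈ genOpen p → y ∈ X.basicOpen c := fun y hyW hy => by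
      have h1 : y ∈ CohB1.genLocus M' s' := Amp73.mem_genLocus_iff.2 ⟨genOpen p, hy, by
        rw [Var76.Frames.val_ofSection]; exact hfr⟩
      rw [← Amp73.genLocus_inf_eq_basicOpen s' hε hc]
      exact ⟨h1, hyW⟩
    refine ⟨W, ε, c, hxW, hε, hc, Div89.mem_nonZeroDivisors_of_germ W c fun y hy => ?_, hb⟩
    haveI := isDomain_stalk hreg y
    refine mem_nonZeroDivisors_of_ne_zero fun h0 => ?_
    obtain ⟨z, hz, hzy⟩ := exists_genOpen_specializes (p := p) hreg y
    have hzW : z ∈ W.1 := hzy.mem_open W.1.2 hy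
    have hzb := (X.mem_basicOpen c z hzW).1 (hb z hzW hz)
    rw [← TopCat.Presheaf.germ_stalkSpecializes_apply X.presheaf hy hzy c] at hzb
    change IsUnit ((X.presheaf.stalkSpecializes hzy).hom ((X.presheaf.germ W.1 y hy).hom c)) at hzb
    rw [h0, map_zero] at hzb
    exact not_isUnit_zero hzb
  obtain ⟨hZ, hZcl⟩ := cl_zeroScheme_mul hM' s' fun x => by
    obtain ⟨W, ε, c, hx, hε, hc, hcr, -⟩ := hreg' x
    exact ⟨W, ε, c, hx, hε, hc, hcr⟩
  obtain ⟨a, ha⟩ := exists_eq_prod hC hreg hZ fun x hx => by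
    by_contra hxF
    obtain ⟨W, ε, c, hxW, hε, hc, -, hb⟩ := hreg' x
    have h1 := (Div89.mem_basicOpen_iff_notMem W x hxW c).1 (hb x hxW (mem_genOpen_iff.2 hxF))
    refine h1 ((Div89.mem_support_iff_le _ W x hxW).1 hx ?_)
    rw [Var76.ZeroScheme.ideal_zeroScheme (Mero90.isFinLocFreeOfRank_of_isInvertible hM') W hε hc]
    exact Ideal.mem_span_singleton_self c
  exact ⟨a, by rw [← cl_idealMod_prod_pow _ (isEffCartier_cI hC hreg), ← ha, ← hcl, mul_comm]; exact hZcl⟩

end Groth.Agent.ModPic
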