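import Groth.Agent.ModPic.Torsion
import Groth.Agent.Stein58.Connectedness

/-!
Connectedness of the special fibre of a model of a curve with trivial constants.
-/

set_option autoImplicit false
set_option backward.isDefEq.respectTransparency.types false
set_option linter.style.haveILetI false

noncomputable section

universe u

open CategoryTheory CategoryTheory.Limits AlgebraicGeometry TopologicalSpace Opposite
open Groth.Agent

namespace Groth.Agent.ModPic

variable {R : Type u} [CommRing R] [IsDomain R] [IsDiscreteValuationRing R] {X : Scheme.{u}}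
  {p : X ⟶ Spec (CommRingCat.of R)} [Flat p] [IsProper p] (hreg : Models.IsRegularScheme X)
  {Y : Scheme.{u}} {f : Y ⟶ Spec (CommRingCat.of (FractionRing R))} {g : Y ⟶ X}
  (hg : IsPullback g f p (Spec.map (CommRingCat.ofHom (algebraMap R (FractionRing R))))) (hH0 : IsIso f.appTop)
  [Nonempty Y]

omit [Flat p] in
include hg in
theorem not_isUnit_piG : ¬ IsUnit (piG p) := by
  intro hu
  obtain ⟨x, hx⟩ := fSet_nonempty hg
  exact (mem_genOpen_iff (p := p) (x := x)).1 (by
    show x ∈ X.basicOpen (piG p)
    rw [Scheme.basicOpen_of_isUnit _ hu]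
    trivial) hx

include hreg hg in
theorem gam_injective : Function.Injective (Blow97.gam p) := by
  rw [injective_iff_map_eq_zero]
  intro r h0
  by_contra hr
  obtain ⟨j, v, rfl⟩ := IsDiscreteValuationRing.eq_unit_mul_pow_irreducible hr (irreducible_unif R)
  rw [map_mul, map_pow] at h0
  have h1 : piG p ^ j = 0 :=
    (((Units.isUnit v).map (Blow97.gam p)).mul_right_eq_zero).1 h0
  obtain ⟨x, -⟩ := fSet_nonempty hg
  obtain ⟨z, hz, -⟩ := exists_genOpen_specializes (p := p) hreg x
  have h2 : IsUnit (X.presheaf.germ ⊤ z trivial (piG p)) := (X.mem_basicOpen (piG p) z trivial).1 hz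
  have h3 := h2.pow j
  rw [← map_pow, h1, map_zero] at h3
  exact not_isUnit_zero h3

include hreg hg hH0 in
/-- All global functions are constants. -/
theorem isIso_appTop : IsIso p.appTop := by
  have hinj := gam_injective hreg hg
  have hdiv : ∀ (j : ℕ) (t : Γ(X, ⊤)) (r : R), t * piG p ^ j = Blow97.gam p r →
      ∃ s, Blow97.gam p s = t := by
    intro j
    induction j with
    | zero => intro t r h; exact ⟨r, by rw [← h, pow_zero, mul_one]⟩
    | succ j ih =>
      intro t r h
      by_cases hru : IsUnit r
      · refine absurd ?_ (not_isUnit_piG hg)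
        refine isUnit_of_mul_isUnit_right (x := t * piG p ^ j) ?_
        rw [mul_assoc, ← pow_succ, h]
        exact hru.map _
      · have hr : r ∈ IsLocalRing.maximalIdeal R := (IsLocalRing.mem_maximalIdeal r).2 hru
        rw [maximalIdeal_eq, Ideal.mem_span_singleton] at hr
        obtain ⟨r', rfl⟩ := hr
        refine ih t r' (eq_of_res_genOpen (p := p) hreg ?_)
        have h1 : piG p * (t * piG p ^ j) = piG p * Blow97.gam p r' := by
          show _ = Blow97.gam p (unif R) * _
          rw [← map_mul, ← h, pow_succ]
          ring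
        have h' := congrArg (Blow97.res (genOpen p)) h1
        rw [map_mul, map_mul (Blow97.res (genOpen p)) (piG p)] at h'
        exact (isUnit_res_genOpen (p := p) le_rfl).mul_left_cancel h'
  have hbij : Function.Bijective (Blow97.gam p) := ⟨hinj, fun t => by
    obtain ⟨j, r, h⟩ := exists_pow_mul_eq hreg hg hH0 t
    exact hdiv j t r h⟩
  have h' : Function.Bijective p.appTop := by
    have hb := ConcreteCategory.bijective_of_isIso (Scheme.ΓSpecIso (CommRingCat.of R)).hom
    convert hbij.comp hb
    ext a
    show _ = p.appTop ((Scheme.ΓSpecIso (CommRingCat.of R)).inv ((Scheme.ΓSpecIso (CommRingCat.of R)).hom a))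
    rw [Iso.hom_inv_id_apply]
  exact (ConcreteCategory.isIso_iff_bijective _).2 h'

include hreg hg hH0 in
theorem isConnected_fSet : _root_.IsConnected (fSet p) :=
  haveI := isIso_appTop hreg hg hH0
  Stein58.isConnected_preimage_closedPoint p

end Groth.Agent.ModPic
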