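import Groth.Agent.ModPic.Degree
import Groth.Agent.ModPic.Connected
import Groth.Agent.CAlg9.NT.Form

/-!
The intersection matrix of the components of the special fibre.
-/

set_option autoImplicit false
set_option backward.isDefEq.respectTransparency.types false
set_option linter.style.haveILetI false

noncomputable section

universe u

open CategoryTheory CategoryTheory.Limits AlgebraicGeometry TopologicalSpace Opposite
open Groth.Agent

namespace Groth.Agent.ModPic

open scoped Groth.Agent.FGA29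

variable {R : Type u} [CommRing R] [IsDomain R] [IsDiscreteValuationRing R] {X : Scheme.{u}}
  {p : X ⟶ Spec (CommRingCat.of R)} [Flat p] [IsProper p] (hreg : Models.IsRegularScheme X)
  {n : ℕ} {C : Fin n → ArSurf.VertComp R (Over.mk p)}
  (hC : Models.IsComponentList R (Over.mk p) C) (L : Fin n → X.Modules)
  (hL : ∀ i, ClSub.IsInverseOf (L i) (ClSub.idealMod (cI (C i))))

/-- An entry of the intersection matrix. -/
local notation "aij" => fun i j => ArSurf.inter R (Over.mk p) (L j) (C i)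

/-- A multiplicity. -/
local notation "mu" => fun i => Models.mult R (Over.mk p) (C i)

include hreg hC hL in
theorem inter_sum_twist (j : Fin n) (a : Fin n → ℕ) :
    ∑ i, (a i : ℤ) * ArSurf.inter R (Over.mk p) (L j) (C i) =
      ArSurf.inter R (Over.mk p) (FGA.multiTwist L a) (C j) := by
  rw [(inter_multiTwist (C j) (isInvertible_L hreg hC L hL) a).2]
  exact Finset.sum_congr rfl fun i _ => by rw [inter_symm hC hreg L hL i j]

include hreg hC hL in
theorem sum_mult_inter (j : Fin n) :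
    ∑ i, (Models.mult R (Over.mk p) (C i) : ℤ) * ArSurf.inter R (Over.mk p) (L j) (C i) = 0 := by
  rw [inter_sum_twist hreg hC L hL j, ← inter_one (C j)]
  refine inter_congr (C j) (inter_multiTwist (C j) (isInvertible_L hreg hC L hL) _).1
    (Mero90.isInvertible_of_frames fun x => ⟨⊤, trivial, _, Amp73.isFrame_one ⊤⟩) ?_
  rw [FGA29.cl_multiTwist, prod_L_mult hreg hC L hL, FGA29.cl_one]

variable {Y : Scheme.{u}} {f : Y ⟶ Spec (CommRingCat.of (FractionRing R))} {g : Y ⟶ X}
  (hg : IsPullback g f p (Spec.map (CommRingCat.ofHom (algebraMap R (FractionRing R))))) (hH0 : IsIso f.appTop)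
  [Nonempty Y]

include hreg hC hL hg hH0 in
theorem exists_inter_ne_zero (I : Finset (Fin n)) (hI : I.Nonempty) (hI' : I ≠ Finset.univ) :
    ∃ i ∈ I, ∃ j ∉ I, ArSurf.inter R (Over.mk p) (L j) (C i) ≠ 0 := by
  by_contra h
  have h' : ∀ i ∈ I, ∀ j ∉ I, ArSurf.inter R (Over.mk p) (L j) (C i) = 0 := fun i hi j hj => by
    by_contra hne
    exact h ⟨i, hi, j, hj, hne⟩
  obtain ⟨i₀, hi₀⟩ := hI
  obtain ⟨j₀, hj₀⟩ : ∃ j, j ∉ I := by
    by_contra hall
    exact hI' (Finset.eq_univ_of_forall fun j => by_contra fun hj => hall ⟨j, hj⟩)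
  let A : Set X := ⋃ i ∈ (I : Set (Fin n)), cSet (C i)
  let B : Set X := ⋃ i ∈ ((I : Set (Fin n))ᶜ), cSet (C i)
  have hA : IsClosed A := Set.Finite.isClosed_biUnion (Set.toFinite _) fun i _ => isClosed_cSet (C i)
  have hB : IsClosed B := Set.Finite.isClosed_biUnion (Set.toFinite _) fun i _ => isClosed_cSet (C i)
  have hsub : fSet p ⊆ A ∪ B := fun x hx => by
    obtain ⟨i, hi⟩ := exists_mem_component hC hx
    by_cases hiI : i ∈ I
    · exact Or.inl (Set.mem_biUnion hiI hi)
    · exact Or.inr (Set.mem_biUnion hiI hi)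
  obtain ⟨x, -, hxA, hxB⟩ := isPreconnected_closed_iff.1 (isConnected_fSet hreg hg hH0).isPreconnected A B hA hB hsub
    ⟨cPt (C i₀), cI_subset_fSet hC i₀ (Set.mem_range_self _), Set.mem_biUnion hi₀ (Set.mem_range_self _)⟩
    ⟨cPt (C j₀), cI_subset_fSet hC j₀ (Set.mem_range_self _), Set.mem_biUnion hj₀ (Set.mem_range_self _)⟩
  simp only [A, B, Set.mem_iUnion] at hxA hxB
  obtain ⟨i, hi, hxi⟩ := hxA
  obtain ⟨j, hj, hxj⟩ := hxB
  have hij : i ≠ j := fun e => hj (e ▸ hi)
  exact Set.disjoint_left.1 ((inter_nonneg hC hreg L hL hij).2.1 (h' i hi j hj)) hxi hxj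

include hreg hC hL hg hH0 in
theorem form_real (x : Fin n → ℝ) :
    dotProduct x ((Matrix.of fun i j => (ArSurf.inter R (Over.mk p) (L j) (C i) : ℝ)).mulVec x) ≤ 0 ∧
      (dotProduct x ((Matrix.of fun i j => (ArSurf.inter R (Over.mk p) (L j) (C i) : ℝ)).mulVec x) = 0 ↔
        ∃ q : ℝ, x = q • fun i => (Models.mult R (Over.mk p) (C i) : ℝ)) := by
  refine CAlg9.NT.form _ _ (Matrix.IsSymm.ext fun i j => ?_) (fun i j hij => ?_)
    (fun i => ?_) (funext fun i => ?_) (fun I hI hI' => ?_) x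
  · simp only [Matrix.of_apply]
    rw [inter_symm hC hreg L hL i j]
  · exact Int.cast_nonneg (inter_nonneg hC hreg L hL hij).1
  · exact Nat.cast_pos.2 (mult_pos hreg hC i)
  · have h := congrArg (Int.cast (R := ℝ)) (sum_mult_inter hreg hC L hL i)
    push_cast at h
    simp only [Matrix.mulVec, dotProduct, Matrix.of_apply, Pi.zero_apply]
    rw [← h]
    exact Finset.sum_congr rfl fun j _ => by rw [inter_symm hC hreg L hL i j, mul_comm]
  · obtain ⟨i, hi, j, hj, hne⟩ := exists_inter_ne_zero hreg hC L hL hg hH0 I hI hI'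
    exact ⟨i, hi, j, hj, by simpa using hne⟩

theorem exists_rat_iff {m : Fin n → ℕ} (hm : ∀ i, 0 < m i) (a : Fin n → ℤ) :
    (∃ q : ℝ, (fun i => (a i : ℝ)) = q • fun i => (m i : ℝ)) ↔ ∃ c : ℚ, ∀ i, (a i : ℚ) = c * (m i : ℚ) := by
  constructor
  · rintro ⟨q, hq⟩
    rcases Nat.eq_zero_or_pos n with rfl | hn
    · exact ⟨0, fun i => i.elim0⟩
    let i₀ : Fin n := ⟨0, hn⟩
    refine ⟨(a i₀ : ℚ) / (m i₀ : ℚ), fun i => ?_⟩
    have h1 := congrFun hq i
    have h0 := congrFun hq i₀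
    simp only [Pi.smul_apply, smul_eq_mul] at h1 h0
    have hm0 : (m i₀ : ℝ) ≠ 0 := Nat.cast_ne_zero.2 (hm i₀).ne'
    have : ((a i : ℚ) : ℝ) = (((a i₀ : ℚ) / (m i₀ : ℚ) * (m i : ℚ) : ℚ) : ℝ) := by
      push_cast
      rw [h0, h1]
      field_simp
    exact_mod_cast this
  · rintro ⟨c, hc⟩
    refine ⟨(c : ℝ), funext fun i => ?_⟩
    have := congrArg (Rat.cast (K := ℝ)) (hc i)
    push_cast at this
    simpa using this

include hreg hC hL hg hH0 in
theorem form_int (a : Fin n → ℤ) :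
    (∑ q : Fin n × Fin n, a q.1 * a q.2 * ArSurf.inter R (Over.mk p) (L q.2) (C q.1)) ≤ 0 ∧
      ((∑ q : Fin n × Fin n, a q.1 * a q.2 * ArSurf.inter R (Over.mk p) (L q.2) (C q.1)) = 0 ↔
        ∃ c : ℚ, ∀ i, (a i : ℚ) = c * (Models.mult R (Over.mk p) (C i) : ℚ)) := by
  have h := form_real hreg hC L hL hg hH0 fun i => (a i : ℝ)
  have he : dotProduct (fun i => (a i : ℝ))
      ((Matrix.of fun i j => (ArSurf.inter R (Over.mk p) (L j) (C i) : ℝ)).mulVec fun i => (a i : ℝ)) =
      ((∑ q : Fin n × Fin n, a q.1 * a q.2 * ArSurf.inter R (Over.mk p) (L q.2) (C q.1) : ℤ) : ℝ) := by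
    simp only [dotProduct, Matrix.mulVec, Matrix.of_apply, Finset.mul_sum, Fintype.sum_prod_type, Int.cast_sum,
      Int.cast_mul]
    exact Finset.sum_congr rfl fun i _ => Finset.sum_congr rfl fun j _ => by ring
  rw [he] at h
  refine ⟨Int.cast_nonpos.1 h.1, ?_⟩
  rw [← exists_rat_iff (mult_pos hreg hC) a, ← h.2, Int.cast_eq_zero]

include hreg hC hL hg hH0 in
/-- The kernel of the intersection matrix. -/
theorem exists_rat_of_kernel (a : Fin n → ℤ)
    (h : ∀ i, ∑ j, a j * ArSurf.inter R (Over.mk p) (L j) (C i) = 0) :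
    ∃ c : ℚ, ∀ i, (a i : ℚ) = c * (Models.mult R (Over.mk p) (C i) : ℚ) := by
  refine (form_int hreg hC L hL hg hH0 a).2.1 ?_
  rw [Fintype.sum_prod_type]
  refine Finset.sum_eq_zero fun i _ => ?_
  rw [← mul_zero (a i), ← h i, Finset.mul_sum]
  exact Finset.sum_congr rfl fun j _ => mul_assoc _ _ _

end Groth.Agent.ModPic
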