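import Groth.Agent.ModPic.EulerLen
import Groth.Agent.ModPic.Intersection
import Groth.Agent.Var76.RegMaps
import Groth.Agent.Units47.Flat
import Groth.Agent.HypSq53.GraphDiv
import Mathlib.CategoryTheory.Abelian.DiagramLemmas.KernelCokernelComp

/-!
Euler characteristics of divisors supported in the special fibre.
-/

set_option autoImplicit false
set_option backward.isDefEq.respectTransparency.types false
set_option linter.style.haveILetI false

noncomputable section

universe u

open CategoryTheory CategoryTheory.Limits AlgebraicGeometry TopologicalSpace Opposite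
open Groth.Agent Groth.Agent.Var76.LineBundle
open scoped nonZeroDivisors

namespace Groth.Agent.ModPic

open scoped Groth.Agent.FGA29

section Seq

variable {X : Scheme.{u}}

/-- The cokernel of a mono in a short exact sequence. -/
def cokerIso {S : ShortComplex X.Modules} (hS : S.ShortExact) : cokernel S.f ≅ S.X₃ :=
  (cokernelIsCokernel S.f).coconePointUniqueUpToIso hS.gIsCokernel

theorem exists_idealInc_factor {I J : X.IdealSheafData} (hI : BlowUp.IsEffCartierIdeal I)
    (hJ : BlowUp.IsEffCartierIdeal J) :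
    ∃ e : CohB1.tensorMod (ClSub.idealMod I) (ClSub.idealMod J) ≅ ClSub.idealMod (I * J),
      e.hom ≫ ClSub.idealModι (I * J) = Var76.Reg.idealInc I (ClSub.idealMod J) ≫ ClSub.idealModι J := by
  let φ := Var76.Reg.idealInc I (ClSub.idealMod J) ≫ ClSub.idealModι J
  haveI : Mono (Var76.Reg.idealInc I (ClSub.idealMod J)) :=
    Var76.Reg.mono_idealInc I ((Curves2.isInvertible_idealMod_iff J).2 hJ)
  haveI : Mono φ := mono_comp _ _
  let ψ := ClSub.idealModι (I * J)
  have hfr : ∀ x : X, ∃ (U : X.Opens) (a : Γ(CohB1.tensorMod (ClSub.idealMod I) (ClSub.idealMod J), U))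
      (b : Γ(ClSub.idealMod (I * J), U)), x ∈ U ∧ IsFrame _ U a ∧ IsFrame _ U b ∧ φ.app U a = ψ.app U b := fun x => by
    obtain ⟨W₀, g₀, hxW₀, -, hg₀, hJ₀⟩ := exists_affine_span hJ (U := ⊤) x trivial
    obtain ⟨W, f, hxW, hle, hf, hIW⟩ := exists_affine_span hI x hxW₀
    let g := X.presheaf.map (homOfLE hle).op g₀
    have hg : g ∈ Γ(X, W.1)⁰ := Div89.res_mem_nonZeroDivisors hle hg₀
    have hJW : J.ideal W = Ideal.span {g} := Div89.ideal_res_span hle hJ₀
    have hIJ : (I * J).ideal W = Ideal.span {f * g} := by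
      rw [Scheme.IdealSheafData.ideal_mul, Pi.mul_apply, hIW, hJW, Ideal.span_singleton_mul_span_singleton]
    obtain ⟨a, ha⟩ := Curves2.exists_idealSect_of_mem I W (hIW ▸ Ideal.mem_span_singleton_self f)
    obtain ⟨b, hb⟩ := Curves2.exists_idealSect_of_mem J W (hJW ▸ Ideal.mem_span_singleton_self g)
    obtain ⟨c, hc⟩ := Curves2.exists_idealSect_of_mem (I * J) W (hIJ ▸ Ideal.mem_span_singleton_self (f * g))
    refine ⟨W.1, Amp73.tm _ _ a b, c, hxW,
      Amp73.isFrame_tm (Curves2.isFrame_of_span I W hf hIW a ha) (Curves2.isFrame_of_span J W hg hJW b hb),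
      Curves2.isFrame_of_span (I * J) W (mul_mem hf hg) hIJ c hc, ?_⟩
    show (ClSub.idealModι J).app W.1 ((Var76.Reg.idealInc I _).app W.1 (Amp73.tm _ _ a b)) = _
    rw [Var76.Reg.idealInc_tm, ha, Scheme.Modules.Hom.app_smul]
    show f * OmegaSh.idealSect J W.1 b = OmegaSh.idealSect (I * J) W.1 c
    rw [hb, hc]
  have hA : φ ≫ cokernel.π ψ = 0 := eq_zero_of_frames _ fun x => by
    obtain ⟨U, a, b, hx, ha, -, hab⟩ := hfr x
    refine ⟨U, a, hx, ha, ?_⟩
    show (cokernel.π ψ).app U (φ.app U a) = 0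
    rw [hab]
    exact congr($(cokernel.condition ψ).app U b)
  haveI : IsIso (Abelian.monoLift ψ φ hA) := Amp73.isIso_of_frames _ fun x => by
    obtain ⟨U, a, b, hx, ha, hb, hab⟩ := hfr x
    refine ⟨U, a, hx, ha, ?_⟩
    have e : (Abelian.monoLift ψ φ hA).app U a = b := QC70.app_injective_of_mono ψ U (by
      rw [← hab]
      exact congr($(Abelian.monoLift_comp ψ φ hA).app U a))
    rw [e]; exact hb
  exact ⟨asIso (Abelian.monoLift ψ φ hA), Abelian.monoLift_comp ψ φ hA⟩

/-- `0 → O_I ⊗ O(-J) → O_{I J} → O_J → 0`. -/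
theorem exists_seq_mul {I J : X.IdealSheafData} (hI : BlowUp.IsEffCartierIdeal I) (hJ : BlowUp.IsEffCartierIdeal J) :
    ∃ T : ShortComplex X.Modules, T.ShortExact ∧
      Nonempty (T.X₁ ≅ CohB1.tensorMod (ClSub.quotMod I) (ClSub.idealMod J)) ∧
      Nonempty (T.X₂ ≅ ClSub.quotMod (I * J)) ∧ Nonempty (T.X₃ ≅ ClSub.quotMod J) := by
  obtain ⟨e, he⟩ := exists_idealInc_factor hI hJ
  have hJi := (Curves2.isInvertible_idealMod_iff J).2 hJ
  let α := Var76.Reg.idealInc I (ClSub.idealMod J)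
  let β := ClSub.idealModι J
  haveI : Mono β := mono_idealModι J
  let S := kernelCokernelCompSequence.snakeInput α β
  haveI : Epi S.L₂.g := inferInstanceAs (Epi (biprod.snd : ClSub.idealMod J ⊞ Coh.structureModule X ⟶ _))
  haveI : Epi S.L₃.g := S.epi_L₃_g
  haveI : Mono S.L₃.f := by
    refine S.L₂'_exact.mono_g (IsZero.eq_of_src ?_ _ _)
    exact isZero_kernel_of_mono β
  obtain ⟨w, hT⟩ := Var76.Reg.shortExact_whiskR hJi (Crv77.idealSeq_shortExact I)
  refine ⟨S.L₃, { exact := S.L₃_exact }, ⟨?_⟩, ⟨?_⟩, ⟨cokerIso (Crv77.idealSeq_shortExact J)⟩⟩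
  · show cokernel (Var76.Reg.whiskR (ClSub.idealModι I) (ClSub.idealMod J) ≫ (EGA73.tensUnitLeft _).hom) ≅ _
    exact cokernelCompIsIso _ _ ≪≫ cokerIso hT
  · show cokernel (α ≫ β) ≅ _
    exact cokernelIsoOfEq he.symm ≪≫ cokernelEpiComp _ _ ≪≫ cokerIso (Crv77.idealSeq_shortExact (I * J))

end Seq

variable {R : Type u} [CommRing R] [IsDomain R] [IsDiscreteValuationRing R] {X : Scheme.{u}}
  {p : X ⟶ Spec (CommRingCat.of R)} [Flat p] [IsProper p] (hreg : Models.IsRegularScheme X)
  {n : ℕ} {C : Fin n → ArSurf.VertComp R (Over.mk p)}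
  (hC : Models.IsComponentList R (Over.mk p) C) (L : Fin n → X.Modules)
  (hL : ∀ i, ClSub.IsInverseOf (L i) (ClSub.idealMod (cI (C i))))

omit [Flat p] in
include hC in
theorem finLen_quotMod {Z : X.IdealSheafData} (hZ : fIdeal p ≤ Z) : FinLen p (ClSub.quotMod Z) := by
  haveI : IsClosedImmersion (Spec.map (CommRingCat.ofHom (IsLocalRing.residue R))) :=
    IsClosedImmersion.spec_of_surjective _ IsLocalRing.residue_surjective
  have hle : (Spec.map (CommRingCat.ofHom (IsLocalRing.residue R))).ker ≤ (Z.subschemeι ≫ p).ker := by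
    rw [Scheme.Hom.ker_comp, Scheme.IdealSheafData.ker_subschemeι, Scheme.IdealSheafData.le_map_iff_comap_le]
    refine le_trans (le_of_eq ?_) hZ
    rw [Units47.ker_specMap, IsLocalRing.ker_residue]
    rfl
  refine finLen_push p Z.subschemeι (IsClosedImmersion.lift (Spec.map (CommRingCat.ofHom (IsLocalRing.residue R))) (Z.subschemeι ≫ p) hle) (IsClosedImmersion.lift_fac (Spec.map (CommRingCat.ofHom (IsLocalRing.residue R))) (Z.subschemeι ≫ p) hle).symm
    (dim_le_one_of_fibre hC Z.subschemeι ?_) _ Crv77.isCoh_structureModule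
  rw [Z.range_subschemeι, ← support_specialFibreIdeal p]
  exact Scheme.IdealSheafData.support_antitone hZ

include hreg hC hL in
theorem inter_idealMod_prod (a : Fin n → ℕ) (i : Fin n) :
    ArSurf.inter R (Over.mk p) (ClSub.idealMod (∏ j, cI (C j) ^ a j)) (C i) =
      - ∑ j, (a j : ℤ) * ArSurf.inter R (Over.mk p) (L i) (C j) := by
  have hZ : BlowUp.IsEffCartierIdeal (∏ j, cI (C j) ^ a j) :=
    Div89.DivProd.isEffCartier_prod _ _ fun j _ => isEffCartier_pow (isEffCartier_cI hC hreg j) _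
  have hI := (Curves2.isInvertible_idealMod_iff _).2 hZ
  have hT := inter_multiTwist (C i) (isInvertible_L hreg hC L hL) a
  have h := inter_tensor (C i) hT.1 hI
  rw [inter_congr (C i) (EGA73.isInvertible_tensorMod hT.1 hI)
    (Mero90.isInvertible_of_frames fun x => ⟨⊤, trivial, _, Amp73.isFrame_one ⊤⟩) (by
      rw [FGA29.cl_tensor, FGA29.cl_multiTwist, cl_idealMod_prod_pow _ (isEffCartier_cI hC hreg),
        prod_L_mul (C := C) L hL, FGA29.cl_one]), inter_one, hT.2] at h
  have e : ∑ j, (a j : ℤ) * ArSurf.inter R (Over.mk p) (L j) (C i) =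
      ∑ j, (a j : ℤ) * ArSurf.inter R (Over.mk p) (L i) (C j) :=
    Finset.sum_congr rfl fun j _ => by rw [inter_symm hC hreg L hL i j]
  linarith

include hreg hC in
theorem fIdeal_le_prod {a : Fin n → ℕ} (ha : ∀ j, a j ≤ Models.mult R (Over.mk p) (C j)) :
    fIdeal p ≤ ∏ j, cI (C j) ^ a j := by
  rw [fIdeal_eq_prod hC hreg]
  calc ∏ j, cI (C j) ^ Models.mult R (Over.mk p) (C j)
      = (∏ j, cI (C j) ^ a j) * ∏ j, cI (C j) ^ (Models.mult R (Over.mk p) (C j) - a j) := by
        rw [← Finset.prod_mul_distrib]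
        exact Finset.prod_congr rfl fun j _ => by rw [← pow_add, Nat.add_sub_cancel' (ha j)]
    _ ≤ _ := fun U => by rw [Scheme.IdealSheafData.ideal_mul]; exact Ideal.mul_le_left

theorem prod_pow_add_single (C : Fin n → ArSurf.VertComp R (Over.mk p)) (a : Fin n → ℕ) (i : Fin n) :
    ∏ j, cI (C j) ^ (a j + if j = i then 1 else 0) = cI (C i) * ∏ j, cI (C j) ^ a j := by
  simp only [pow_add, Finset.prod_mul_distrib]
  rw [mul_comm]
  congr 1
  rw [Finset.prod_eq_single i (fun j _ hj => by simp [hj]) (fun h => absurd (Finset.mem_univ i) h)]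
  simp

include hreg hC hL in
/-- Adding one component to a divisor. -/
theorem chiLen_step (a : Fin n → ℕ) (i : Fin n)
    (ha : ∀ j, a j + (if j = i then 1 else 0) ≤ Models.mult R (Over.mk p) (C j)) :
    chiLen p (ClSub.quotMod (∏ j, cI (C j) ^ (a j + if j = i then 1 else 0))) -
        chiLen p (ClSub.quotMod (∏ j, cI (C j) ^ a j)) =
      -(∑ j, (a j : ℤ) * ArSurf.inter R (Over.mk p) (L i) (C j)) +
        ((Models.wdeg R (Over.mk p) (C i) : ℤ) - (Models.h1 R (Over.mk p) (C i) : ℤ)) := by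
  let Z := ∏ j, cI (C j) ^ a j
  have hZ : BlowUp.IsEffCartierIdeal Z :=
    Div89.DivProd.isEffCartier_prod _ _ fun j _ => isEffCartier_pow (isEffCartier_cI hC hreg j) _
  have hZi := (Curves2.isInvertible_idealMod_iff Z).2 hZ
  obtain ⟨T, hT, ⟨e₁⟩, ⟨e₂⟩, ⟨e₃⟩⟩ := exists_seq_mul (isEffCartier_cI hC hreg i) hZ
  haveI := isProper_curve (C i)
  obtain ⟨q⟩ := HypSq53.nonempty_quotMod_iso (cι (C i))
  obtain ⟨r⟩ := Curves2.Ample.nonempty_push_unit_tensor (cι (C i)) hZi
  let e₁' : T.X₁ ≅ (Scheme.Modules.pushforward (cι (C i))).obj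
      ((Scheme.Modules.pullback (cι (C i))).obj (ClSub.idealMod Z)) :=
    e₁ ≪≫ EGA73.tensIso q.symm (Iso.refl _) ≪≫ r
  have hP := Amp73.isCoh_of_isInvertible (Amp73.isInvertible_pullback (cι (C i)) hZi)
  have h1 := finLen_push p (cι (C i)) (C i).curve.hom (C i).w (C i).dim_eq.le _ hP
  have hle1 : fIdeal p ≤ cI (C i) * Z := (prod_pow_add_single C a i) ▸ fIdeal_le_prod hreg hC ha
  have hle2 : fIdeal p ≤ Z := fIdeal_le_prod hreg hC fun j => le_trans (Nat.le_add_right _ _) (ha j)
  have hadd := chiLen_add p hT (h1.congr p e₁'.symm) ((finLen_quotMod hC hle1).congr p e₂.symm)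
    ((finLen_quotMod hC hle2).congr p e₃.symm)
  rw [chiLen_congr p e₁', chiLen_congr p e₂, chiLen_congr p e₃,
    chiLen_push p (cι (C i)) (C i).curve.hom (C i).w (C i).dim_eq.le _ hP] at hadd
  rw [prod_pow_add_single]
  have hd := inter_eq_deg (C i) hZi
  rw [inter_idealMod_prod hreg hC L hL a i, Curv2.deg, Nat.cast_one, one_mul] at hd
  have he : Curv2.euler (IsLocalRing.ResidueField R) (C i).curve.left (Coh.structureModule (C i).curve.left) =
      (Models.wdeg R (Over.mk p) (C i) : ℤ) - (Models.h1 R (Over.mk p) (C i) : ℤ) :=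
    (curveCoh (C i)).euler_eq Crv77.isCoh_structureModule
  linarith

end Groth.Agent.ModPic
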