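import Groth.Agent.ModPic.Kernel

/-!
Class relations between twists by components.
-/

set_option autoImplicit false
set_option backward.isDefEq.respectTransparency.types false
set_option linter.style.haveILetI false

noncomputable section

universe u

open CategoryTheory CategoryTheory.Limits AlgebraicGeometry TopologicalSpace Opposite
open Groth.Agent Groth.Agent.Var76.LineBundle

namespace Groth.Agent.ModPic

open scoped Groth.Agent.FGA29

variable {R : Type u} [CommRing R] [IsDomain R] [IsDiscreteValuationRing R] {X : Scheme.{u}}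
  {p : X ⟶ Spec (CommRingCat.of R)} [Flat p] [LocallyOfFiniteType p] [QuasiCompact p]
  (hreg : Models.IsRegularScheme X) {n : ℕ} {C : Fin n → ArSurf.VertComp R (Over.mk p)}
  (hC : Models.IsComponentList R (Over.mk p) C) (L : Fin n → X.Modules)
  (hL : ∀ i, ClSub.IsInverseOf (L i) (ClSub.idealMod (cI (C i))))

omit [Flat p] [LocallyOfFiniteType p] [QuasiCompact p] in
include hL in
theorem cl_L_mul (i : Fin n) : PicF.cl (L i) * PicF.cl (ClSub.idealMod (cI (C i))) = 1 :=
  cl_mul_eq_one_of_isInverseOf (hL i)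

omit [Flat p] [LocallyOfFiniteType p] [QuasiCompact p] in
include hL in
theorem prod_L_mul (a : Fin n → ℕ) :
    (∏ i, PicF.cl (L i) ^ a i) * ∏ i, PicF.cl (ClSub.idealMod (cI (C i))) ^ a i = 1 := by
  rw [← Finset.prod_mul_distrib]
  exact Finset.prod_eq_one fun i _ => by rw [← mul_pow, cl_L_mul L hL i, one_pow]

include hreg hC hL in
/-- The divisor of the special fibre is trivial. -/
theorem prod_L_mult : ∏ i, PicF.cl (L i) ^ Models.mult R (Over.mk p) (C i) = 1 := by
  have := prod_L_mul (C := C) L hL fun i => Models.mult R (Over.mk p) (C i)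
  rwa [cl_fibre_eq_one hreg hC, mul_one] at this

include hreg hC hL in
/-- The kernel of restriction to the generic fibre is generated by the components. -/
theorem exists_cl_eq_prod {Y : Scheme.{u}} {f : Y ⟶ Spec (CommRingCat.of (FractionRing R))} {g : Y ⟶ X}
    (hg : IsPullback g f p (Spec.map (CommRingCat.ofHom (algebraMap R (FractionRing R))))) {M : X.Modules}
    (hM : PicF.IsInvertible M) (htriv : Nonempty ((Scheme.Modules.pullback g).obj M ≅ Coh.structureModule Y)) :
    ∃ a : Fin n → ℕ, PicF.cl M = ∏ i, PicF.cl (L i) ^ a i := by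
  obtain ⟨e, he⟩ := exists_frame_genOpen hg htriv
  obtain ⟨a, ha⟩ := exists_cl_of_frame hreg hC hM e he
  refine ⟨a, ?_⟩
  calc PicF.cl M = PicF.cl M * ((∏ i, PicF.cl (L i) ^ a i) *
        ∏ i, PicF.cl (ClSub.idealMod (cI (C i))) ^ a i) := by rw [prod_L_mul (C := C) L hL, mul_one]
    _ = (PicF.cl M * ∏ i, PicF.cl (ClSub.idealMod (cI (C i))) ^ a i) * ∏ i, PicF.cl (L i) ^ a i := by
      rw [mul_assoc, mul_comm (∏ i, PicF.cl (L i) ^ a i)]
    _ = _ := by rw [ha, one_mul]

omit [Flat p] [LocallyOfFiniteType p] [QuasiCompact p] in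
theorem nonempty_twist_iso {M : X.Modules} (a : Fin n → ℕ) (h : PicF.cl M = ∏ i, PicF.cl (L i) ^ a i) :
    Nonempty (CohB1.tensorMod M (FGA.multiTwist L fun _ => 0) ≅ FGA.multiTwist L a) :=
  FGA29.nonempty_iso_of_cl (by
    rw [FGA29.cl_tensor, FGA29.cl_multiTwist, FGA29.cl_multiTwist, h]
    simp)

omit [Flat p] [LocallyOfFiniteType p] [QuasiCompact p] in
theorem cl_pullback_hom {Y : Scheme.{u}} (g : Y ⟶ X) {M N : X.Modules} (hM : PicF.IsInvertible M)
    (hN : PicF.IsInvertible N) : PicF.cl ((Scheme.Modules.pullback g).obj (CohB1.tensorMod M N)) =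
      PicF.cl ((Scheme.Modules.pullback g).obj M) * PicF.cl ((Scheme.Modules.pullback g).obj N) :=
  haveI := Amp73.isIso_pullTensHom g hM hN
  Quot.sound ⟨asIso (Amp73.pullTensHom g M N)⟩

omit [Flat p] [LocallyOfFiniteType p] [QuasiCompact p] in
theorem cl_pullback_congr {Y : Scheme.{u}} (g : Y ⟶ X) {M N : X.Modules} (h : PicF.cl M = PicF.cl N) :
    PicF.cl ((Scheme.Modules.pullback g).obj M) = PicF.cl ((Scheme.Modules.pullback g).obj N) :=
  Quot.sound ⟨(Scheme.Modules.pullback g).mapIso (FGA29.nonempty_iso_of_cl h).some⟩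

omit [Flat p] [LocallyOfFiniteType p] [QuasiCompact p] in
theorem cl_pullback_one {Y : Scheme.{u}} (g : Y ⟶ X) :
    PicF.cl ((Scheme.Modules.pullback g).obj (Coh.structureModule X)) = 1 :=
  Quot.sound ⟨PicLoc.pullbackStructureIso g⟩

omit [Flat p] [LocallyOfFiniteType p] [QuasiCompact p] in
theorem cl_pullback_pow {Y : Scheme.{u}} (g : Y ⟶ X) {M : X.Modules} (hM : PicF.IsInvertible M) (k : ℕ) :
    PicF.cl ((Scheme.Modules.pullback g).obj (CohB1.tensorPow M k)) =
      PicF.cl ((Scheme.Modules.pullback g).obj M) ^ k :=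
  (Quot.sound ⟨Amp73.pullPowIso g hM k⟩ : PicF.cl _ = PicF.cl (CohB1.tensorPow _ k)).trans (FGA29.cl_tensorPow _ k)

end Groth.Agent.ModPic
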