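import Groth.Agent.ModPic.Twists
import Groth.Agent.Curves2.Ample.ClosedPush
import Groth.Agent.Crv77.TwistSection

/-!
Intersection numbers with components of the special fibre.
-/

set_option autoImplicit false
set_option backward.isDefEq.respectTransparency.types false
set_option linter.style.haveILetI false

noncomputable section

universe u

open CategoryTheory CategoryTheory.Limits AlgebraicGeometry TopologicalSpace Opposite
open Groth.Agent Groth.Agent.Var76.LineBundle
open scoped nonZeroDivisors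

namespace Groth.Agent.ModPic

open scoped Groth.Agent.FGA29

theorem nonempty_iso_of_frames {X : Scheme.{u}} {A B N : X.Modules} (φ : A ⟶ N) (ψ : B ⟶ N) [Mono ψ]
    (h : ∀ x : X, ∃ (U : X.Opens) (a : Γ(A, U)) (b : Γ(B, U)),
      x ∈ U ∧ IsFrame A U a ∧ IsFrame B U b ∧ φ.app U a = ψ.app U b) : Nonempty (A ≅ B) := by
  have hA : φ ≫ cokernel.π ψ = 0 := eq_zero_of_frames _ fun x => by
    obtain ⟨U, a, b, hx, ha, -, hab⟩ := h x
    refine ⟨U, a, hx, ha, ?_⟩
    show (cokernel.π ψ).app U (φ.app U a) = 0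
    rw [hab]
    exact congr($(cokernel.condition ψ).app U b)
  haveI : IsIso (Abelian.monoLift ψ φ hA) := Amp73.isIso_of_frames _ fun x => by
    obtain ⟨U, a, b, hx, ha, hb, hab⟩ := h x
    refine ⟨U, a, hx, ha, ?_⟩
    have e : (Abelian.monoLift ψ φ hA).app U a = b := QC70.app_injective_of_mono ψ U (by
      rw [← hab]
      exact congr($(Abelian.monoLift_comp ψ φ hA).app U a))
    rw [e]; exact hb
  exact ⟨asIso (Abelian.monoLift ψ φ hA)⟩

/-- The inverse image of the module of an effective Cartier ideal. -/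
theorem cl_pullback_idealMod {X Z : Scheme.{u}} (f : Z ⟶ X) [IsAffineHom f] {I : X.IdealSheafData}
    (hI : BlowUp.IsEffCartierIdeal I) (hI' : BlowUp.IsEffCartierIdeal (I.comap f)) :
    PicF.cl ((Scheme.Modules.pullback f).obj (ClSub.idealMod I)) = PicF.cl (ClSub.idealMod (I.comap f)) := by
  have hinv := (Curves2.isInvertible_idealMod_iff I).2 hI
  refine Quot.sound (nonempty_iso_of_frames
    ((Scheme.Modules.pullback f).map (ClSub.idealModι I) ≫ (PicLoc.pullbackStructureIso f).hom)
    (ClSub.idealModι (I.comap f)) fun z => ?_)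
  obtain ⟨W₀, a₀, hzW₀, -, ha₀, hIW₀⟩ := exists_affine_span hI (U := ⊤) (f.base z) trivial
  obtain ⟨V₁, hzV₁, g₁, hg₁, hI₁⟩ := hI' z
  let V₀ : Z.affineOpens := ⟨f ⁻¹ᵁ W₀.1, W₀.2.preimage f⟩
  let g : Γ(Z, V₀.1) := f.app W₀.1 a₀
  have hV₀ : (I.comap f).ideal V₀ = Ideal.span {g} := by
    rw [MP99.ideal_comap I f W₀ V₀ le_rfl, hIW₀, Ideal.map_span, Set.image_singleton, Scheme.Hom.appLE_eq_app]
  have hg : g ∈ Γ(Z, V₀.1)⁰ := Div89.mem_nonZeroDivisors_of_germ V₀ g fun x hx => by
    obtain ⟨c, hc, hcI⟩ := Div89.exists_stalk_generator hI' x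
    exact Div89.generator_mem_nonZeroDivisors hc ((Div89.stalkIdeal_eq_span hV₀ x hx).symm.trans hcI)
  obtain ⟨e, he⟩ := Curves2.exists_idealSect_of_mem I W₀ (hIW₀ ▸ Ideal.mem_span_singleton_self a₀)
  obtain ⟨b, hb⟩ := Curves2.exists_idealSect_of_mem (I.comap f) V₀ (hV₀ ▸ Ideal.mem_span_singleton_self g)
  refine ⟨V₀.1, Amp73.pullS f _ W₀.1 e, b, hzW₀,
    Amp73.isFrame_pullS f hinv (Curves2.isFrame_of_span I W₀ ha₀ hIW₀ e he),
    Curves2.isFrame_of_span _ V₀ hg hV₀ b hb, ?_⟩
  show (PicLoc.pullbackStructureIso f).hom.app _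
    (((Scheme.Modules.pullback f).map (ClSub.idealModι I)).app _ (Amp73.pullS f _ W₀.1 e)) = _
  rw [Amp73.map_app_pullS]
  have h1 : (ClSub.idealModι I).app W₀.1 e = a₀ • ((1 : Γ(X, W₀.1)) : Γ(Coh.structureModule X, W₀.1)) :=
    he.trans (mul_one a₀).symm
  rw [h1]
  erw [Amp73.pullS_smul, Scheme.Modules.Hom.app_smul, Amp73.pullbackStructureIso_pullS]
  exact (mul_one g).trans hb.symm

/-- The degree of the ideal of a closed subscheme. -/
theorem euler_idealMod_eq {k : Type u} [Field k] {T : Scheme.{u}} [T.Over (Spec (CommRingCat.of k))]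
    [IsProper (T ↘ Spec (CommRingCat.of k))] [IsLocallyNoetherian T] (hT : Crv77.CurveCoh k T) (Z : T.IdealSheafData)
    [Z.subscheme.Over (Spec (CommRingCat.of k))]
    (hov : Z.subschemeι ≫ (T ↘ Spec (CommRingCat.of k)) = Z.subscheme ↘ Spec (CommRingCat.of k)) :
    Curv2.euler k T (Coh.structureModule T) - Curv2.euler k T (ClSub.idealMod Z) =
      Curv2.euler k Z.subscheme (Coh.structureModule Z.subscheme) := by
  have h2 := hT.euler_add (Crv77.idealSeq_shortExact Z) (Crv77.isCoh_idealMod Z) Crv77.isCoh_structureModule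
  have h3 := Curves2.Ample.euler_push k Z.subschemeι hov (Coh.structureModule Z.subscheme) Crv77.isCoh_structureModule
  change Curv2.euler k T (Coh.structureModule T) = Curv2.euler k T (ClSub.idealMod Z) + Curv2.euler k T (ClSub.quotMod Z) at h2
  change Curv2.euler k T (ClSub.quotMod Z) = _ at h3
  linarith

variable {R : Type u} [CommRing R] [IsDomain R] [IsDiscreteValuationRing R] {X : Scheme.{u}}
  {p : X ⟶ Spec (CommRingCat.of R)}

/-- The residue field. -/
local notation "κ" => IsLocalRing.ResidueField R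

theorem isProper_curve [IsProper p] (Γ : ArSurf.VertComp R (Over.mk p)) :
    IsProper (Γ.curve.left ↘ Spec (CommRingCat.of κ)) := by
  have h : cι Γ ≫ p = Γ.curve.hom ≫ Spec.map (CommRingCat.ofHom (IsLocalRing.residue R)) := Γ.w
  haveI : IsProper (Γ.curve.hom ≫ Spec.map (CommRingCat.ofHom (IsLocalRing.residue R))) := by
    rw [← h]; infer_instance
  exact IsProper.of_comp Γ.curve.hom (Spec.map (CommRingCat.ofHom (IsLocalRing.residue R)))

variable [IsProper p]

theorem curveCoh (Γ : ArSurf.VertComp R (Over.mk p)) : Crv77.CurveCoh κ Γ.curve.left :=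
  haveI := isProper_curve Γ
  Crv77.curveCoh_of_proper κ Γ.curve.left Γ.dim_eq.le

theorem inter_eq_deg (Γ : ArSurf.VertComp R (Over.mk p)) {M : X.Modules} (hM : PicF.IsInvertible M) :
    ArSurf.inter R (Over.mk p) M Γ = Curv2.deg κ Γ.curve.left ((Scheme.Modules.pullback (cι Γ)).obj M) 1 := by
  haveI := isProper_curve Γ
  have hd : topologicalKrullDim Γ.curve.left ≤ (1 : ℕ) := by simpa using Γ.dim_eq.le
  show FGA.eulerCharLE κ Γ.curve.left ((Scheme.Modules.pullback (cι Γ)).obj M) 1 - _ = _
  rw [FGA29.eulerCharLE_eq_euler κ hd (Crv77.isCoh_of_isInvertible (Amp73.isInvertible_pullback _ hM)),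
    FGA29.eulerCharLE_eq_euler κ hd Crv77.isCoh_structureModule, Curv2.deg, Nat.cast_one, one_mul]

theorem inter_congr (Γ : ArSurf.VertComp R (Over.mk p)) {M N : X.Modules} (hM : PicF.IsInvertible M)
    (hN : PicF.IsInvertible N) (h : PicF.cl M = PicF.cl N) :
    ArSurf.inter R (Over.mk p) M Γ = ArSurf.inter R (Over.mk p) N Γ := by
  rw [inter_eq_deg Γ hM, inter_eq_deg Γ hN, Curv2.deg, Curv2.deg,
    Crv77.euler_congr ((Scheme.Modules.pullback (cι Γ)).mapIso (FGA29.nonempty_iso_of_cl h).some)]

theorem inter_one (Γ : ArSurf.VertComp R (Over.mk p)) :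
    ArSurf.inter R (Over.mk p) (Coh.structureModule X) Γ = 0 := by
  rw [inter_eq_deg Γ (Mero90.isInvertible_of_frames fun x => ⟨⊤, trivial, _, Amp73.isFrame_one ⊤⟩), Curv2.deg,
    Crv77.euler_congr (PicLoc.pullbackStructureIso (cι Γ)), Nat.cast_one, one_mul, sub_self]

theorem inter_tensor (Γ : ArSurf.VertComp R (Over.mk p)) {M N : X.Modules} (hM : PicF.IsInvertible M)
    (hN : PicF.IsInvertible N) :
    ArSurf.inter R (Over.mk p) (CohB1.tensorMod M N) Γ =
      ArSurf.inter R (Over.mk p) M Γ + ArSurf.inter R (Over.mk p) N Γ := by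
  haveI := isProper_curve Γ
  haveI := Crv77.isNoetherian_of_proper κ Γ.curve.left
  haveI := Amp73.isIso_pullTensHom (cι Γ) hM hN
  rw [inter_eq_deg Γ (EGA73.isInvertible_tensorMod hM hN), inter_eq_deg Γ hM, inter_eq_deg Γ hN,
    ← (curveCoh Γ).deg_tensorMod Γ.dim_eq.le (Amp73.isInvertible_pullback _ hM) (Amp73.isInvertible_pullback _ hN),
    Curv2.deg, Curv2.deg, Crv77.euler_congr (asIso (Amp73.pullTensHom (cι Γ) M N))]

theorem inter_pow (Γ : ArSurf.VertComp R (Over.mk p)) {M : X.Modules} (hM : PicF.IsInvertible M) :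
    ∀ k : ℕ, ArSurf.inter R (Over.mk p) (CohB1.tensorPow M k) Γ = k * ArSurf.inter R (Over.mk p) M Γ
  | 0 => by
    show ArSurf.inter R (Over.mk p) (Coh.structureModule X) Γ = _
    rw [inter_one, Nat.cast_zero, zero_mul]
  | k + 1 => by
    rw [CohB1.tensorPow, inter_tensor Γ (EGA73.isInvertible_tensorPow hM k) hM, inter_pow Γ hM k]
    push_cast
    ring

theorem inter_multiTwist (Γ : ArSurf.VertComp R (Over.mk p)) {n : ℕ} {L : Fin n → X.Modules}
    (hL : ∀ i, PicF.IsInvertible (L i)) (a : Fin n → ℕ) :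
    PicF.IsInvertible (FGA.multiTwist L a) ∧
      ArSurf.inter R (Over.mk p) (FGA.multiTwist L a) Γ = ∑ i, (a i : ℤ) * ArSurf.inter R (Over.mk p) (L i) Γ := by
  have key : ∀ l : List (Fin n), PicF.IsInvertible (FGA.tensorList (l.map fun i => CohB1.tensorPow (L i) (a i))) ∧
      ArSurf.inter R (Over.mk p) (FGA.tensorList (l.map fun i => CohB1.tensorPow (L i) (a i))) Γ =
        (l.map fun i => (a i : ℤ) * ArSurf.inter R (Over.mk p) (L i) Γ).sum := by
    intro l
    induction l with
    | nil => exact ⟨Mero90.isInvertible_of_frames fun x => ⟨⊤, trivial, _, Amp73.isFrame_one ⊤⟩, inter_one Γ⟩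
    | cons i l ih =>
      have hi := EGA73.isInvertible_tensorPow (hL i) (a i)
      refine ⟨EGA73.isInvertible_tensorMod hi ih.1, ?_⟩
      show ArSurf.inter R (Over.mk p) (CohB1.tensorMod _ _) Γ = _
      rw [inter_tensor Γ hi ih.1, inter_pow Γ (hL i), ih.2, List.map_cons, List.sum_cons]
  refine ⟨(key _).1, (key _).2.trans ?_⟩
  rw [← Fin.sum_univ_def]

section Pair

variable {n : ℕ} {C : Fin n → ArSurf.VertComp R (Over.mk p)} (hC : Models.IsComponentList R (Over.mk p) C)
  [Flat p] (hreg : Models.IsRegularScheme X)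

/-- The intersection scheme of two components, inside the first. -/
abbrev cross (i j : Fin n) : (C i).curve.left.IdealSheafData := (cI (C j)).comap (cι (C i))

omit [IsProper p] [Flat p] in
theorem mem_cross_support (i j : Fin n) (x : (C i).curve.left) :
    x ∈ (cross i j : (C i).curve.left.IdealSheafData).support ↔ (cι (C i)).base x ∈ cSet (C j) := by
  rw [← mem_support_cI, ← SetLike.mem_coe, Scheme.IdealSheafData.support_comap, TopologicalSpace.Closeds.coe_preimage]
  rfl

include hC hreg in
theorem isEffCartier_cross {i j : Fin n} (hij : i ≠ j) : BlowUp.IsEffCartierIdeal (cross (C := C) i j) := by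
  refine Div89.isEffCartier_comap_of_stalk _ (isEffCartier_cI hC hreg j) fun x g _ hg => ?_
  refine mem_nonZeroDivisors_of_ne_zero fun h0 => hij ((cPt_mem_iff hC i j).1 ?_)
  let η := genericPoint (C i).curve.left
  have hs : η ⤳ x := genericPoint_specializes x
  have hs' : (cι (C i)).base η ⤳ (cι (C i)).base x := hs.map (cι (C i)).continuous
  rw [← mem_support_cI, Div89.mem_support_iff_stalkIdeal, Div89.PullInj.stalkIdeal_specializes _ hs', hg,
    Ideal.map_span, Set.image_singleton, Ideal.span_singleton_le_iff_mem, IsLocalRing.mem_maximalIdeal]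
  intro hu
  have h1 := hu.map ((cι (C i)).stalkMap η).hom
  have h2 := ConcreteCategory.congr_hom (Scheme.Hom.stalkSpecializes_stalkMap (cι (C i)) η x hs) g
  change ((cι (C i)).stalkMap η).hom ((X.presheaf.stalkSpecializes hs').hom g) =
    ((C i).curve.left.presheaf.stalkSpecializes hs).hom (((cι (C i)).stalkMap x).hom g) at h2
  rw [h2, h0, map_zero] at h1
  exact not_isUnit_zero h1

/-- The common part of two components, as a scheme over the residue field. -/
abbrev crossOver (i j : Fin n) : Over (Spec (CommRingCat.of κ)) :=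
  Over.mk ((cross i j : (C i).curve.left.IdealSheafData).subschemeι ≫ (C i).curve.hom)

/-- The two intersection schemes agree. -/
theorem exists_crossIso (i j : Fin n) :
    ∃ e : (crossOver (C := C) i j).left ≅ (crossOver (C := C) j i).left,
      e.hom ≫ (crossOver (C := C) j i).hom = (crossOver (C := C) i j).hom := by
  haveI : IsClosedImmersion (cι (C i)) := (C i).isClosedImmersion
  haveI : IsClosedImmersion (cι (C j)) := (C j).isClosedImmersion
  let t : ∀ a b : Fin n, (crossOver (C := C) a b).left ≅ pullback (cι (C a)) (cι (C b)) := fun a b =>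
    (cI (C b)).comapIso (cι (C a)) ≪≫
      asIso (pullback.map (cι (C a)) (cI (C b)).subschemeι (cι (C a)) (cι (C b)) (𝟙 _) (inv (cι (C b)).toImage) (𝟙 _)
        (by simp) (by rw [Category.comp_id, IsIso.eq_inv_comp]; exact (cι (C b)).toImage_imageι))
  let e := t i j ≪≫ pullbackSymmetry _ _ ≪≫ (t j i).symm
  refine ⟨e, ?_⟩
  haveI : Mono (Spec.map (CommRingCat.ofHom (IsLocalRing.residue R))) :=
    haveI : IsClosedImmersion (Spec.map (CommRingCat.ofHom (IsLocalRing.residue R))) :=
      IsClosedImmersion.spec_of_surjective _ IsLocalRing.residue_surjective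
    inferInstance
  rw [← cancel_mono (Spec.map (CommRingCat.ofHom (IsLocalRing.residue R)))]
  have hw : ∀ a, (C a).curve.hom ≫ Spec.map (CommRingCat.ofHom (IsLocalRing.residue R)) = cι (C a) ≫ p :=
    fun a => (C a).w.symm
  have ht : ∀ a b, (t a b).hom ≫ pullback.fst (cι (C a)) (cι (C b)) = (cross a b : (C a).curve.left.IdealSheafData).subschemeι := by
    intro a b
    simp only [t, Iso.trans_hom, asIso_hom, Category.assoc, pullback.map, Category.comp_id]
    rw [pullback.lift_fst]
    exact Scheme.IdealSheafData.comapIso_hom_fst _ _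
  show (e.hom ≫ (cross j i : (C j).curve.left.IdealSheafData).subschemeι ≫ (C j).curve.hom) ≫ _ =
    ((cross i j : (C i).curve.left.IdealSheafData).subschemeι ≫ (C i).curve.hom) ≫ _
  rw [Category.assoc, Category.assoc, Category.assoc, hw, hw, ← ht i j, ← ht j i]
  simp only [e, Iso.trans_hom, Iso.symm_hom, Category.assoc, Iso.inv_hom_id_assoc, pullbackSymmetry_hom_comp_fst_assoc,
    ← pullback.condition_assoc]

variable (L : Fin n → X.Modules) (hL : ∀ i, ClSub.IsInverseOf (L i) (ClSub.idealMod (cI (C i))))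

include hC in
omit [Flat p] in
theorem finite_cross_support {i j : Fin n} (hij : i ≠ j) :
    ((cross (C := C) i j).support : Set (C i).curve.left).Finite ∧
      ∀ x ∈ ((cross (C := C) i j).support : Set (C i).curve.left), IsClosed ({x} : Set (C i).curve.left) := by
  haveI := isProper_curve (C i)
  haveI := Crv77.isNoetherian_of_proper κ (C i).curve.left
  let U : (C i).curve.left.Opens := ⟨((cross (C := C) i j).support : Set (C i).curve.left)ᶜ,
    (cross (C := C) i j).support.isClosed.isOpen_compl⟩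
  have h := Crv77.finite_closed (C i).dim_eq.le (U := U) ⟨genericPoint (C i).curve.left, fun hx =>
    hij ((cPt_mem_iff hC i j).1 ((mem_cross_support i j _).1 hx))⟩
  rwa [show ((U : Set (C i).curve.left))ᶜ = ((cross (C := C) i j).support : Set (C i).curve.left) from compl_compl _] at h

include hC hreg hL in
theorem inter_add_ideal (i j : Fin n) :
    ArSurf.inter R (Over.mk p) (L j) (C i) + ArSurf.inter R (Over.mk p) (ClSub.idealMod (cI (C j))) (C i) = 0 := by
  have hI := (Curves2.isInvertible_idealMod_iff _).2 (isEffCartier_cI hC hreg j)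
  have hLj := isInvertible_of_inverse (isEffCartier_cI hC hreg j) (hL j)
  rw [← inter_tensor (C i) hLj hI, ← inter_one (C i)]
  exact inter_congr (C i) (EGA73.isInvertible_tensorMod hLj hI)
    (Mero90.isInvertible_of_frames fun x => ⟨⊤, trivial, _, Amp73.isFrame_one ⊤⟩) (cl_L_mul L hL j)

include hC hreg in
theorem inter_cI_eq {i j : Fin n} (hij : i ≠ j) :
    ArSurf.inter R (Over.mk p) (ClSub.idealMod (cI (C j))) (C i) =
      Curv2.euler κ (C i).curve.left (ClSub.idealMod (cross (C := C) i j)) -
        Curv2.euler κ (C i).curve.left (Coh.structureModule (C i).curve.left) := by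
  haveI : IsClosedImmersion (cι (C i)) := (C i).isClosedImmersion
  rw [inter_eq_deg (C i) ((Curves2.isInvertible_idealMod_iff _).2 (isEffCartier_cI hC hreg j)), Curv2.deg,
    Nat.cast_one, one_mul]
  congr 1
  exact Crv77.euler_congr (FGA29.nonempty_iso_of_cl (cl_pullback_idealMod (cι (C i)) (isEffCartier_cI hC hreg j)
    (isEffCartier_cross hC hreg hij))).some

include hC hreg hL in
theorem inter_eq_euler {i j : Fin n} (hij : i ≠ j) :
    ArSurf.inter R (Over.mk p) (L j) (C i) =
      Curv2.euler κ (crossOver (C := C) i j).left (Coh.structureModule (crossOver (C := C) i j).left) := by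
  haveI := isProper_curve (C i)
  haveI := Crv77.isNoetherian_of_proper κ (C i).curve.left
  have h1 := inter_add_ideal hC hreg L hL i j
  have h2 := inter_cI_eq hC hreg hij
  letI : (cross (C := C) i j).subscheme.Over (Spec (CommRingCat.of κ)) :=
    ⟨(cross (C := C) i j).subschemeι ≫ (C i).curve.hom⟩
  have h3 := euler_idealMod_eq (k := κ) (curveCoh (C i)) (cross (C := C) i j) rfl
  refine Eq.trans ?_ h3
  linarith

include hC hreg hL in
theorem inter_symm (i j : Fin n) : ArSurf.inter R (Over.mk p) (L j) (C i) = ArSurf.inter R (Over.mk p) (L i) (C j) := by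
  rcases eq_or_ne i j with rfl | hij
  · rfl
  rw [inter_eq_euler hC hreg L hL hij, inter_eq_euler hC hreg L hL hij.symm]
  obtain ⟨e, he⟩ := exists_crossIso (C := C) i j
  haveI : IsProper (C j).curve.hom := isProper_curve (C j)
  haveI : IsProper ((crossOver (C := C) j i).left ↘ Spec (CommRingCat.of κ)) :=
    inferInstanceAs (IsProper ((cross (C := C) j i).subschemeι ≫ (C j).curve.hom))
  haveI : IsIso (ClSub.unitToPush e.hom) := by
    rw [Scheme.Modules.Hom.isIso_iff_isIso_app]
    exact fun U => (ConcreteCategory.isIso_iff_bijective _).2 (ConcreteCategory.bijective_of_isIso (e.hom.app U))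
  rw [← Curves2.Ample.euler_push κ (Z := (crossOver (C := C) i j).left) (X := (crossOver (C := C) j i).left) e.hom he
    (Coh.structureModule _) Crv77.isCoh_structureModule]
  exact Crv77.euler_congr (asIso (ClSub.unitToPush e.hom)).symm

include hC hreg hL in
theorem inter_nonneg {i j : Fin n} (hij : i ≠ j) :
    0 ≤ ArSurf.inter R (Over.mk p) (L j) (C i) ∧
      (ArSurf.inter R (Over.mk p) (L j) (C i) = 0 ↔ Disjoint (cSet (C i)) (cSet (C j))) := by
  haveI := isProper_curve (C i)
  haveI := Crv77.isNoetherian_of_proper κ (C i).curve.left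
  let Z := cross (C := C) i j
  obtain ⟨hfin, hcl⟩ := finite_cross_support (C := C) hC hij
  have hX := curveCoh (C i)
  have h3 := Curves2.Ample.euler_push κ (Z := (crossOver (C := C) i j).left) (X := (C i).curve.left)
    Z.subschemeι rfl (Coh.structureModule _) Crv77.isCoh_structureModule
  have hq : ArSurf.inter R (Over.mk p) (L j) (C i) = Crv77.h (k := κ) 0 (ClSub.quotMod Z) := by
    rw [inter_eq_euler hC hreg L hL hij, ← h3]
    exact hX.euler_eq_of_suppIn (Crv77.isCoh_quotMod Z) (Crv77.suppIn_quotMod Z) hfin hcl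
  refine ⟨hq ▸ Nat.cast_nonneg _, ⟨fun h0 => ?_, fun hd => ?_⟩⟩
  · rw [hq, Crv77.h, Nat.cast_eq_zero] at h0
    haveI := hX.finite _ (Crv77.isCoh_quotMod Z) 0
    have hs : Subsingleton (Coh.HH (C i).curve.left (ClSub.quotMod Z) 0) := Module.finrank_zero_iff.1 h0
    have hsec : Subsingleton Γ(ClSub.quotMod Z, ⊤) := (Crv77.sec (ClSub.quotMod Z)).toEquiv.symm.subsingleton
    rw [Set.disjoint_left]
    rintro _ ⟨x, rfl⟩ hx
    have hxZ : x ∈ Z.support := (mem_cross_support i j x).2 hx
    obtain ⟨y, -⟩ := Div89.exists_preimage_of_mem_support hxZ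
    haveI : Nonempty (⊤ : Z.subscheme.Opens) := ⟨⟨y, trivial⟩⟩
    haveI : Subsingleton Γ(Z.subscheme, ⊤) := hsec
    exact zero_ne_one (Subsingleton.elim (0 : Γ(Z.subscheme, ⊤)) 1)
  · have hE : (Z.support : Set (C i).curve.left) = ∅ := Set.eq_empty_of_forall_notMem fun x hx =>
      Set.disjoint_left.1 hd (Set.mem_range_self x) ((mem_cross_support i j x).1 hx)
    haveI : IsEmpty (crossOver (C := C) i j).left := ⟨fun y => by
      have : Z.subschemeι.base y ∈ (Z.support : Set (C i).curve.left) := by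
        rw [← Z.range_subschemeι]; exact Set.mem_range_self y
      rwa [hE] at this⟩
    have hs : Subsingleton Γ(ClSub.quotMod Z, ⊤) := show Subsingleton Γ(Z.subscheme, ⊤) from
      ⟨fun a b => TopCat.Presheaf.section_ext Z.subscheme.sheaf ⊤ a b fun y _ =>
        (IsEmpty.false (show (crossOver (C := C) i j).left from y)).elim⟩
    have : Subsingleton (Coh.HH (C i).curve.left (ClSub.quotMod Z) 0) := (Crv77.sec (ClSub.quotMod Z)).toEquiv.subsingleton
    rw [hq, Crv77.h, Module.finrank_zero_of_subsingleton, Nat.cast_zero]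

end Pair

end Groth.Agent.ModPic
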