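import Groth.Agent.ModPic.Fibre
import Groth.Agent.Crv77.TwistSection
import Groth.Agent.Var76.HHPush
import Groth.Agent.QC70.PushClosed
import Mathlib.RingTheory.Length

/-!
Euler characteristics, computed with lengths, of modules on the special fibre.
-/

set_option autoImplicit false
set_option backward.isDefEq.respectTransparency.types false
set_option linter.style.haveILetI false

noncomputable section

universe u

open CategoryTheory CategoryTheory.Limits AlgebraicGeometry TopologicalSpace Opposite
open Groth.Agent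

namespace Groth.Agent.ModPic

variable {R : Type u} [CommRing R] [IsDomain R] [IsDiscreteValuationRing R] {X : Scheme.{u}}
  (p : X ⟶ Spec (CommRingCat.of R))

/-- The length of the cohomology over the base. -/
abbrev lenH (F : X.Modules) (i : ℕ) : ℕ∞ :=
  letI : X.Over (Spec (CommRingCat.of R)) := ⟨p⟩
  Module.length R (Coh.HH X F i)

/-- The Euler characteristic in lengths. -/
def chiLen (F : X.Modules) : ℤ :=
  (Models.lengthH R (Over.mk p) F 0 : ℤ) - (Models.lengthH R (Over.mk p) F 1 : ℤ)

theorem lengthH_eq (F : X.Modules) (i : ℕ) : Models.lengthH R (Over.mk p) F i = (lenH p F i).toNat := rfl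

/-- Cohomology of finite length, zero from degree two on. -/
structure FinLen (F : X.Modules) : Prop where
  ne_top : ∀ n, lenH p F n ≠ ⊤
  vanish : ∀ n, 2 ≤ n → Subsingleton (Coh.HH X F n)

theorem length_range_add {A : Type*} [CommRing A] {U V W : Type*} [AddCommGroup U] [Module A U] [AddCommGroup V]
    [Module A V] [AddCommGroup W] [Module A W] {f : U →ₗ[A] V} {g : V →ₗ[A] W} (h : Function.Exact f g) :
    Module.length A V = Module.length A (LinearMap.range f) + Module.length A (LinearMap.range g) := by
  refine Module.length_eq_add_of_exact (LinearMap.range f).subtype g.rangeRestrict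
    Subtype.val_injective g.surjective_rangeRestrict fun y => ?_
  rw [Subtype.ext_iff, LinearMap.codRestrict_apply, ZeroMemClass.coe_zero, h y]
  exact ⟨fun ⟨x, hx⟩ => ⟨⟨y, ⟨x, hx⟩⟩, rfl⟩, fun ⟨z, hz⟩ => hz ▸ z.2⟩

theorem toNat_of_eq_add {x a b : ℕ∞} (h : x = a + b) (hx : x ≠ ⊤) : x.toNat = a.toNat + b.toNat := by
  subst h
  cases a with
  | top => simp at hx
  | coe a => cases b with
    | top => simp at hx
    | coe b => simp [← Nat.cast_add]

theorem chiLen_congr {F G : X.Modules} (e : F ≅ G) : chiLen p F = chiLen p G := by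
  letI : X.Over (Spec (CommRingCat.of R)) := ⟨p⟩
  have : ∀ i, lenH p F i = lenH p G i := fun i => (Crv77.hEquiv R e i).length_eq
  simp only [chiLen, lengthH_eq, this]

theorem FinLen.congr {F G : X.Modules} (h : FinLen p F) (e : F ≅ G) : FinLen p G := by
  letI : X.Over (Spec (CommRingCat.of R)) := ⟨p⟩
  exact ⟨fun n => fun ht => h.ne_top n ((Crv77.hEquiv R e n).length_eq.trans ht),
    fun n hn => haveI := h.vanish n hn; (Crv77.hEquiv R e n).symm.toEquiv.subsingleton⟩

/-- Additivity. -/
theorem chiLen_add {S : ShortComplex X.Modules} (hS : S.ShortExact) (h₁ : FinLen p S.X₁) (h₂ : FinLen p S.X₂)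
    (h₃ : FinLen p S.X₃) : chiLen p S.X₂ = chiLen p S.X₁ + chiLen p S.X₃ := by
  letI : X.Over (Spec (CommRingCat.of R)) := ⟨p⟩
  let a : ℕ → ℕ := fun n => (Module.length R (LinearMap.range (Crv77.hmap R S.f n))).toNat
  let b : ℕ → ℕ := fun n => (Module.length R (LinearMap.range (Crv77.hmap R S.g n))).toNat
  let c : ℕ → ℕ := fun n => (Module.length R (LinearMap.range (Crv77.hδ R hS n))).toNat
  have e₂ : ∀ n, (lenH p S.X₂ n).toNat = a n + b n := fun n =>
    toNat_of_eq_add (length_range_add (Crv77.exact_f_g R hS n)) (h₂.ne_top n)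
  have e₃ : ∀ n, (lenH p S.X₃ n).toNat = b n + c n := fun n =>
    toNat_of_eq_add (length_range_add (Crv77.exact_g_δ R hS n)) (h₃.ne_top n)
  have e₁ : (lenH p S.X₁ 0).toNat = a 0 := by
    rw [lenH, (LinearEquiv.ofInjective _ (Crv77.injective_f_zero R hS)).length_eq]
  have e₁' : ∀ n, (lenH p S.X₁ (n + 1)).toNat = c n + a (n + 1) := fun n =>
    toNat_of_eq_add (length_range_add (Crv77.exact_δ_f R hS n)) (h₁.ne_top (n + 1))
  have hc : c 1 = 0 := by
    haveI := h₁.vanish 2 le_rfl
    show ENat.toNat (Module.length R (LinearMap.range (Crv77.hδ R hS 1))) = 0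
    rw [Module.length_eq_zero_iff.2 inferInstance]
    rfl
  simp only [chiLen, lengthH_eq, e₂, e₃, e₁, e₁' 0, hc]
  push_cast
  ring

section Push

variable {Z : Scheme.{u}} (j : Z ⟶ X) [IsClosedImmersion j]
  (t : Z ⟶ Spec (CommRingCat.of (IsLocalRing.ResidueField R)))
  (ht : j ≫ p = t ≫ Spec.map (CommRingCat.ofHom (IsLocalRing.residue R)))
  (hdim : topologicalKrullDim Z ≤ 1)

include ht in
theorem isProper_of_fibre [IsProper p] : IsProper t := by
  haveI : IsProper (t ≫ Spec.map (CommRingCat.ofHom (IsLocalRing.residue R))) := by rw [← ht]; infer_instance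
  exact IsProper.of_comp t (Spec.map (CommRingCat.ofHom (IsLocalRing.residue R)))

include ht in
theorem lenH_push [IsProper p] (M : Z.Modules) (hM : Coh.IsCoh M) (i : ℕ) :
    letI : Z.Over (Spec (CommRingCat.of (IsLocalRing.ResidueField R))) := ⟨t⟩
    lenH p ((Scheme.Modules.pushforward j).obj M) i =
      Module.length (IsLocalRing.ResidueField R) (Coh.HH Z M i) := by
  letI : X.Over (Spec (CommRingCat.of R)) := ⟨p⟩
  letI : Z.Over (Spec (CommRingCat.of R)) := ⟨j ≫ p⟩
  letI : Z.Over (Spec (CommRingCat.of (IsLocalRing.ResidueField R))) := ⟨t⟩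
  haveI : IsProper (X ↘ Spec (CommRingCat.of R)) := ‹IsProper p›
  haveI : IsNoetherian X := isNoetherian p
  haveI := hM.1
  obtain ⟨e⟩ := Var76.nonempty_hhLin_push (A := R) (S := X) (X := Z) j rfl M (QC70.isCoh_pushforward j M hM).1 i
  have hsc : ∀ (r : R) (x : Coh.HH Z M i), IsLocalRing.residue R r • x = r • x := fun r x => by
    show Coh.toGlobal t (IsLocalRing.residue R r) • x = Coh.toGlobal (j ≫ p) r • x
    congr 1
    rw [ht]
    show _ = (t ≫ Spec.map (CommRingCat.ofHom (IsLocalRing.residue R))).appTop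
      ((Scheme.ΓSpecIso (CommRingCat.of R)).inv r)
    rw [Scheme.Hom.comp_appTop]
    exact congrArg t.appTop congr($(Scheme.ΓSpecIso_inv_naturality (CommRingCat.ofHom (IsLocalRing.residue R))) r)
  haveI : IsScalarTower R (IsLocalRing.ResidueField R) (Coh.HH Z M i) := IsScalarTower.of_algebraMap_smul hsc
  show Module.length R (Coh.HH X _ i) = _
  rw [e.length_eq, Module.length_eq_of_surjective (R := IsLocalRing.ResidueField R) IsLocalRing.residue_surjective]

include ht hdim in
theorem finLen_push [IsProper p] (M : Z.Modules) (hM : Coh.IsCoh M) :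
    FinLen p ((Scheme.Modules.pushforward j).obj M) := by
  letI : Z.Over (Spec (CommRingCat.of (IsLocalRing.ResidueField R))) := ⟨t⟩
  haveI : IsProper (Z ↘ Spec (CommRingCat.of (IsLocalRing.ResidueField R))) := isProper_of_fibre p j t ht
  have hZ := Crv77.curveCoh_of_proper (IsLocalRing.ResidueField R) Z hdim
  refine ⟨fun n => ?_, fun n hn => ?_⟩
  · haveI := hZ.finite M hM n
    rw [lenH_push p j t ht M hM n]
    exact Module.length_ne_top
  · letI : X.Over (Spec (CommRingCat.of R)) := ⟨p⟩
    letI : Z.Over (Spec (CommRingCat.of R)) := ⟨j ≫ p⟩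
    haveI : IsProper (X ↘ Spec (CommRingCat.of R)) := ‹IsProper p›
    haveI : IsNoetherian X := isNoetherian p
    haveI := hM.1
    haveI := hZ.vanish M hM n hn
    obtain ⟨e⟩ := Var76.nonempty_hhLin_push (A := R) (S := X) (X := Z) j rfl M (QC70.isCoh_pushforward j M hM).1 n
    exact e.toEquiv.subsingleton

include ht hdim in
theorem chiLen_push [IsProper p] (M : Z.Modules) (hM : Coh.IsCoh M) :
    letI : Z.Over (Spec (CommRingCat.of (IsLocalRing.ResidueField R))) := ⟨t⟩
    chiLen p ((Scheme.Modules.pushforward j).obj M) = Curv2.euler (IsLocalRing.ResidueField R) Z M := by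
  letI : Z.Over (Spec (CommRingCat.of (IsLocalRing.ResidueField R))) := ⟨t⟩
  haveI : IsProper (Z ↘ Spec (CommRingCat.of (IsLocalRing.ResidueField R))) := isProper_of_fibre p j t ht
  have hZ := Crv77.curveCoh_of_proper (IsLocalRing.ResidueField R) Z hdim
  haveI := hZ.finite M hM 0
  haveI := hZ.finite M hM 1
  rw [hZ.euler_eq hM, chiLen, lengthH_eq, lengthH_eq, lenH_push p j t ht M hM, lenH_push p j t ht M hM,
    Module.length_eq_finrank, Module.length_eq_finrank]
  rfl

end Push

variable {p}

/-- A closed subscheme of the special fibre has dimension at most one. -/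
theorem dim_le_one_of_fibre [IsProper p] {n : ℕ} {C : Fin n → ArSurf.VertComp R (Over.mk p)}
    (hC : Models.IsComponentList R (Over.mk p) C) {Z : Scheme.{u}} (j : Z ⟶ X) [IsClosedImmersion j]
    (hj : Set.range j.base ⊆ fSet p) : topologicalKrullDim Z ≤ 1 := by
  refine iSup_le fun s => ?_
  let m := s.map _ (IrreducibleCloseds.map_strictMono_of_isInducing j.isClosedEmbedding.isInducing)
  have hlast : (m.last : Set X) ⊆ fSet p :=
    closure_minimal ((Set.image_subset_range _ _).trans hj) (isClosed_fSet p)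
  obtain ⟨i, hi⟩ : ∃ i, (m.last : Set X) ⊆ cSet (C i) := by
    obtain ⟨w, hw⟩ := QuasiSober.sober (α := X) m.last.isIrreducible' m.last.isClosed'
    obtain ⟨i, hi⟩ := exists_mem_component hC (hlast hw.mem)
    exact ⟨i, hw.def.ge.trans (closure_minimal (Set.singleton_subset_iff.2 hi) (isClosed_cSet (C i)))⟩
  have hsub : ∀ k, (m k : Set X) ⊆ cSet (C i) := fun k =>
    le_trans (show (m k : Set X) ⊆ (m.last : Set X) from m.monotone (Fin.le_last k)) hi
  have hcl := (cι (C i)).isClosedEmbedding
  have hirr : ∀ k, IsIrreducible ((cι (C i)).base ⁻¹' (m k : Set X)) := fun k => by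
    obtain ⟨w, hw⟩ := QuasiSober.sober (α := X) (m k).isIrreducible' (m k).isClosed'
    obtain ⟨v, rfl⟩ := hsub k hw.mem
    rw [show (m k : Set X) = closure ((cι (C i)).base '' {v}) by rw [Set.image_singleton]; exact hw.def.symm,
      hcl.closure_image_eq, Set.preimage_image_eq _ hcl.injective]
    exact isIrreducible_singleton.closure
  let q : LTSeries (IrreducibleCloseds (C i).curve.left) := LTSeries.mk m.length
    (fun k => ⟨(cι (C i)).base ⁻¹' (m k : Set X),
      hirr k,
      (m k).isClosed'.preimage (cι (C i)).continuous⟩)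
    fun a b hab => by
      refine lt_of_le_of_ne (fun x hx => (m.monotone hab.le : (m a : Set X) ⊆ m b) hx) fun e => ?_
      have e' := congrArg (fun z : IrreducibleCloseds (C i).curve.left => (cι (C i)).base '' (z : Set _)) e
      simp only [IrreducibleCloseds.coe_mk, Set.image_preimage_eq_of_subset (hsub a),
        Set.image_preimage_eq_of_subset (hsub b)] at e'
      exact (m.strictMono hab).ne (IrreducibleCloseds.ext e')
  exact ((Order.LTSeries.length_le_krullDim q).trans (C i).dim_eq.le)

end Groth.Agent.ModPic
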