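import Groth.Agent.ModPic.Setting
import Groth.Agent.LimTop61.ReducedSpecial
import Groth.Agent.Div89.RegStalk
import Groth.Agent.Gor18.Regular
import Groth.Agent.Gor18.Local
import Groth.Agent.Units47.Flat

/-!
Local rings of the special fibre of a regular flat scheme over a discrete valuation ring.
-/

set_option autoImplicit false
set_option backward.isDefEq.respectTransparency.types false
set_option linter.style.haveILetI false

noncomputable section

universe u

open CategoryTheory CategoryTheory.Limits AlgebraicGeometry TopologicalSpace Opposite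
open Groth.Agent

namespace Groth.Agent.ModPic

variable {R : Type u} [CommRing R] [IsDomain R] [IsDiscreteValuationRing R] {X : Scheme.{u}}
  {p : X ⟶ Spec (CommRingCat.of R)} [Flat p]

theorem mem_specialFibre_image (z : ↥(Models.specialFibre R X p)) :
    p.base ((pullback.fst p (Spec.map (CommRingCat.ofHom (algebraMap R (IsLocalRing.ResidueField R))))).base z) =
      IsLocalRing.closedPoint R := by
  rw [← Scheme.Hom.comp_apply, pullback.condition, Scheme.Hom.comp_apply]
  exact (congrArg _ (Subsingleton.elim _ (IsLocalRing.closedPoint (IsLocalRing.ResidueField R)))).trans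
    (IsLocalRing.comap_closedPoint (IsLocalRing.residue R))

/-- The local ring of the special fibre is the quotient by the uniformiser. -/
theorem nonempty_stalk_specialFibre_equiv (z : ↥(Models.specialFibre R X p)) :
    let x := (pullback.fst p (Spec.map (CommRingCat.ofHom (algebraMap R (IsLocalRing.ResidueField R))))).base z
    Nonempty ((X.presheaf.stalk x ⧸ Ideal.span {X.presheaf.germ ⊤ x trivial (piG p)}) ≃+*
      (Models.specialFibre R X p).presheaf.stalk z) := by
  intro x
  let res := Spec.map (CommRingCat.ofHom (algebraMap R (IsLocalRing.ResidueField R)))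
  haveI : IsClosedImmersion res := IsClosedImmersion.spec_of_surjective _ IsLocalRing.residue_surjective
  let i := pullback.fst p res
  obtain ⟨U, hxU⟩ := Div89.exists_affine_mem x
  haveI : IsClosedImmersion (i ∣_ U.1) := inferInstance
  have hker : i.ker = fIdeal p := by
    rw [Scheme.IdealSheafData.ker_fst_of_isClosedImmersion,
      show res = Spec.map (CommRingCat.ofHom (IsLocalRing.residue R)) from rfl, Units47.ker_specMap,
      IsLocalRing.ker_residue]
    rfl
  have happ : RingHom.ker (i.app U.1).hom = Ideal.span {X.presheaf.map (homOfLE le_top).op (piG p)} := by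
    rw [← i.ker_apply U, hker, specialFibreIdeal_ideal]
  have hk : RingHom.ker (i.stalkMap z).hom = Ideal.span {X.presheaf.germ ⊤ x trivial (piG p)} := by
    rw [Div89.RegStalk.ker_stalkMap_chart i U.2 hxU, happ, Ideal.map_span, Set.image_singleton]
    exact congrArg (fun t => Ideal.span {t})
      (TopCat.Presheaf.germ_res_apply X.presheaf (homOfLE (le_top : U.1 ≤ ⊤)) x hxU (piG p))
  exact ⟨(Ideal.quotEquivOfEq hk.symm).trans
    (RingHom.quotientKerEquivOfSurjective (i.stalkMap_surjective z))⟩

/-- The special fibre of a regular flat scheme is Gorenstein. -/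
theorem gor_stalk_specialFibre (hreg : Models.IsRegularScheme X) (z : ↥(Models.specialFibre R X p)) :
    LocCoh.IsGorensteinLocalRing ((Models.specialFibre R X p).presheaf.stalk z) := by
  let x := (pullback.fst p (Spec.map (CommRingCat.ofHom (algebraMap R (IsLocalRing.ResidueField R))))).base z
  haveI : IsRegularLocalRing (X.presheaf.stalk x) := hreg x
  obtain ⟨h1, h2, -⟩ := LimTop61.exists_uniformizer_stalk p (irreducible_unif R) x (mem_specialFibre_image z)
  obtain ⟨e⟩ := nonempty_stalk_specialFibre_equiv (p := p) z
  have hreg' : IsSMulRegular (X.presheaf.stalk x) (X.presheaf.germ ⊤ x trivial (piG p)) :=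
    fun a b h => sub_eq_zero.1 ((mem_nonZeroDivisors_iff_left.1 h2) (a - b) (by rw [mul_sub, sub_eq_zero]; exact h))
  haveI := Gor18.regular_gor (X.presheaf.stalk x)
  haveI : LocCoh.IsGorensteinLocalRing (X.presheaf.stalk x ⧸ Ideal.span {X.presheaf.germ ⊤ x trivial (piG p)}) :=
    (Gor18.gor_quotient_iff h1 hreg').1 inferInstance
  exact Gor18.gor_of_ringEquiv e

end Groth.Agent.ModPic
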