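import Groth.Agent.Blow97.Affine
import Groth.Agent.Div89.Codim
import Groth.Agent.Div89.UFD
import Groth.Agent.Curves2.Ample.Component
import Groth.Agent.RegUFD52.Basic
import Groth.Agent.Ega11.RegLocal
import Groth.Prelude.Def_ModelsG

/-!
The special fibre of a flat finite type scheme over a DVR with regular local rings.
-/

set_option autoImplicit false
set_option backward.isDefEq.respectTransparency.types false
set_option linter.style.haveILetI false

noncomputable section

universe u

open CategoryTheory AlgebraicGeometry TopologicalSpace Opposite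
open scoped nonZeroDivisors

namespace Groth.Agent.ModPic

open Div89

variable (R : Type u) [CommRing R] [IsDomain R] [IsDiscreteValuationRing R]

/-- A chosen uniformiser. -/
def unif : R := (IsDiscreteValuationRing.exists_irreducible R).choose

theorem irreducible_unif : Irreducible (unif R) := (IsDiscreteValuationRing.exists_irreducible R).choose_spec

theorem maximalIdeal_eq : IsLocalRing.maximalIdeal R = Ideal.span {unif R} :=
  (irreducible_unif R).maximalIdeal_eq

variable {R} {X : Scheme.{u}} (p : X ⟶ Spec (CommRingCat.of R))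

/-- The uniformiser as a global function. -/
def piG : Γ(X, ⊤) := Blow97.gam p (unif R)

/-- The ideal of the special fibre, on `X`. -/
abbrev fIdeal : X.IdealSheafData := Models.specialFibreIdeal R (Over.mk p)

/-- The special fibre, in `X`. -/
abbrev fSet : Set X := Models.specialFibreSet R (Over.mk p)

theorem isClosed_fSet : IsClosed (fSet p) := Models.isClosed_specialFibreSet R (Over.mk p)

theorem specialFibreIdeal_ideal (U : X.affineOpens) :
    (fIdeal p).ideal U = Ideal.span {Blow97.res U.1 (piG p)} := by
  refine (Blow97.ideal_comap_idealSheaf p (IsLocalRing.maximalIdeal R) U).trans ?_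
  rw [maximalIdeal_eq, Ideal.map_span, Set.image_singleton]
  rfl

theorem res_piG_mem_nonZeroDivisors [Flat p] (U : X.affineOpens) :
    Blow97.res U.1 (piG p) ∈ Γ(X, U.1)⁰ := by
  have h := HasRingHomProperty.appLE @Flat p inferInstance ⟨⊤, isAffineOpen_top _⟩ U (by simp)
  let e : R →+* Γ(X, U.1) := (Blow97.res U.1).comp (Blow97.gam p)
  have he : e = (p.appLE ⊤ U.1 (by simp)).hom.comp (Scheme.ΓSpecIso (CommRingCat.of R)).inv.hom := rfl
  have hflat : e.Flat := by
    rw [he]
    exact RingHom.Flat.comp (RingHom.Flat.of_bijective (ConcreteCategory.bijective_of_isIso _)) h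
  letI := e.toAlgebra
  haveI : Module.Flat R Γ(X, U.1) := hflat
  rw [mem_nonZeroDivisors_iff_right]
  intro a ha
  have hinj : Function.Injective fun b : Γ(X, U.1) => (unif R) • b :=
    Module.Flat.isSMulRegular_of_nonZeroDivisors (mem_nonZeroDivisors_of_ne_zero (irreducible_unif R).ne_zero)
  refine hinj (?_ : unif R • a = unif R • 0)
  rw [smul_zero, Algebra.smul_def, mul_comm]
  exact ha

theorem isEffCartier_specialFibre [Flat p] :
    BlowUp.IsEffCartierIdeal (fIdeal p) := fun x => by
  obtain ⟨U, hx⟩ := exists_affine_mem x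
  exact ⟨U, hx, _, res_piG_mem_nonZeroDivisors p U, specialFibreIdeal_ideal p U⟩

theorem mem_specialFibreSet_iff (x : X) :
    x ∈ fSet p ↔ p.base x = IsLocalRing.closedPoint R := Iff.rfl

theorem support_specialFibreIdeal : ((fIdeal p).support : Set X) = fSet p := by
  have h0 : ((Curv2.idealSheaf R (IsLocalRing.maximalIdeal R)).support : Set (Spec (CommRingCat.of R))) =
      {IsLocalRing.closedPoint R} := by
    rw [Curv2.idealSheaf, Scheme.IdealSheafData.coe_support_ofIdealTop, Spec_zeroLocus, ← Ideal.coe_comap,
      Ideal.comap_map_of_bijective _ (ConcreteCategory.bijective_of_isIso (Scheme.ΓSpecIso (CommRingCat.of R)).inv)]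
    show PrimeSpectrum.zeroLocus (IsLocalRing.maximalIdeal R : Set R) = _
    exact (PrimeSpectrum.closure_singleton (IsLocalRing.closedPoint R)).symm.trans
      (IsLocalRing.isClosed_singleton_closedPoint R).closure_eq
  show (((Curv2.idealSheaf R (IsLocalRing.maximalIdeal R)).comap p).support : Set X) = _
  rw [Scheme.IdealSheafData.support_comap, TopologicalSpace.Closeds.coe_preimage, h0]
  rfl

theorem isNoetherian [LocallyOfFiniteType p] [QuasiCompact p] : IsNoetherian X := by
  haveI := LocallyOfFiniteType.isLocallyNoetherian p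
  haveI : CompactSpace X := QuasiCompact.compactSpace_of_compactSpace p
  constructor

theorem isDomain_stalk (hreg : Models.IsRegularScheme X) (x : X) : IsDomain (X.presheaf.stalk x) :=
  haveI := hreg x
  Ega11.RegLocal.isDomain _

theorem ufm_stalk (hreg : Models.IsRegularScheme X) (x : X) :
    IsDomain (X.presheaf.stalk x) ∧ UniqueFactorizationMonoid (X.presheaf.stalk x) :=
  haveI := hreg x
  haveI := isDomain_stalk hreg x
  ⟨inferInstance, RegUFD52.ufm_of_regular _⟩

/-- A maximal point of the special fibre. -/
def IsFibreMax (z : X) : Prop :=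
  z ∈ fSet p ∧ ∀ y ∈ fSet p, y ⤳ z → y = z

theorem closure_mem_fibreComponents {z : X} (hz : IsFibreMax p z) :
    closure {z} ∈ Models.fibreComponents R (Over.mk p) := by
  refine ⟨⟨isIrreducible_singleton.closure,
    closure_minimal (Set.singleton_subset_iff.2 hz.1) (isClosed_fSet p)⟩, fun S hS hle => ?_⟩
  obtain ⟨w, hw⟩ := QuasiSober.sober (α := X) hS.1.closure isClosed_closure
  have hwF : w ∈ fSet p :=
    closure_minimal hS.2 (isClosed_fSet p) hw.mem
  have hwz : w ⤳ z := hw.specializes (subset_closure (hle (subset_closure rfl)))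
  have := hz.2 w hwF hwz
  subst this
  rw [hw.def]
  exact subset_closure

theorem exists_fibreMax [LocallyOfFiniteType p] [QuasiCompact p] {x : X}
    (hx : x ∈ fSet p) : ∃ z, IsFibreMax p z ∧ z ⤳ x := by
  let D := fIdeal p
  rw [← support_specialFibreIdeal p] at hx
  obtain ⟨y, rfl⟩ := exists_preimage_of_mem_support (I := D) hx
  obtain ⟨z, hz, hzy⟩ := Curves2.Ample.exists_maximal y
  refine ⟨D.subschemeι z, ⟨?_, fun w hw hwz => ?_⟩, hzy.map D.subschemeι.continuous⟩
  · rw [← support_specialFibreIdeal p, ← D.range_subschemeι]; exact Set.mem_range_self z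
  · rw [← support_specialFibreIdeal p] at hw
    exact (maximal_in_support_iff D z).1 hz w hw hwz

theorem dim_stalk_fibreMax [Flat p] [LocallyOfFiniteType p] {z : X} (hz : IsFibreMax p z) :
    ringKrullDim (X.presheaf.stalk z) = 1 := by
  haveI := LocallyOfFiniteType.isLocallyNoetherian p
  refine dim_stalk_eq_one_of_effCartier (isEffCartier_specialFibre p) ?_ fun y hy => hz.2 y ?_
  · rw [← SetLike.mem_coe, support_specialFibreIdeal]; exact hz.1
  · rwa [← SetLike.mem_coe, support_specialFibreIdeal] at hy

end Groth.Agent.ModPic
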