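import Groth.Agent.ModPic.GeomConnModel
import Groth.Agent.ModPic.Setting
import Groth.Agent.SchBasics.Local
import Groth.Agent.VarGal.SmoothReg
import Groth.Prelude.Def_ModelsG

/-!
A smooth proper scheme over a field whose functions are the constants is integral.
-/

set_option autoImplicit false
set_option backward.isDefEq.respectTransparency.types false
set_option linter.style.haveILetI false

noncomputable section

universe u

open CategoryTheory CategoryTheory.Limits AlgebraicGeometry TopologicalSpace Opposite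
open Groth.Agent

namespace Groth.Agent.ModPic

variable {k : Type u} [Field k] {Y : Scheme.{u}} (f : Y ⟶ Spec (CommRingCat.of k))

theorem isIso_appTop_of_hRank (h : Models.hRank k Y f (Coh.structureModule Y) 0 = 1) : IsIso f.appTop := by
  letI : Y.Over (Spec (CommRingCat.of k)) := ⟨f⟩
  have h' : Module.finrank k (Coh.HH Y (Coh.structureModule Y) 0) = 1 := h
  let F : Y.Modules := Coh.structureModule Y
  let φ : k →+* Γ(Y, ⊤) := f.appTop.hom.comp (Scheme.ΓSpecIso (CommRingCat.of k)).inv.hom
  letI : Algebra k Γ(Y, ⊤) := φ.toAlgebra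
  let eO : Coh.HH Y F 0 ≃ₗ[k] Γ(Y, ⊤) :=
    { Crv77.sec F with map_smul' := fun a x => (Crv77.sec_smul k F a x).trans (Algebra.smul_def a (show Γ(Y, ⊤) from Crv77.sec F x)).symm }
  have h1 : Module.finrank k (Γ(Y, ⊤)) = 1 := eO.finrank_eq.symm.trans h'
  haveI : Nontrivial (Γ(Y, ⊤)) := Module.nontrivial_of_finrank_pos (R := k) (by omega)
  have hb : Function.Bijective (algebraMap k (Γ(Y, ⊤))) :=
    ⟨(algebraMap k (Γ(Y, ⊤))).injective, fun y => by
      obtain ⟨c, hc⟩ := (finrank_eq_one_iff_of_nonzero' (1 : Γ(Y, ⊤)) one_ne_zero).1 h1 y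
      exact ⟨c, by rw [Algebra.algebraMap_eq_smul_one, hc]⟩⟩
  have hk : Function.Bijective (Scheme.ΓSpecIso (CommRingCat.of k)).inv :=
    ConcreteCategory.bijective_of_isIso (Scheme.ΓSpecIso (CommRingCat.of k)).inv
  have hb' : Function.Bijective (fun a : k => f.appTop.hom ((Scheme.ΓSpecIso (CommRingCat.of k)).inv.hom a)) := hb
  exact (ConcreteCategory.isIso_iff_bijective _).2 ((Function.Bijective.of_comp_iff _ hk).1 hb')

theorem isIntegral_of_isIso_appTop [IsProper f] [Smooth f] [IsIso f.appTop] : IsIntegral Y := by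
  haveI := Stein58.geometricallyConnected_of_isIso_appTop' f
  haveI : ConnectedSpace Y := GeometricallyConnected.connectedSpace_of_subsingleton (f := f)
  haveI := LocallyOfFiniteType.isLocallyNoetherian f
  exact SchBasics.isIntegral_iff_connectedSpace_and_isDomain.mpr ⟨inferInstance, fun y =>
    isDomain_stalk (fun z => VarGal.isRegularLocalRing_stalk_of_smooth f z) y⟩

end Groth.Agent.ModPic
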