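import Groth.Agent.ModPic.GenusEq

/-!
The genus of the generic fibre from the components of the special fibre.
-/

set_option autoImplicit false
set_option backward.isDefEq.respectTransparency.types false
set_option linter.style.haveILetI false

noncomputable section

universe u

open CategoryTheory CategoryTheory.Limits AlgebraicGeometry TopologicalSpace Opposite
open Groth.Agent

namespace Groth.Agent.ModPic

variable {R : Type u} [CommRing R] [IsDomain R] [IsDiscreteValuationRing R] {X : Scheme.{u}}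
  {p : X ⟶ Spec (CommRingCat.of R)}

theorem chiLen_quotMod_top : chiLen p (ClSub.quotMod (⊤ : X.IdealSheafData)) = 0 := by
  letI : X.Over (Spec (CommRingCat.of R)) := ⟨p⟩
  have hE : ((⊤ : X.IdealSheafData).support : Set X) = ∅ := by simp
  haveI : IsEmpty (⊤ : X.IdealSheafData).subscheme := ⟨fun y => by
    have h : (⊤ : X.IdealSheafData).subschemeι.base y ∈ ((⊤ : X.IdealSheafData).support : Set X) := by
      rw [← Scheme.IdealSheafData.range_subschemeι]; exact Set.mem_range_self y
    rwa [hE] at h⟩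
  have hsec : Subsingleton Γ(ClSub.quotMod (⊤ : X.IdealSheafData), ⊤) :=
    show Subsingleton Γ((⊤ : X.IdealSheafData).subscheme, ⊤) from
      ⟨fun a b => TopCat.Presheaf.section_ext (⊤ : X.IdealSheafData).subscheme.sheaf ⊤ a b fun y _ =>
        (IsEmpty.false (show (⊤ : X.IdealSheafData).subscheme from y)).elim⟩
  haveI h0 : Subsingleton (Coh.HH X (ClSub.quotMod (⊤ : X.IdealSheafData)) 0) :=
    (Crv77.sec (ClSub.quotMod (⊤ : X.IdealSheafData))).toEquiv.subsingleton
  haveI h1 : Subsingleton (Coh.HH X (ClSub.quotMod (⊤ : X.IdealSheafData)) 1) :=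
    Crv77.SuppIn.subsingleton_HH (Crv77.suppIn_quotMod _) (hE ▸ Set.finite_empty) (by simp [hE]) 0
  simp only [chiLen, lengthH_eq, lenH, Module.length_eq_zero_iff.2 h0, Module.length_eq_zero_iff.2 h1]
  simp

theorem quad_step {n : ℕ} (a b : Fin n → ℤ) (i : Fin n) (h : ∀ j, a j = b j + if j = i then 1 else 0)
    (c : Fin n → ℤ) (A : Fin n → Fin n → ℤ) (hs : ∀ j, A i j = A j i) :
    ∑ j, a j * c j - ∑ j, ∑ l, a j * a l * A j l =
      (∑ j, b j * c j - ∑ j, ∑ l, b j * b l * A j l) + c i - 2 * ∑ j, b j * A j i - A i i := by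
  have h1 : ∀ c : Fin n → ℤ, ∑ j, a j * c j = ∑ j, b j * c j + c i := fun c => by
    simp [h, add_mul, Finset.sum_add_distrib]
  have h2 : ∀ j, ∑ l, a j * a l * A j l = a j * (∑ l, b l * A j l) + a j * A j i := fun j => by
    rw [Finset.mul_sum]
    simp [h, mul_add, add_mul, Finset.sum_add_distrib, mul_assoc]
  have e : ∑ l, b l * A i l = ∑ j, b j * A j i := Finset.sum_congr rfl fun l _ => by rw [hs]
  have e' : ∑ j, b j * (∑ l, b l * A j l) = ∑ j, ∑ l, b j * b l * A j l := Finset.sum_congr rfl fun j _ => by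
    rw [Finset.mul_sum]; exact Finset.sum_congr rfl fun l _ => by ring
  rw [h1, Finset.sum_congr rfl fun j _ => h2 j, Finset.sum_add_distrib, h1 (fun j => ∑ l, b l * A j l),
    h1 (fun j => A j i), e, e']
  ring

variable [Flat p] [IsProper p] (hreg : Models.IsRegularScheme X)
  {n : ℕ} {C : Fin n → ArSurf.VertComp R (Over.mk p)}
  (hC : Models.IsComponentList R (Over.mk p) C) (L : Fin n → X.Modules)
  (hL : ∀ i, ClSub.IsInverseOf (L i) (ClSub.idealMod (cI (C i))))

include hreg hC hL in
/-- The Euler characteristic of a divisor in the special fibre. -/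
theorem chiLen_prod : ∀ (s : ℕ) (a : Fin n → ℕ), ∑ j, a j = s →
    (∀ j, a j ≤ Models.mult R (Over.mk p) (C j)) →
    2 * chiLen p (ClSub.quotMod (∏ j, cI (C j) ^ a j)) =
      ∑ j, (a j : ℤ) * (2 * ((Models.wdeg R (Over.mk p) (C j) : ℤ) - (Models.h1 R (Over.mk p) (C j) : ℤ)) +
          ArSurf.inter R (Over.mk p) (L j) (C j)) -
        ∑ j, ∑ l, (a j : ℤ) * (a l : ℤ) * ArSurf.inter R (Over.mk p) (L l) (C j)
  | 0, a, hs, _ => by
    have h0 : ∀ j, a j = 0 := fun j => (Finset.sum_eq_zero_iff.1 hs) j (Finset.mem_univ j)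
    have hp : ∏ j, cI (C j) ^ a j = (⊤ : X.IdealSheafData) := by
      rw [← Scheme.IdealSheafData.one_eq_top]
      exact Finset.prod_eq_one fun j _ => by rw [h0, pow_zero]
    rw [hp, chiLen_quotMod_top]
    simp [h0]
  | s + 1, a, hs, ha => by
    classical
    obtain ⟨i, hi⟩ : ∃ i, 0 < a i := by
      by_contra hne
      simp only [not_exists, not_lt, Nat.le_zero] at hne
      rw [Finset.sum_eq_zero fun j _ => hne j] at hs
      omega
    let b : Fin n → ℕ := fun j => a j - if j = i then 1 else 0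
    have hab : ∀ j, b j + (if j = i then 1 else 0) = a j := fun j => by
      by_cases hji : j = i
      · subst hji
        simp only [b, if_true]
        omega
      · simp [b, hji]
    have hsum : ∑ j, b j = s := by
      have h1 : ∑ j, a j = ∑ j, b j + 1 := by
        rw [← Finset.sum_congr rfl fun j _ => hab j, Finset.sum_add_distrib]
        simp
      omega
    have hb : ∀ j, b j ≤ Models.mult R (Over.mk p) (C j) := fun j => le_trans (Nat.sub_le _ _) (ha j)
    have ih := chiLen_prod s b hsum hb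
    have hstep := chiLen_step hreg hC L hL b i fun j => (hab j).trans_le (ha j)
    simp only [hab] at hstep
    have hA : ∀ j, (a j : ℤ) = (b j : ℤ) + if j = i then 1 else 0 := fun j => by
      rw [← hab j]; split_ifs <;> simp
    have hsym : ∀ j, ArSurf.inter R (Over.mk p) (L j) (C i) = ArSurf.inter R (Over.mk p) (L i) (C j) :=
      fun j => inter_symm hC hreg L hL i j
    rw [quad_step (fun j => (a j : ℤ)) (fun j => (b j : ℤ)) i hA _
        (fun j l => ArSurf.inter R (Over.mk p) (L l) (C j)) hsym]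
    linarith

variable {Y : Scheme.{u}} {f : Y ⟶ Spec (CommRingCat.of (FractionRing R))} {g : Y ⟶ X}
  (hg : IsPullback g f p (Spec.map (CommRingCat.ofHom (algebraMap R (FractionRing R))))) (hH0 : IsIso f.appTop)
  (hYd : topologicalKrullDim Y ≤ 1)

include hreg hC hL hg hH0 hYd in
/-- The genus formula. -/
theorem two_mul_genus :
    2 * (Models.curveGenus (FractionRing R) Y f : ℤ) =
      2 + ∑ i, (Models.mult R (Over.mk p) (C i) : ℤ) *
        (2 * ((Models.h1 R (Over.mk p) (C i) : ℤ) - (Models.wdeg R (Over.mk p) (C i) : ℤ)) -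
          ArSurf.inter R (Over.mk p) (L i) (C i)) := by
  have h := chiLen_prod hreg hC L hL _ (fun j => Models.mult R (Over.mk p) (C j)) rfl fun j => le_rfl
  rw [← fIdeal_eq_prod hC hreg, chiLen_fIdeal hC hg hH0 hYd] at h
  have hz : ∑ j, ∑ l, (Models.mult R (Over.mk p) (C j) : ℤ) * (Models.mult R (Over.mk p) (C l) : ℤ) *
      ArSurf.inter R (Over.mk p) (L l) (C j) = 0 := by
    rw [Finset.sum_comm]
    refine Finset.sum_eq_zero fun l _ => ?_
    calc ∑ j, (Models.mult R (Over.mk p) (C j) : ℤ) * (Models.mult R (Over.mk p) (C l) : ℤ) *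
          ArSurf.inter R (Over.mk p) (L l) (C j)
        = (Models.mult R (Over.mk p) (C l) : ℤ) *
            ∑ j, (Models.mult R (Over.mk p) (C j) : ℤ) * ArSurf.inter R (Over.mk p) (L l) (C j) := by
          rw [Finset.mul_sum]; exact Finset.sum_congr rfl fun j _ => by ring
      _ = 0 := by rw [sum_mult_inter hreg hC L hL l, mul_zero]
  rw [hz, sub_zero] at h
  have e : ∀ i, (Models.mult R (Over.mk p) (C i) : ℤ) *
      (2 * ((Models.h1 R (Over.mk p) (C i) : ℤ) - (Models.wdeg R (Over.mk p) (C i) : ℤ)) -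
        ArSurf.inter R (Over.mk p) (L i) (C i)) = -((Models.mult R (Over.mk p) (C i) : ℤ) *
      (2 * ((Models.wdeg R (Over.mk p) (C i) : ℤ) - (Models.h1 R (Over.mk p) (C i) : ℤ)) +
        ArSurf.inter R (Over.mk p) (L i) (C i))) := fun i => by ring
  rw [Finset.sum_congr rfl fun i _ => e i, Finset.sum_neg_distrib, ← h]
  ring

end Groth.Agent.ModPic
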