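import Groth.Agent.ModPic.Chi
import Groth.Agent.FGA29.EulerLC
import Groth.Agent.Crv77.BaseChange
import Groth.Agent.FBase64.ReducedModField
import Groth.Agent.LimTop61.AmpleStage

/-!
The Euler characteristic of the special fibre and the genus of the generic fibre.
-/

set_option autoImplicit false
set_option backward.isDefEq.respectTransparency.types false
set_option linter.style.haveILetI false

noncomputable section

universe u

open CategoryTheory CategoryTheory.Limits AlgebraicGeometry TopologicalSpace Opposite
open Groth.Agent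

namespace Groth.Agent.ModPic

variable {R : Type u} [CommRing R] [IsDomain R] [IsDiscreteValuationRing R] {X : Scheme.{u}}
  {p : X ⟶ Spec (CommRingCat.of R)}

theorem eulerChar_eq_euler [IsProper p] {K : Type u} [Field K] {W : Scheme.{u}}
    [W.Over (Spec (CommRingCat.of K))] (φ : R →+* K) (g : W ⟶ X)
    (hg : IsPullback g (W ↘ Spec (CommRingCat.of K)) p (Spec.map (CommRingCat.ofHom φ))) :
    (fun s : Spec (CommRingCat.of R) => ∑ᶠ i : ℕ, (-1 : ℤ) ^ i *
      (Module.finrank ((Spec (CommRingCat.of R)).residueField s)
        (CohIII.fiberH p (Coh.structureModule X) s i) : ℤ))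
        ((Spec.map (CommRingCat.ofHom φ)).base (IsLocalRing.closedPoint K)) =
      Curv2.euler K W (Coh.structureModule W) := by
  let q := Spec.map (CommRingCat.ofHom φ)
  let s := q.base (IsLocalRing.closedPoint K)
  let S : Scheme.{u} := Spec (CommRingCat.of R)
  letI : (p.fiber s).Over (Spec (CommRingCat.of (S.residueField s))) := ⟨p.fiberToSpecResidueField s⟩
  haveI : IsProper (p.fiber s ↘ Spec (CommRingCat.of (S.residueField s))) :=
    MorphismProperty.pullback_snd (P := @IsProper) _ _ inferInstance
  let ψ : S.residueField s ⟶ CommRingCat.of K := Scheme.descResidueField (Scheme.stalkClosedPointTo q)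
  have hψ : Spec.map ψ ≫ S.fromSpecResidueField s = q :=
    Scheme.descResidueField_stalkClosedPointTo_fromSpecResidueField K S q
  letI : Algebra (S.residueField s) K := ψ.hom.toAlgebra
  have outer : IsPullback (p.fiberι s) (p.fiber s ↘ Spec (CommRingCat.of (S.residueField s))) p
      (S.fromSpecResidueField s) := IsPullback.of_hasPullback _ _
  let σ : W ⟶ p.fiber s := outer.lift g ((W ↘ Spec (CommRingCat.of K)) ≫ Spec.map ψ)
    (by rw [Category.assoc, hψ]; exact hg.w)
  have hσ : IsPullback σ (W ↘ Spec (CommRingCat.of K)) (p.fiber s ↘ Spec (CommRingCat.of (S.residueField s)))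
      (Spec.map (CommRingCat.ofHom (algebraMap (S.residueField s) K))) := by
    refine IsPullback.of_right ?_ (outer.lift_snd _ _ _) outer
    rw [outer.lift_fst]
    show IsPullback g _ p (Spec.map ψ ≫ _)
    rw [hψ]
    exact hg
  refine finsum_congr fun i => ?_
  refine congrArg (fun x : ℕ => (-1 : ℤ) ^ i * (x : ℤ)) ?_
  exact (Crv77.hEquiv (S.residueField s : Type u) (PicLoc.pullbackStructureIso (p.fiberι s)) i).finrank_eq.trans
    (Crv77.finrank_hh_structureModule_baseChange (S.residueField s : Type u) K σ hσ i).symm

variable [Flat p] [IsProper p] {n : ℕ} {C : Fin n → ArSurf.VertComp R (Over.mk p)}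
  (hC : Models.IsComponentList R (Over.mk p) C)
  {Y : Scheme.{u}} {f : Y ⟶ Spec (CommRingCat.of (FractionRing R))} {g : Y ⟶ X}
  (hg : IsPullback g f p (Spec.map (CommRingCat.ofHom (algebraMap R (FractionRing R))))) (hH0 : IsIso f.appTop)
  (hYd : topologicalKrullDim Y ≤ 1)

include hH0 in
theorem finrank_h0_eq_one :
    letI : Y.Over (Spec (CommRingCat.of (FractionRing R))) := ⟨f⟩
    Module.finrank (FractionRing R) (Coh.HH Y (Coh.structureModule Y) 0) = 1 := by
  letI : Y.Over (Spec (CommRingCat.of (FractionRing R))) := ⟨f⟩
  let gK : FractionRing R →+* Γ(Y, ⊤) := Coh.toGlobal f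
  have hK : Function.Bijective gK :=
    (ConcreteCategory.bijective_of_isIso f.appTop).comp
      (ConcreteCategory.bijective_of_isIso (Scheme.ΓSpecIso (CommRingCat.of (FractionRing R))).inv)
  let one : Coh.HH Y (Coh.structureModule Y) 0 := (Crv77.sec (Coh.structureModule Y)).symm (1 : Γ(Y, ⊤))
  have h1 : ∀ a : FractionRing R, Crv77.sec (Coh.structureModule Y) (a • one) = gK a := fun a => by
    rw [Crv77.sec_smul (FractionRing R)]
    show gK a • Crv77.sec (Coh.structureModule Y) ((Crv77.sec _).symm _) = gK a
    rw [AddEquiv.apply_symm_apply]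
    exact mul_one (gK a)
  let e : FractionRing R ≃ₗ[FractionRing R] Coh.HH Y (Coh.structureModule Y) 0 :=
    LinearEquiv.ofBijective (LinearMap.toSpanSingleton _ _ one) ⟨fun a b h => hK.1 (by
      rw [← h1, ← h1]; exact congrArg _ h), fun x => by
      obtain ⟨a, ha⟩ := hK.2 (Crv77.sec (Coh.structureModule Y) x)
      exact ⟨a, (Crv77.sec (Coh.structureModule Y)).injective ((h1 a).trans ha)⟩⟩
  rw [← e.finrank_eq, Module.finrank_self]

include hC hg hH0 hYd in
/-- The special fibre has the Euler characteristic of the generic fibre. -/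
theorem chiLen_fIdeal :
    chiLen p (ClSub.quotMod (fIdeal p)) = 1 - (Models.curveGenus (FractionRing R) Y f : ℤ) := by
  letI : Y.Over (Spec (CommRingCat.of (FractionRing R))) := ⟨f⟩
  haveI : IsProper f := MorphismProperty.of_isPullback (P := @IsProper) hg inferInstance
  haveI : IsProper (Y ↘ Spec (CommRingCat.of (FractionRing R))) := ‹IsProper f›
  have hY := Crv77.curveCoh_of_proper (FractionRing R) Y hYd
  have hgen : Curv2.euler (FractionRing R) Y (Coh.structureModule Y) = 1 - (Models.curveGenus (FractionRing R) Y f : ℤ) := by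
    rw [hY.euler_eq Crv77.isCoh_structureModule, Crv77.h, finrank_h0_eq_one hH0, Nat.cast_one]
    rfl
  let res := CommRingCat.ofHom (IsLocalRing.residue R)
  haveI : IsClosedImmersion (Spec.map res) := IsClosedImmersion.spec_of_surjective _ IsLocalRing.residue_surjective
  let I := (Curv2.idealSheaf R (IsLocalRing.maximalIdeal R))
  let F := pullback p (Spec.map res)
  letI : F.Over (Spec (CommRingCat.of (IsLocalRing.ResidueField R))) := ⟨pullback.snd p (Spec.map res)⟩
  have hF : IsPullback (pullback.fst p (Spec.map res)) (F ↘ Spec (CommRingCat.of (IsLocalRing.ResidueField R))) p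
      (Spec.map res) := IsPullback.of_hasPullback _ _
  have hker : (pullback.fst p (Spec.map res)).ker = fIdeal p := by
    rw [Scheme.IdealSheafData.ker_fst_of_isClosedImmersion, Units47.ker_specMap, IsLocalRing.ker_residue]
    rfl
  have hdim : topologicalKrullDim F ≤ 1 := dim_le_one_of_fibre hC (pullback.fst p (Spec.map res)) (by
    rw [← support_specialFibreIdeal p, ← hker, Scheme.Hom.support_ker]
    exact subset_closure)
  have hchi : chiLen p (ClSub.quotMod (fIdeal p)) =
      Curv2.euler (IsLocalRing.ResidueField R) F (Coh.structureModule F) := by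
    obtain ⟨q⟩ := HypSq53.nonempty_quotMod_iso (pullback.fst p (Spec.map res))
    rw [← hker, ← chiLen_congr p q]
    exact chiLen_push p (pullback.fst p (Spec.map res)) _ hF.w hdim _ Crv77.isCoh_structureModule
  have hs := eulerChar_eq_euler (W := F) (IsLocalRing.residue R) (pullback.fst p (Spec.map res)) hF
  have hη := eulerChar_eq_euler (W := Y) (algebraMap R (FractionRing R)) g hg
  rw [hchi, ← hs, ← hgen, ← hη]
  haveI : LocallyOfFinitePresentation p := by
    rw [HasRingHomProperty.iff_appLE (P := @LocallyOfFinitePresentation)]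
    intro U V e
    haveI : IsNoetherianRing Γ(Spec (CommRingCat.of R), U.1) := IsLocallyNoetherian.component_noetherian U
    exact RingHom.FinitePresentation.of_finiteType.mp (LocallyOfFiniteType.finiteType_appLE (f := p) U.2 V.2 e)
  haveI : (Coh.structureModule X).IsQuasicoherent := QC70.isQuasicoherent_unit (X := X)
  exact (FGA29.EulerLC.isLocallyConstant_eulerChar p (Coh.structureModule X) (LimTop61.isFP_structureModule' X)
    (FBase64.RedField.isFlatOver_structure p)).apply_eq_of_preconnectedSpace _ _

end Groth.Agent.ModPic
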