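import Groth.Agent.ModPic.Connected
import Groth.Agent.Crv77.GeomConn
import Groth.Agent.Stein58.Zariski

/-!
Models of geometrically connected curves have geometrically connected fibres.
-/

set_option autoImplicit false
set_option backward.isDefEq.respectTransparency.types false
set_option linter.style.haveILetI false

noncomputable section

universe u

open CategoryTheory CategoryTheory.Limits AlgebraicGeometry TopologicalSpace Opposite
open Groth.Agent

namespace Groth.Agent.ModPic

theorem isIso_appTop_of_geomConnected {k : Type u} [Field k] {Y : Scheme.{u}} [Nonempty Y]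
    (f : Y ⟶ Spec (CommRingCat.of k)) [IsProper f] [Smooth f] [GeometricallyConnected f] : IsIso f.appTop := by
  letI : Y.Over (Spec (CommRingCat.of k)) := ⟨f⟩
  haveI : IsProper (Y ↘ Spec (CommRingCat.of k)) := ‹IsProper f›
  haveI : Smooth (Y ↘ Spec (CommRingCat.of k)) := ‹Smooth f›
  haveI : GeometricallyConnected (Y ↘ Spec (CommRingCat.of k)) := ‹GeometricallyConnected f›
  have h := Crv77.finrank_h0_of_connected k Y
  let F : Y.Modules := Coh.structureModule Y
  let φ : k →+* Γ(Y, ⊤) := f.appTop.hom.comp (Scheme.ΓSpecIso (CommRingCat.of k)).inv.hom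
  letI : Algebra k Γ(Y, ⊤) := φ.toAlgebra
  let eO : Coh.HH Y F 0 ≃ₗ[k] Γ(Y, ⊤) :=
    { Crv77.sec F with map_smul' := fun a x => (Crv77.sec_smul k F a x).trans (Algebra.smul_def a (show Γ(Y, ⊤) from Crv77.sec F x)).symm }
  have h1 : Module.finrank k (Γ(Y, ⊤)) = 1 := eO.finrank_eq.symm.trans h
  haveI : Nontrivial (Γ(Y, ⊤)) := Module.nontrivial_of_finrank_pos (R := k) (by omega)
  have hb : Function.Bijective (algebraMap k (Γ(Y, ⊤))) :=
    ⟨(algebraMap k (Γ(Y, ⊤))).injective, fun y => by
      obtain ⟨c, hc⟩ := (finrank_eq_one_iff_of_nonzero' (1 : Γ(Y, ⊤)) one_ne_zero).1 h1 y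
      exact ⟨c, by rw [Algebra.algebraMap_eq_smul_one, hc]⟩⟩
  have hk : Function.Bijective (Scheme.ΓSpecIso (CommRingCat.of k)).inv :=
    ConcreteCategory.bijective_of_isIso (Scheme.ΓSpecIso (CommRingCat.of k)).inv
  have hb' : Function.Bijective (fun a : k => f.appTop.hom ((Scheme.ΓSpecIso (CommRingCat.of k)).inv.hom a)) := hb
  exact (ConcreteCategory.isIso_iff_bijective _).2 ((Function.Bijective.of_comp_iff _ hk).1 hb')

variable {R : Type u} [CommRing R] [IsDomain R] [IsDiscreteValuationRing R] {X : Scheme.{u}}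
  {p : X ⟶ Spec (CommRingCat.of R)} [Flat p] [IsProper p] (hreg : Models.IsRegularScheme X)
  {Y : Scheme.{u}} {f : Y ⟶ Spec (CommRingCat.of (FractionRing R))} {g : Y ⟶ X}
  (hg : IsPullback g f p (Spec.map (CommRingCat.ofHom (algebraMap R (FractionRing R)))))
  [Nonempty Y]

include hreg hg in
theorem geometricallyConnected_model [Smooth f] [GeometricallyConnected f] : GeometricallyConnected p := by
  haveI : IsProper f := MorphismProperty.of_isPullback (P := @IsProper) hg inferInstance
  haveI := isIso_appTop hreg hg (isIso_appTop_of_geomConnected f)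
  exact Stein58.geometricallyConnected_of_isIso_appTop' p

end Groth.Agent.ModPic
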