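import Groth.Agent.ArS10.HorizDiv
import Groth.Agent.Div89.Basic

/-!
Horizontal effective Cartier divisors with a prescribed equation at a point of the closed fibre.
-/

set_option autoImplicit false
set_option linter.style.haveILetI false
set_option backward.isDefEq.respectTransparency.types false

universe u

open CategoryTheory CategoryTheory.Limits AlgebraicGeometry TopologicalSpace IsLocalRing


noncomputable section

namespace Groth.Agent.ModPic

open Groth.Agent.ArS10 (finite_of_isolated false_of_chain genericPoint_notMem_fibre)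

/-- The ideal of a closed subscheme cut out by one equation in an affine chart. -/
theorem ideal_affine_chart {X : Scheme.{u}} {V : X.Opens} (hV : IsAffineOpen V) (f : Γ(X, V))
    (d : Spec (CommRingCat.of (Γ(X, V) ⧸ Ideal.span {f})) ⟶ X) [IsClosedImmersion d]
    (hd : Spec.map (CommRingCat.ofHom (Ideal.Quotient.mk (Ideal.span {f}))) ≫ hV.fromSpec = d) :
    d.ker.ideal ⟨V, hV⟩ = Ideal.span {f} := by
  subst hd
  set φ := CommRingCat.ofHom (Ideal.Quotient.mk (Ideal.span {f}))
  have htop : (Spec.map φ ≫ hV.fromSpec) ⁻¹ᵁ V = ⊤ := by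
    rw [Scheme.Hom.comp_preimage, hV.fromSpec_preimage_self]
    rfl
  have e : (Spec.map φ ≫ hV.fromSpec).appLE V ⊤ htop.ge = φ ≫ (Scheme.ΓSpecIso _).inv := by
    rw [Scheme.ΓSpecIso_inv_naturality]
    have h1 : hV.fromSpec.appLE V ⊤ hV.fromSpec_preimage_self.ge = (Scheme.ΓSpecIso Γ(X, V)).inv := by
      rw [Scheme.Hom.appLE, hV.fromSpec_app_self, Category.assoc, ← Functor.map_comp]
      exact (congrArg (_ ≫ ·) ((congrArg _ (Subsingleton.elim _ (𝟙 _))).trans
        ((Spec Γ(X, V)).presheaf.map_id _))).trans (Category.comp_id _)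
    show _ = (Scheme.ΓSpecIso Γ(X, V)).inv ≫ _
    rw [← h1, ← Scheme.Hom.appLE_comp_appLE _ _ V ⊤ ⊤ hV.fromSpec_preimage_self.ge le_rfl]
    exact congrArg (_ ≫ ·) (Scheme.Hom.app_eq_appLE _).symm
  ext a
  rw [Scheme.Hom.ker_apply, RingHom.mem_ker]
  have h2 : (Spec.map φ ≫ hV.fromSpec).appLE V ⊤ htop.ge a = 0 ↔
      (Spec.map φ ≫ hV.fromSpec).app V a = 0 := by
    rw [Scheme.Hom.appLE, ConcreteCategory.comp_apply]
    exact map_eq_zero_iff _ (ConcreteCategory.bijective_of_isIso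
      ((Spec (CommRingCat.of (Γ(X, V) ⧸ Ideal.span {f}))).presheaf.map (eqToHom htop.symm).op)).1
  rw [← h2, e, ConcreteCategory.comp_apply]
  rw [map_eq_zero_iff _ (ConcreteCategory.bijective_of_isIso (Scheme.ΓSpecIso _).inv).1]
  exact Ideal.Quotient.eq_zero_iff_mem

variable {R : Type u} [CommRing R] [IsDomain R] [IsDiscreteValuationRing R]

/-- An equation at a closed point of the fibre that is invertible at the maximal points of the fibre
through it extends to a horizontal divisor meeting the fibre at that point only. -/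
theorem exists_horizontal_of_equation [HenselianLocalRing R] (X : Over (Spec (CommRingCat.of R))) [IsIntegral X.left]
    (hdim : topologicalKrullDim X.left = 2) [Flat X.hom] [IsProper X.hom]
    (x : X.left) (hx : IsClosed ({x} : Set X.left)) (hxs : x ∈ Models.specialFibreSet R X)
    {U : X.left.Opens} (hU : IsAffineOpen U) (hxU : x ∈ U) (f : Γ(X.left, U)) (hfx : x ∉ X.left.basicOpen f)
    (hfmax : ∀ z, ModPic.IsFibreMax X.hom z → z ⤳ x → z ∈ X.left.basicOpen f) :
    ∃ (D : Scheme.{u}) (d : D ⟶ X.left), IsClosedImmersion d ∧ BlowUp.IsEffCartierIdeal d.ker ∧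
      (∀ p : D, ∃ q : D, q ⤳ p ∧ ((d ≫ X.hom).base q).asIdeal = ⊥) ∧
      Set.range d.base ∩ Models.specialFibreSet R X = {x} ∧
      Div89.stalkIdeal d.ker x = Ideal.span {X.left.presheaf.germ U x hxU f} := by
  classical
  haveI : Nonempty U := ⟨⟨x, hxU⟩⟩
  obtain ⟨φ, hφ⟩ := Spec.map_surjective (hU.fromSpec ≫ X.hom)
  have hft : φ.hom.FiniteType := by
    have h1 : LocallyOfFiniteType (Spec.map φ) := by rw [hφ]; infer_instance
    exact (HasRingHomProperty.Spec_iff (P := @LocallyOfFiniteType)).1 h1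
  letI : Algebra R Γ(X.left, U) := φ.hom.toAlgebra
  haveI : Algebra.FiniteType R Γ(X.left, U) := hft
  haveI : IsNoetherianRing Γ(X.left, U) := Algebra.FiniteType.isNoetherianRing R _
  have hpt : ∀ z : PrimeSpectrum Γ(X.left, U),
      (X.hom.base (hU.fromSpec z)).asIdeal = z.asIdeal.under R := fun z => by
    rw [← Scheme.Hom.comp_apply, ← hφ]
    rfl
  have hfib : ∀ z : PrimeSpectrum Γ(X.left, U),
      hU.fromSpec z ∈ Models.specialFibreSet R X ↔ z.asIdeal.under R = maximalIdeal R := fun z => by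
    show X.hom.base (hU.fromSpec z) = closedPoint R ↔ _
    refine PrimeSpectrum.ext_iff.trans ?_
    rw [hpt]
    rfl
  have hC : ringKrullDim Γ(X.left, U) ≤ 2 := by
    rw [← PrimeSpectrum.topologicalKrullDim_eq_ringKrullDim, ← hdim]
    exact hU.fromSpec.isOpenEmbedding.isInducing.topologicalKrullDim_le
  set qx := hU.primeIdealOf ⟨x, hxU⟩
  set q : Ideal Γ(X.left, U) := qx.asIdeal
  have hqx : hU.fromSpec qx = x := hU.fromSpec_primeIdealOf _
  haveI hqmax : q.IsMaximal := by
    rw [← PrimeSpectrum.isClosed_singleton_iff_isMaximal]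
    have : ({qx} : Set (PrimeSpectrum Γ(X.left, U))) = hU.fromSpec ⁻¹' {x} := by
      ext z
      simp only [Set.mem_singleton_iff, Set.mem_preimage]
      exact ⟨fun h => h ▸ hqx, fun h => hU.fromSpec.isOpenEmbedding.injective (h.trans hqx.symm)⟩
    rw [this]
    exact hx.preimage hU.fromSpec.continuous
  have hq : q.under R = maximalIdeal R := (hfib qx).1 (hqx.symm ▸ hxs)
  set J := (maximalIdeal R).map (algebraMap R Γ(X.left, U))
  have hbot : ¬ J ≤ ⊥ := fun h => genericPoint_notMem_fibre (X := X) (by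
    have h1 : hU.fromSpec (⟨⊥, Ideal.isPrime_bot⟩ : PrimeSpectrum Γ(X.left, U)) = genericPoint X.left := by
      refine (Specializes.antisymm (genericPoint_specializes _) ?_).eq.symm
      obtain ⟨g, hg⟩ := hU.range_fromSpec.ge
        (((genericPoint_spec X.left).mem_open_set_iff U.2).2 ⟨x, trivial, hxU⟩)
      rw [← hg]
      exact ((PrimeSpectrum.le_iff_specializes ⟨⊥, Ideal.isPrime_bot⟩ g).1 bot_le).map hU.fromSpec.continuous
    rw [← h1, hfib]
    exact ((maximalIdeal.isMaximal R).eq_of_le (Ideal.IsPrime.comap (hK := Ideal.isPrime_bot) _).ne_top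
      (Ideal.map_le_iff_le_comap.1 h)).symm)
  have hJq : J ≤ q := Ideal.map_le_iff_le_comap.2 hq.ge
  -- the prescribed equation
  have hfq : f ∈ q := by
    by_contra h
    exact hfx (hqx ▸ (show qx ∈ hU.fromSpec ⁻¹ᵁ X.left.basicOpen f by
      rw [hU.fromSpec_preimage_basicOpen]; exact h))
  have hfP : ∀ P ∈ J.minimalPrimes, P ≤ q → f ∉ P := by
    intro P hP hPq hfP'
    let z : PrimeSpectrum Γ(X.left, U) := ⟨P, hP.1.1⟩
    have hzs : hU.fromSpec z ∈ Models.specialFibreSet R X := (hfib z).2 (by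
      haveI := hP.1.1
      exact (IsLocalRing.maximalIdeal.isMaximal R).eq_of_le (Ideal.IsPrime.comap _).ne_top
        (Ideal.map_le_iff_le_comap.1 hP.1.2) |>.symm)
    have hmax : ModPic.IsFibreMax X.hom (hU.fromSpec z) := by
      refine ⟨hzs, fun y hy hyz => ?_⟩
      obtain ⟨w, rfl⟩ := hU.range_fromSpec.ge (hyz.mem_open U.2 (hU.range_fromSpec.le ⟨z, rfl⟩))
      have hwz : w.asIdeal ≤ P :=
        (PrimeSpectrum.le_iff_specializes w z).2 (hU.fromSpec.isOpenEmbedding.isInducing.specializes_iff.1 hyz)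
      have : P ≤ w.asIdeal := hP.2 ⟨w.isPrime, Ideal.map_le_iff_le_comap.2 ((hfib w).1 hy).ge⟩ hwz
      exact congrArg hU.fromSpec (PrimeSpectrum.ext (le_antisymm hwz this))
    have h := hfmax _ hmax (((PrimeSpectrum.le_iff_specializes z qx).1 hPq).map hU.fromSpec.continuous |>.trans
      (specializes_of_eq hqx))
    have h' : z ∈ hU.fromSpec ⁻¹ᵁ X.left.basicOpen f := h
    rw [hU.fromSpec_preimage_basicOpen] at h'
    exact h' hfP'
  obtain ⟨P₀, hP₀, hP₀q⟩ := Ideal.exists_minimalPrimes_le hJq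
  have hf0 : f ≠ 0 := fun h => hfP P₀ hP₀ hP₀q (h ▸ P₀.zero_mem)
  have hchain : ∀ Q : Ideal Γ(X.left, U), Q.IsPrime → Q ≤ q → J ≤ Q → f ∈ Q → Q = q := by
    intro Q hQ hQq hJQ hfQ
    obtain ⟨P, hP, hPQ⟩ := Ideal.exists_minimalPrimes_le hJQ
    by_contra hne
    exact false_of_chain hC Ideal.isPrime_bot hP.1.1 hQ inferInstance
      (bot_lt_iff_ne_bot.2 fun h => hbot (h ▸ hP.1.2))
      (lt_of_le_of_ne hPQ fun h => hfP P hP (hPQ.trans hQq) (h ▸ hfQ)) (lt_of_le_of_ne hQq hne)
  -- the components through the point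
  set I := Ideal.span ({f} : Set Γ(X.left, U))
  have hIfin := Ideal.finite_minimalPrimes_of_isNoetherianRing Γ(X.left, U) I
  set S := hIfin.toFinset.filter fun P => P ≤ q
  set S' := hIfin.toFinset.filter fun P => ¬ P ≤ q
  have hS : ∀ P ∈ S, P.IsPrime ∧ f ∈ P ∧ P ≤ q ∧ ¬ J ≤ P := by
    intro P hP
    obtain ⟨hP1, hP2⟩ := Finset.mem_filter.1 hP
    have hmin := hIfin.mem_toFinset.1 hP1
    have hfP' : f ∈ P := hmin.1.2 (Ideal.mem_span_singleton_self f)
    refine ⟨hmin.1.1, hfP', hP2, fun hJP => ?_⟩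
    have hPq := hchain P hmin.1.1 hP2 hJP hfP'
    have h1 : P.height ≤ 1 := Ideal.height_le_one_of_isPrincipal_of_mem_minimalPrimes I P hmin
    haveI := hmin.1.1
    haveI := hP₀.1.1
    have h2 : (P₀ : Ideal Γ(X.left, U)) < P :=
      lt_of_le_of_ne (hPq ▸ hP₀q) fun h => hfP P₀ hP₀ hP₀q (h ▸ hfP')
    have h3 : P₀.height < P.height := Ideal.height_strict_mono_of_isPrime h2
    have h4 : (⊥ : Ideal Γ(X.left, U)).height < P₀.height := by
      haveI := Ideal.isPrime_bot (α := Γ(X.left, U))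
      exact Ideal.height_strict_mono_of_isPrime (bot_lt_iff_ne_bot.2 fun h => hbot (h ▸ hP₀.1.2))
    have h5 : (1 : ℕ∞) ≤ P₀.height := Order.one_le_iff_pos.2 (lt_of_le_of_lt bot_le h4)
    exact absurd (lt_of_le_of_lt h5 h3) (not_lt.2 h1)
  have hloc : ∀ P ∈ S, Module.Finite R (Γ(X.left, U) ⧸ P) ∧
      ∀ Q : Ideal Γ(X.left, U), Q.IsPrime → P ≤ Q → Q.IsMaximal → Q = q := by
    intro P hP
    obtain ⟨hPp, hfP', hPq, -⟩ := hS P hP
    haveI := hPp
    haveI : Algebra.FiniteType R (Γ(X.left, U) ⧸ P) :=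
      Algebra.FiniteType.of_surjective (Ideal.Quotient.mkₐ R P) (Ideal.Quotient.mkₐ_surjective R P)
    haveI : (q.map (Ideal.Quotient.mk P)).IsMaximal :=
      Ideal.IsMaximal.map_of_surjective_of_ker_le Ideal.Quotient.mk_surjective (by rwa [Ideal.mk_ker])
    have hcm : (q.map (Ideal.Quotient.mk P)).comap (Ideal.Quotient.mk P) = q := by
      rw [Ideal.comap_map_of_surjective _ Ideal.Quotient.mk_surjective, ← RingHom.ker_eq_comap_bot,
        Ideal.mk_ker, sup_eq_left]
      exact hPq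
    have hfin : Module.Finite R (Γ(X.left, U) ⧸ P) := by
      refine finite_of_isolated (q.map (Ideal.Quotient.mk P)) ?_ fun Q hQ hle hJQ => ?_
      · rw [← hq]
        conv_rhs => rw [← hcm]
        rfl
      · haveI := hQ
        have h1 : Q.comap (Ideal.Quotient.mk P) = q := by
          refine hchain _ (Ideal.IsPrime.comap _) ((Ideal.comap_mono hle).trans hcm.le) ?_ ?_
          · rw [Ideal.map_le_iff_le_comap, Ideal.comap_comap]
            exact Ideal.map_le_iff_le_comap.1 hJQ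
          · rw [Ideal.mem_comap, Ideal.Quotient.eq_zero_iff_mem.2 hfP']
            exact Q.zero_mem
        rw [← h1, Ideal.map_comap_of_surjective _ Ideal.Quotient.mk_surjective]
    refine ⟨hfin, fun Q hQ hPQ hQm => ?_⟩
    haveI := hfin
    haveI : IsLocalRing (Γ(X.left, U) ⧸ P) := E4O.isLocalRing_of_finite_henselian (A := R)
    haveI : (Q.map (Ideal.Quotient.mk P)).IsMaximal :=
      Ideal.IsMaximal.map_of_surjective_of_ker_le Ideal.Quotient.mk_surjective (by rwa [Ideal.mk_ker])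
    have h := congrArg (Ideal.comap (Ideal.Quotient.mk P))
      ((IsLocalRing.eq_maximalIdeal (I := Q.map (Ideal.Quotient.mk P)) inferInstance).trans
      (IsLocalRing.eq_maximalIdeal (I := q.map (Ideal.Quotient.mk P)) inferInstance).symm)
    rwa [hcm, Ideal.comap_map_of_surjective _ Ideal.Quotient.mk_surjective, ← RingHom.ker_eq_comap_bot,
      Ideal.mk_ker, sup_eq_left.2 hPQ] at h
  -- separate the other components
  have hcop : S'.inf id ⊔ S.inf id = ⊤ := by
    by_contra hne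
    obtain ⟨M, hM, hle⟩ := Ideal.exists_le_maximal _ hne
    haveI := hM
    obtain ⟨P, hP, hPM⟩ := (Ideal.IsPrime.inf_le' hM.isPrime).1 (le_sup_right.trans hle)
    obtain ⟨P', hP', hPM'⟩ := (Ideal.IsPrime.inf_le' hM.isPrime).1 (le_sup_left.trans hle)
    rw [(hloc P hP).2 M hM.isPrime hPM hM] at hPM'
    exact (Finset.mem_filter.1 hP').2 hPM'
  obtain ⟨b, hb, c, hc, hbc⟩ := Submodule.mem_sup.1 ((Ideal.eq_top_iff_one _).1 hcop)
  have hbS : ∀ P ∈ S, ∀ Q : Ideal Γ(X.left, U), Q.IsPrime → P ≤ Q → b ∉ Q := fun P hP Q hQ hPQ hbQ =>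
    hQ.ne_top ((Ideal.eq_top_iff_one _).2 (hbc ▸ Q.add_mem hbQ (hPQ ((Finset.inf_le hP : S.inf id ≤ P) hc))))
  have hVf : ∀ Q : Ideal Γ(X.left, U), Q.IsPrime →
      ((f ∈ Q ∧ b ∉ Q) ↔ ∃ P ∈ S, P ≤ Q) := by
    intro Q hQ
    refine ⟨fun ⟨h1, h2⟩ => ?_, fun ⟨P, hP, hPQ⟩ => ⟨hPQ (hS P hP).2.1, hbS P hP Q hQ hPQ⟩⟩
    obtain ⟨P, hP, hPQ⟩ := Ideal.exists_minimalPrimes_le (show I ≤ Q from (Ideal.span_singleton_le_iff_mem _).2 h1)
    refine ⟨P, Finset.mem_filter.2 ⟨hIfin.mem_toFinset.2 hP, ?_⟩, hPQ⟩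
    by_contra hPq
    exact h2 (hPQ ((Finset.inf_le (Finset.mem_filter.2 ⟨hIfin.mem_toFinset.2 hP, hPq⟩) : S'.inf id ≤ P) hb))
  -- the divisor
  set V := X.left.basicOpen b
  have hV : IsAffineOpen V := hU.basicOpen b
  have hVU : V ≤ U := X.left.basicOpen_le b
  haveI : Nonempty V := ⟨⟨x, by
    obtain ⟨P, hP, hPq⟩ := Ideal.exists_minimalPrimes_le (show I ≤ q from (Ideal.span_singleton_le_iff_mem _).2 hfq)
    rw [← hqx]
    show qx ∈ hU.fromSpec ⁻¹ᵁ V
    rw [hU.fromSpec_preimage_basicOpen]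
    exact hbS P (Finset.mem_filter.2 ⟨hIfin.mem_toFinset.2 hP, hPq⟩) q inferInstance hPq⟩⟩
  set f' : Γ(X.left, V) := X.left.presheaf.map (homOfLE hVU).op f
  let d : Spec (CommRingCat.of (Γ(X.left, V) ⧸ Ideal.span {f'})) ⟶ X.left :=
    Spec.map (CommRingCat.ofHom (Ideal.Quotient.mk (Ideal.span {f'}))) ≫ hV.fromSpec
  have hrange : Set.range d.base = hU.fromSpec '' {z | ∃ P ∈ S, P ≤ z.asIdeal} := by
    have h1 : Set.range d.base = X.left.zeroLocus (U := V) {f'} ∩ V := by
      rw [← hV.fromSpec_image_zeroLocus]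
      show Set.range (Spec.map (CommRingCat.ofHom (Ideal.Quotient.mk (Ideal.span {f'}))) ≫ hV.fromSpec).base = _
      rw [Scheme.Hom.comp_base, TopCat.coe_comp, Set.range_comp]
      congr 1
      refine (range_comap_of_surjective _ _ Ideal.Quotient.mk_surjective).trans ?_
      rw [Ideal.mk_ker, PrimeSpectrum.zeroLocus_span]
    rw [h1]
    ext p
    simp only [Set.mem_inter_iff, Scheme.mem_zeroLocus_iff, Set.mem_singleton_iff, forall_eq, SetLike.mem_coe,
      Set.mem_image, Set.mem_setOf_eq, f', Scheme.basicOpen_res, Opens.mem_inf]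
    constructor
    · rintro ⟨h1, h2⟩
      obtain ⟨z, rfl⟩ := hU.range_fromSpec.ge (hVU h2)
      have hb' : z ∈ hU.fromSpec ⁻¹ᵁ V := h2
      rw [hU.fromSpec_preimage_basicOpen] at hb'
      refine ⟨z, (hVf _ z.isPrime).1 ⟨?_, hb'⟩, rfl⟩
      by_contra hfz
      exact h1 ⟨h2, show z ∈ hU.fromSpec ⁻¹ᵁ X.left.basicOpen f by rw [hU.fromSpec_preimage_basicOpen]; exact hfz⟩
    · rintro ⟨z, hz, rfl⟩
      obtain ⟨hfz, hbz⟩ := (hVf _ z.isPrime).2 hz
      refine ⟨fun h => ?_, show z ∈ hU.fromSpec ⁻¹ᵁ V by rw [hU.fromSpec_preimage_basicOpen]; exact hbz⟩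
      have h' : z ∈ hU.fromSpec ⁻¹ᵁ X.left.basicOpen f := h.2
      rw [hU.fromSpec_preimage_basicOpen] at h'
      exact h' hfz
  haveI hd : IsClosedImmersion d := by
    haveI : IsClosedImmersion (Spec.map (CommRingCat.ofHom (Ideal.Quotient.mk (Ideal.span {f'})))) :=
      IsClosedImmersion.spec_of_surjective _ Ideal.Quotient.mk_surjective
    refine IsClosedImmersion.of_isPreimmersion d ?_
    rw [show Set.range d = hU.fromSpec '' {z | ∃ P ∈ S, P ≤ z.asIdeal} from hrange]
    have : hU.fromSpec '' {z | ∃ P ∈ S, P ≤ z.asIdeal} =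
        ⋃ P ∈ S, hU.fromSpec '' PrimeSpectrum.zeroLocus (P : Set Γ(X.left, U)) := by
      ext p; simp [PrimeSpectrum.mem_zeroLocus]
      tauto
    rw [this]
    refine isClosed_biUnion_finset fun P hP => ?_
    haveI := (hloc P hP).1
    let j := Spec.map (CommRingCat.ofHom (Ideal.Quotient.mk P)) ≫ hU.fromSpec
    haveI : IsFinite (Spec.map (CommRingCat.ofHom (algebraMap R (Γ(X.left, U) ⧸ P)))) :=
      (IsFinite.SpecMap_iff _).2 (RingHom.finite_algebraMap.2 inferInstance)
    haveI : IsProper (j ≫ X.hom) := by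
      have e : j ≫ X.hom = Spec.map (CommRingCat.ofHom (algebraMap R (Γ(X.left, U) ⧸ P))) := by
        rw [Category.assoc, ← hφ, ← Spec.map_comp]
        rfl
      rw [e]; infer_instance
    haveI : IsProper j := IsProper.of_comp j X.hom
    have e2 : hU.fromSpec '' PrimeSpectrum.zeroLocus (P : Set Γ(X.left, U)) = Set.range j := by
      rw [Scheme.Hom.comp_base, TopCat.coe_comp, Set.range_comp]
      congr 1
      refine (Eq.trans ?_ (range_comap_of_surjective _ _ Ideal.Quotient.mk_surjective).symm)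
      rw [Ideal.mk_ker]
    rw [e2]
    exact j.isClosedMap.isClosed_range
  refine ⟨_, d, hd, ArS10.isEffCartier_of_affine_chart hV f' ?_ d rfl, fun p => ?_, ?_, ?_⟩
  · refine mem_nonZeroDivisors_of_ne_zero fun h => hf0 ?_
    exact (map_eq_zero_iff _ (map_injective_of_isIntegral X.left (homOfLE hVU))).1 h
  · obtain ⟨z, ⟨P, hP, hPz⟩, hzp⟩ := hrange.le (Set.mem_range_self p)
    obtain ⟨hPp, -, hPq, hJP⟩ := hS P hP
    let η : PrimeSpectrum Γ(X.left, U) := ⟨P, hPp⟩
    obtain ⟨p', hp'⟩ := hrange.ge ⟨η, ⟨P, hP, le_rfl⟩, rfl⟩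
    refine ⟨p', d.isClosedEmbedding.isInducing.specializes_iff.1 ?_, ?_⟩
    · show d.base p' ⤳ d.base p
      rw [hp', ← hzp]
      exact ((PrimeSpectrum.le_iff_specializes η z).1 hPz).map hU.fromSpec.continuous
    · rw [Scheme.Hom.comp_apply, hp', hpt]
      by_contra hne
      haveI : (P.under R).IsPrime := Ideal.IsPrime.comap _
      refine hJP (Ideal.map_le_iff_le_comap.2 ?_)
      exact (IsLocalRing.eq_maximalIdeal (Ideal.IsPrime.isMaximal inferInstance hne)).ge
  · refine Set.Subset.antisymm ?_ (Set.singleton_subset_iff.2 ⟨?_, hxs⟩)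
    · rintro _ ⟨hp, hps⟩
      obtain ⟨z, ⟨P, hP, hPz⟩, rfl⟩ := hrange.le hp
      obtain ⟨hPp, -, -, -⟩ := hS P hP
      haveI := hPp
      haveI := (hloc P hP).1
      have hz : z.asIdeal.IsMaximal := by
        haveI : (z.asIdeal.map (Ideal.Quotient.mk P)).IsPrime :=
          Ideal.map_isPrime_of_surjective Ideal.Quotient.mk_surjective (by rwa [Ideal.mk_ker])
        have e : (z.asIdeal.map (Ideal.Quotient.mk P)).comap (Ideal.Quotient.mk P) = z.asIdeal := by
          rw [Ideal.comap_map_of_surjective _ Ideal.Quotient.mk_surjective, ← RingHom.ker_eq_comap_bot,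
            Ideal.mk_ker, sup_eq_left]
          exact hPz
        have hm : ((z.asIdeal.map (Ideal.Quotient.mk P)).under R).IsMaximal := by
          have : (z.asIdeal.map (Ideal.Quotient.mk P)).under R = maximalIdeal R := by
            rw [← (hfib z).1 hps]
            conv_rhs => rw [← e]
            rfl
          rw [this]; infer_instance
        haveI := Ideal.isMaximal_of_isIntegral_of_isMaximal_comap _ hm
        rw [← e]
        exact Ideal.comap_isMaximal_of_surjective _ Ideal.Quotient.mk_surjective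
      rw [Set.mem_singleton_iff, ← hqx]
      exact congrArg hU.fromSpec (PrimeSpectrum.ext ((hloc P hP).2 _ z.isPrime hPz hz))
    · obtain ⟨P, hP, hPq⟩ := Ideal.exists_minimalPrimes_le (show I ≤ q from (Ideal.span_singleton_le_iff_mem _).2 hfq)
      exact hrange.ge ⟨qx, ⟨P, Finset.mem_filter.2 ⟨hIfin.mem_toFinset.2 hP, hPq⟩, hPq⟩, hqx⟩
  · have hxV : x ∈ V := by
      obtain ⟨P, hP, hPq⟩ := Ideal.exists_minimalPrimes_le (show I ≤ q from (Ideal.span_singleton_le_iff_mem _).2 hfq)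
      rw [← hqx]
      show qx ∈ hU.fromSpec ⁻¹ᵁ V
      rw [hU.fromSpec_preimage_basicOpen]
      exact hbS P (Finset.mem_filter.2 ⟨hIfin.mem_toFinset.2 hP, hPq⟩) q inferInstance hPq
    rw [Div89.stalkIdeal_eq _ ⟨V, hV⟩ x hxV, ideal_affine_chart hV f' d rfl, Ideal.map_span,
      Set.image_singleton]
    exact congrArg (fun t => Ideal.span {t}) (X.left.presheaf.germ_res_apply (homOfLE hVU) x hxV f)

end Groth.Agent.ModPic
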