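import Groth.Agent.ModPic.ClFacts

/-!
Twists by components are trivial only along the special fibre.
-/

set_option autoImplicit false
set_option backward.isDefEq.respectTransparency.types false
set_option linter.style.haveILetI false

noncomputable section

universe u

open CategoryTheory CategoryTheory.Limits AlgebraicGeometry TopologicalSpace Opposite
open Groth.Agent Groth.Agent.Var76.LineBundle

namespace Groth.Agent.ModPic

open scoped Groth.Agent.FGA29

variable {R : Type u} [CommRing R] [IsDomain R] [IsDiscreteValuationRing R] {X : Scheme.{u}}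
  {p : X ⟶ Spec (CommRingCat.of R)} [Flat p] (hreg : Models.IsRegularScheme X)

include hreg in
/-- Functions are determined on the generic fibre. -/
theorem eq_of_res_genOpen {a b : Γ(X, ⊤)}
    (h : Blow97.res (genOpen p) a = Blow97.res (genOpen p) b) : a = b := by
  refine TopCat.Presheaf.section_ext X.sheaf ⊤ a b fun x hx => ?_
  show X.presheaf.germ ⊤ x hx a = X.presheaf.germ ⊤ x hx b
  obtain ⟨z, hz, hzx⟩ := exists_genOpen_specializes (p := p) hreg x
  haveI := isDomain_stalk hreg x
  letI := (X.presheaf.stalkSpecializes hzx).hom.toAlgebra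
  haveI := Cyc90.isLocalization_genPrime hzx
  have hinj : Function.Injective (algebraMap (X.presheaf.stalk x) (X.presheaf.stalk z)) :=
    IsLocalization.injective (X.presheaf.stalk z) (Cyc90.genPrime hzx).asIdeal.primeCompl_le_nonZeroDivisors
  refine hinj ?_
  show (X.presheaf.stalkSpecializes hzx).hom _ = (X.presheaf.stalkSpecializes hzx).hom _
  refine (TopCat.Presheaf.germ_stalkSpecializes_apply X.presheaf hx hzx a).trans
    ((?_ : _ = _).trans (TopCat.Presheaf.germ_stalkSpecializes_apply X.presheaf hx hzx b).symm)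
  have e := congrArg (X.presheaf.germ (genOpen p) z hz) h
  rw [TopCat.Presheaf.germ_res_apply, TopCat.Presheaf.germ_res_apply] at e
  exact e

variable {Y : Scheme.{u}} {f : Y ⟶ Spec (CommRingCat.of (FractionRing R))} {g : Y ⟶ X}
  (hg : IsPullback g f p (Spec.map (CommRingCat.ofHom (algebraMap R (FractionRing R))))) (hH0 : IsIso f.appTop)

include hreg hg hH0 in
/-- Global functions are, up to powers of the uniformiser, constants. -/
theorem exists_pow_mul_eq (t : Γ(X, ⊤)) : ∃ (j : ℕ) (r : R), t * piG p ^ j = Blow97.gam p r := by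
  obtain ⟨e, he⟩ := exists_iso_genOpen hg
  let gK : FractionRing R →+* Γ(Y, ⊤) := Blow97.gam f
  have hK : Function.Bijective gK :=
    (ConcreteCategory.bijective_of_isIso f.appTop).comp
      (ConcreteCategory.bijective_of_isIso (Scheme.ΓSpecIso (CommRingCat.of (FractionRing R))).inv)
  obtain ⟨q, hq⟩ := hK.2 (g.appTop t)
  obtain ⟨⟨r, s, hs⟩, hrs⟩ := IsLocalization.surj (nonZeroDivisors R) q
  obtain ⟨j, v, rfl⟩ := IsDiscreteValuationRing.eq_unit_mul_pow_irreducible (nonZeroDivisors.ne_zero hs) (irreducible_unif R)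
  have hbase : ∀ r : R, g.appTop (Blow97.gam p r) = gK (algebraMap R (FractionRing R) r) := fun r => by
    have h1 := congrArg (fun φ => ((Scheme.ΓSpecIso (CommRingCat.of R)).inv ≫ Scheme.Hom.appTop φ) r) hg.w
    simp only [Scheme.Hom.comp_appTop, ← Category.assoc] at h1
    rw [← Scheme.ΓSpecIso_inv_naturality] at h1
    exact h1
  refine ⟨j, r * (v⁻¹ : Rˣ), eq_of_res_genOpen (p := p) hreg ?_⟩
  have hginj : ∀ a b : Γ(X, ⊤), g.appTop a = g.appTop b → Blow97.res (genOpen p) a = Blow97.res (genOpen p) b := by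
    intro a b hab
    rw [← he, Scheme.Hom.comp_appTop] at hab
    haveI : IsIso e.hom.appTop := Scheme.Γ.map_isIso e.hom.op
    have h2 := (ConcreteCategory.bijective_of_isIso e.hom.appTop).1 hab
    have hb := ConcreteCategory.bijective_of_isIso (genOpen p).topIso.hom
    have key : ∀ c : Γ(X, ⊤), (genOpen p).topIso.hom ((genOpen p).ι.appTop c) = Blow97.res (genOpen p) c := by
      intro c
      rw [Scheme.Opens.ι_appTop, Scheme.Opens.topIso_hom]
      exact (ConcreteCategory.congr_hom (X.presheaf.map_comp (homOfLE (le_top : (genOpen p).ι ''ᵁ ⊤ ≤ ⊤)).op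
        (eqToHom (Scheme.Opens.ι_image_top (genOpen p)).symm).op) c).symm
    exact ((key a).symm.trans (congrArg (genOpen p).topIso.hom h2)).trans (key b)
  refine hginj _ _ ?_
  show g.appTop.hom (t * piG p ^ j) = g.appTop.hom (Blow97.gam p (r * (v⁻¹ : Rˣ)))
  rw [map_mul, map_pow, piG, hbase, hbase]
  show g.appTop.hom t * _ = _
  rw [show g.appTop.hom t = gK q from hq.symm, ← map_pow, ← map_mul]
  congr 1
  rw [map_mul] at hrs
  rw [map_mul, ← hrs, map_pow]
  have h1 : algebraMap R (FractionRing R) (v : R) * algebraMap R (FractionRing R) ((v⁻¹ : Rˣ) : R) = 1 := by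
    rw [← map_mul, Units.mul_inv, map_one]
  linear_combination (-(q * algebraMap R (FractionRing R) (unif R) ^ j)) * h1

theorem pow_maximalIdeal_inj {A : Type u} [CommRing A] [IsDomain A] [IsDiscreteValuationRing A] {i j : ℕ}
    (h : IsLocalRing.maximalIdeal A ^ i = IsLocalRing.maximalIdeal A ^ j) : i = j := by
  have h1 := IsDiscreteValuationRing.length_quotient_pow_maximalIdeal (R := A) i
  rw [h, IsDiscreteValuationRing.length_quotient_pow_maximalIdeal] at h1
  exact_mod_cast h1.symm

variable [LocallyOfFiniteType p] [QuasiCompact p]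
variable {n : ℕ} {C : Fin n → ArSurf.VertComp R (Over.mk p)} (hC : Models.IsComponentList R (Over.mk p) C)

include hreg hC in
theorem mult_pos (i : Fin n) : 0 < Models.mult R (Over.mk p) (C i) := by
  rw [Nat.pos_iff_ne_zero]
  intro h0
  obtain ⟨U, hx⟩ := Div89.exists_affine_mem (cPt (C i))
  have h1 := stalkIdeal_prod_cPt hC hreg (fun j => Models.mult R (Over.mk p) (C j)) i
  rw [← fIdeal_eq_prod hC hreg, h0, pow_zero, Ideal.one_eq_top, ← Div89.notMem_support_iff_stalkIdeal] at h1
  exact h1 ((Set.ext_iff.1 (support_specialFibreIdeal p) _).2 (isFibreMax_cPt hC i).1)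

include hreg hC in
theorem stalkIdeal_pi_pow (i : Fin n) (k : ℕ) :
    Ideal.span {X.presheaf.germ ⊤ (cPt (C i)) trivial (piG p)} ^ k =
      IsLocalRing.maximalIdeal (X.presheaf.stalk (cPt (C i))) ^ (Models.mult R (Over.mk p) (C i) * k) := by
  obtain ⟨U, hx⟩ := Div89.exists_affine_mem (cPt (C i))
  rw [pow_mul, ← stalkIdeal_prod_cPt hC hreg (fun j => Models.mult R (Over.mk p) (C j)) i, ← fIdeal_eq_prod hC hreg,
    Div89.stalkIdeal_eq_span (specialFibreIdeal_ideal p U) _ hx]
  congr 3
  exact (TopCat.Presheaf.germ_res_apply X.presheaf (homOfLE (le_top : U.1 ≤ ⊤)) _ hx (piG p)).symm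

include hreg hg hH0 hC in
/-- Only multiples of the special fibre are principal. -/
theorem exists_int_of_cl_eq (a b : Fin n → ℕ)
    (h : ∏ i, PicF.cl (ClSub.idealMod (cI (C i))) ^ a i = ∏ i, PicF.cl (ClSub.idealMod (cI (C i))) ^ b i) :
    ∃ c : ℤ, ∀ i, (a i : ℤ) - (b i : ℤ) = c * (Models.mult R (Over.mk p) (C i) : ℤ) := by
  rcases Nat.eq_zero_or_pos n with rfl | hn
  · exact ⟨0, fun i => i.elim0⟩
  let A := ∏ i, cI (C i) ^ a i
  let B := ∏ i, cI (C i) ^ b i
  have hA : BlowUp.IsEffCartierIdeal A :=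
    Div89.DivProd.isEffCartier_prod _ _ fun i _ => isEffCartier_pow (isEffCartier_cI hC hreg i) _
  have hB : BlowUp.IsEffCartierIdeal B :=
    Div89.DivProd.isEffCartier_prod _ _ fun i _ => isEffCartier_pow (isEffCartier_cI hC hreg i) _
  rw [← cl_idealMod_prod_pow _ (isEffCartier_cI hC hreg), ← cl_idealMod_prod_pow _ (isEffCartier_cI hC hreg)] at h
  obtain ⟨φ⟩ := FGA29.nonempty_iso_of_cl h
  let N := ∑ i, a i
  have hle : fIdeal p ^ N ≤ A := by
    rw [Div89.le_iff_stalkIdeal]
    intro x
    rw [fIdeal_eq_prod hC hreg, Div89.stalkIdeal_pow, Div89.stalkIdeal_prod, Div89.stalkIdeal_prod, ← Finset.prod_pow]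
    refine Finset.prod_le_prod' fun i _ => ?_
    rw [Div89.stalkIdeal_pow, Div89.stalkIdeal_pow, ← pow_mul]
    refine Ideal.pow_le_pow_right ?_
    calc a i ≤ N := Finset.single_le_sum (fun j _ => Nat.zero_le (a j)) (Finset.mem_univ i)
      _ ≤ _ := Nat.le_mul_of_pos_left _ (mult_pos hreg hC i)
  have hker : A.subschemeι.app ⊤ (piG p ^ N) = 0 := by
    refine TopCat.Sheaf.eq_of_locally_eq' A.subscheme.sheaf (fun U : X.affineOpens => A.subschemeι ⁻¹ᵁ U.1)
      (A.subschemeι ⁻¹ᵁ ⊤) (fun U => homOfLE fun _ _ => trivial) (fun y _ => ?_) _ _ fun U => ?_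
    · obtain ⟨U, hU⟩ := Div89.exists_affine_mem (A.subschemeι y)
      exact Opens.mem_iSup.2 ⟨U, hU⟩
    · have hmem : Blow97.res U.1 (piG p ^ N) ∈ A.ideal U := hle U (by
        rw [Scheme.IdealSheafData.ideal_pow, Pi.pow_apply, specialFibreIdeal_ideal, map_pow, Ideal.span_singleton_pow]
        exact Ideal.mem_span_singleton_self _)
      rw [← A.ker_subschemeι_app U] at hmem
      show A.subscheme.presheaf.map _ (A.subschemeι.app ⊤ (piG p ^ N)) = A.subscheme.presheaf.map _ 0
      rw [map_zero]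
      exact (ConcreteCategory.congr_hom (A.subschemeι.naturality (homOfLE (le_top : U.1 ≤ ⊤)).op) (piG p ^ N)).symm.trans hmem
  obtain ⟨m₀, hm₀⟩ := Omega57.exists_idealSect_eq A ⊤ (piG p ^ N) hker
  let t : Γ(X, ⊤) := OmegaSh.idealSect B ⊤ (φ.hom.app ⊤ m₀)
  obtain ⟨j, r, hr⟩ := exists_pow_mul_eq hreg hg hH0 t
  -- the computation at a component
  have key : ∀ i, Ideal.span {X.presheaf.germ ⊤ (cPt (C i)) trivial t} *
        IsLocalRing.maximalIdeal (X.presheaf.stalk (cPt (C i))) ^ a i =
      IsLocalRing.maximalIdeal (X.presheaf.stalk (cPt (C i))) ^ (Models.mult R (Over.mk p) (C i) * N + b i) := by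
    intro i
    obtain ⟨W₀, β₀, hξ₀, -, hβ₀, hB₀⟩ := exists_affine_span hB (U := ⊤) (cPt (C i)) trivial
    obtain ⟨W, α, hξ, hW, hα, hAW⟩ := exists_affine_span hA (cPt (C i)) hξ₀
    let β := X.presheaf.map (homOfLE hW).op β₀
    have hβ : β ∈ nonZeroDivisors Γ(X, W.1) := Div89.res_mem_nonZeroDivisors hW hβ₀
    have hBW : B.ideal W = Ideal.span {β} := Div89.ideal_res_span hW hB₀
    obtain ⟨eA, heA⟩ := Curves2.exists_idealSect_of_mem A W (hAW ▸ Ideal.mem_span_singleton_self α)
    obtain ⟨eB, heB⟩ := Curves2.exists_idealSect_of_mem B W (hBW ▸ Ideal.mem_span_singleton_self β)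
    have hfA := Curves2.isFrame_of_span A W hα hAW eA heA
    have hfB := Curves2.isFrame_of_span B W hβ hBW eB heB
    obtain ⟨v, hv⟩ := (hfB W.1 le_rfl).2 (φ.hom.app W.1 eA)
    dsimp only at hv
    rw [Amp73.res_self] at hv
    have hvu : IsUnit v := by
      rw [← Amp73.fres_self v]
      have := (Amp73.isFrame_app_iff φ.hom eA).2 hfA
      rw [← hv, Amp73.isFrame_smul_iff hfB] at this
      exact (Amp73.fres_self v).symm ▸ this
    obtain ⟨w, hw⟩ := (hfA W.1 le_rfl).2 (res _ le_top m₀)
    dsimp only at hw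
    rw [Amp73.res_self] at hw
    have e1 : Blow97.res W.1 (piG p ^ N) = w * α := by
      rw [← hm₀, ← heA, ← Omega57.idealSect_smul, hw]
      exact (Curves2.idealSect_res A le_top m₀).symm
    have e2 : Blow97.res W.1 t = w * v * β := by
      refine (Curves2.idealSect_res B le_top (φ.hom.app ⊤ m₀)).symm.trans ?_
      rw [← Mero90.app_res, ← hw, Scheme.Modules.Hom.app_smul, ← hv, smul_smul, Omega57.idealSect_smul, heB]
    let G := (X.presheaf.germ W.1 (cPt (C i)) hξ).hom
    have hres : ∀ c : Γ(X, ⊤), G (Blow97.res W.1 c) = X.presheaf.germ ⊤ (cPt (C i)) trivial c := fun c =>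
      TopCat.Presheaf.germ_res_apply X.presheaf (homOfLE (le_top : W.1 ≤ ⊤)) _ hξ c
    have sA : Ideal.span {G α} = IsLocalRing.maximalIdeal (X.presheaf.stalk (cPt (C i))) ^ a i :=
      (Div89.stalkIdeal_eq_span hAW _ hξ).symm.trans (stalkIdeal_prod_cPt hC hreg a i)
    have sB : Ideal.span {G β} = IsLocalRing.maximalIdeal (X.presheaf.stalk (cPt (C i))) ^ b i :=
      (Div89.stalkIdeal_eq_span hBW _ hξ).symm.trans (stalkIdeal_prod_cPt hC hreg b i)
    have sP : Ideal.span {G w} * Ideal.span {G α} =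
        IsLocalRing.maximalIdeal (X.presheaf.stalk (cPt (C i))) ^ (Models.mult R (Over.mk p) (C i) * N) := by
      rw [← stalkIdeal_pi_pow hreg hC i N, Ideal.span_singleton_mul_span_singleton, ← map_mul, ← e1, hres,
        Ideal.span_singleton_pow, ← map_pow]
    rw [← hres, e2, map_mul, map_mul, pow_add, ← sP, ← sA, ← sB, ← Ideal.span_singleton_mul_span_singleton,
      ← Ideal.span_singleton_mul_span_singleton, Ideal.span_singleton_eq_top.2 (hvu.map G), Ideal.mul_top]
    ring
  have hr0 : r ≠ 0 := fun h0 => by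
    obtain ⟨i⟩ : Nonempty (Fin n) := ⟨⟨0, hn⟩⟩
    obtain ⟨hd, hdvr⟩ := isDVR_stalk hC hreg i
    have h1 := congrArg (X.presheaf.germ ⊤ (cPt (C i)) trivial) hr
    rw [h0, map_zero, map_zero, map_mul, map_pow, mul_eq_zero] at h1
    rcases h1 with h1 | h1
    · have := key i
      rw [h1, Ideal.span_singleton_eq_bot.2 rfl, Ideal.bot_mul] at this
      exact pow_ne_zero _ (IsDiscreteValuationRing.not_a_field _) this.symm
    · have := stalkIdeal_pi_pow hreg hC i 1
      rw [pow_one, pow_eq_zero_iff'.1 h1 |>.1, Ideal.span_singleton_eq_bot.2 rfl] at this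
      exact pow_ne_zero _ (IsDiscreteValuationRing.not_a_field _) this.symm
  obtain ⟨l, u, rfl⟩ := IsDiscreteValuationRing.eq_unit_mul_pow_irreducible hr0 (irreducible_unif R)
  refine ⟨(N : ℤ) + j - l, fun i => ?_⟩
  obtain ⟨hd, hdvr⟩ := isDVR_stalk hC hreg i
  have h1 := congrArg (fun c => Ideal.span {X.presheaf.germ ⊤ (cPt (C i)) trivial c}) hr
  simp only [map_mul, map_pow] at h1
  rw [← Ideal.span_singleton_mul_span_singleton, ← Ideal.span_singleton_mul_span_singleton,
    ← Ideal.span_singleton_pow, ← Ideal.span_singleton_pow, show Blow97.gam p (unif R) = piG p from rfl,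
    stalkIdeal_pi_pow hreg hC, stalkIdeal_pi_pow hreg hC,
    Ideal.span_singleton_eq_top.2 ((u.isUnit.map (Blow97.gam p)).map (X.presheaf.germ ⊤ (cPt (C i)) trivial).hom),
    Ideal.top_mul] at h1
  have h2 := congrArg (· * IsLocalRing.maximalIdeal (X.presheaf.stalk (cPt (C i))) ^ a i) h1
  simp only [mul_right_comm _ _ (IsLocalRing.maximalIdeal (X.presheaf.stalk (cPt (C i))) ^ a i)] at h2
  rw [key i, ← pow_add, ← pow_add] at h2
  have h3 := pow_maximalIdeal_inj h2
  have h4 : ((Models.mult R (Over.mk p) (C i) * N + b i + Models.mult R (Over.mk p) (C i) * j : ℕ) : ℤ) =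
      ((Models.mult R (Over.mk p) (C i) * l + a i : ℕ) : ℤ) := congrArg Nat.cast h3
  push_cast at h4
  linear_combination -h4

end Groth.Agent.ModPic
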