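import Groth.Agent.ModPic.Intersection
import Mathlib.FieldTheory.Finite.Basic

/-!
Lifting invertible modules from the generic fibre with prescribed degrees.
-/

set_option autoImplicit false
set_option backward.isDefEq.respectTransparency.types false
set_option linter.style.haveILetI false

noncomputable section

universe u

open CategoryTheory CategoryTheory.Limits AlgebraicGeometry TopologicalSpace Opposite
open Groth.Agent

namespace Groth.Agent.ModPic

open scoped Groth.Agent.FGA29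

variable {R : Type u} [CommRing R] [IsDomain R] [IsDiscreteValuationRing R] {X : Scheme.{u}}
  {p : X ⟶ Spec (CommRingCat.of R)} [Flat p] [IsProper p] (hreg : Models.IsRegularScheme X)
  {n : ℕ} {C : Fin n → ArSurf.VertComp R (Over.mk p)}
  (hC : Models.IsComponentList R (Over.mk p) C) (L : Fin n → X.Modules)
  (hL : ∀ i, ClSub.IsInverseOf (L i) (ClSub.idealMod (cI (C i))))
  {Y : Scheme.{u}} {f : Y ⟶ Spec (CommRingCat.of (FractionRing R))} {g : Y ⟶ X}
  (hg : IsPullback g f p (Spec.map (CommRingCat.ofHom (algebraMap R (FractionRing R))))) (hH0 : IsIso f.appTop)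

include hreg hC hL in
theorem inter_of_cl_eq {M M' : X.Modules} (hM : PicF.IsInvertible M) (hM' : PicF.IsInvertible M') (a : Fin n → ℕ)
    (h : PicF.cl M = PicF.cl M' * ∏ i, PicF.cl (L i) ^ a i) (i : Fin n) :
    ArSurf.inter R (Over.mk p) M (C i) = ArSurf.inter R (Over.mk p) M' (C i) +
      ∑ j, (a j : ℤ) * ArSurf.inter R (Over.mk p) (L j) (C i) := by
  have h1 := inter_multiTwist (C i) (isInvertible_L hreg hC L hL) a
  rw [← h1.2, ← inter_tensor (C i) hM' h1.1]
  exact inter_congr (C i) hM (EGA73.isInvertible_tensorMod hM' h1.1) (by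
    rw [FGA29.cl_tensor, FGA29.cl_multiTwist, h])

include hreg hC hL hg in
theorem degree_eq_image_of_lift {M M' : X.Modules} (hM : PicF.IsInvertible M) (hM' : PicF.IsInvertible M')
    (h : Nonempty ((Scheme.Modules.pullback g).obj M ≅ (Scheme.Modules.pullback g).obj M'))
    (hdeg : ∀ i, ArSurf.inter R (Over.mk p) M' (C i) = 0) :
    ∃ v : Fin n → ℤ, ∀ i, ArSurf.inter R (Over.mk p) M (C i) = ∑ j, ArSurf.inter R (Over.mk p) (L j) (C i) * v j := by
  obtain ⟨a, ha⟩ := exists_diff hreg hC L hL hg hM hM' h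
  refine ⟨fun j => (a j : ℤ), fun i => ?_⟩
  rw [inter_of_cl_eq hreg hC L hL hM hM' a ha i, hdeg, zero_add]
  exact Finset.sum_congr rfl fun j _ => mul_comm _ _

include hreg hC hL hg in
theorem exists_lift_degree_zero {M : X.Modules} (hM : PicF.IsInvertible M) (v : Fin n → ℤ)
    (hv : ∀ i, ArSurf.inter R (Over.mk p) M (C i) = ∑ j, ArSurf.inter R (Over.mk p) (L j) (C i) * v j) :
    ∃ M' : X.Modules, PicF.IsInvertible M' ∧
      Nonempty ((Scheme.Modules.pullback g).obj M' ≅ (Scheme.Modules.pullback g).obj M) ∧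
      ∀ i, ArSurf.inter R (Over.mk p) M' (C i) = 0 := by
  let t := ∑ j, (v j).natAbs
  let w : Fin n → ℕ := fun j => ((t : ℤ) * Models.mult R (Over.mk p) (C j) - v j).toNat
  have hw : ∀ j, (w j : ℤ) = (t : ℤ) * Models.mult R (Over.mk p) (C j) - v j := fun j => by
    refine Int.toNat_of_nonneg (sub_nonneg.2 ?_)
    calc v j ≤ ((v j).natAbs : ℤ) := Int.le_natAbs
      _ ≤ ((v j).natAbs : ℤ) * Models.mult R (Over.mk p) (C j) :=
        le_mul_of_one_le_right (Int.natCast_nonneg _) (by exact_mod_cast mult_pos hreg hC j)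
      _ ≤ _ := by
        refine mul_le_mul_of_nonneg_right ?_ (Int.natCast_nonneg _)
        exact_mod_cast Finset.single_le_sum (f := fun j => (v j).natAbs) (fun _ _ => Nat.zero_le _) (Finset.mem_univ j)
  obtain ⟨hcl, hT⟩ := cl_pullback_multiTwist hreg hC L hL hg w
  refine ⟨CohB1.tensorMod M (FGA.multiTwist L w), EGA73.isInvertible_tensorMod hM hT,
    FGA29.nonempty_iso_of_cl (by rw [cl_pullback_hom g hM hT, hcl, mul_one]), fun i => ?_⟩
  rw [inter_tensor (C i) hM hT, (inter_multiTwist (C i) (isInvertible_L hreg hC L hL) w).2, hv i,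
    ← Finset.sum_add_distrib]
  have hm := sum_mult_inter hreg hC L hL i
  calc ∑ j, (ArSurf.inter R (Over.mk p) (L j) (C i) * v j + (w j : ℤ) * ArSurf.inter R (Over.mk p) (L j) (C i))
      = ∑ j, (t : ℤ) * ((Models.mult R (Over.mk p) (C j) : ℤ) * ArSurf.inter R (Over.mk p) (L i) (C j)) :=
        Finset.sum_congr rfl fun j _ => by rw [hw, inter_symm hC hreg L hL i j]; ring
    _ = 0 := by rw [← Finset.mul_sum, hm, mul_zero]

include hreg hC hL hg hH0 in
theorem cl_pow_multGcd_eq_one [Nonempty Y] {M : X.Modules} (hM : PicF.IsInvertible M)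
    (htriv : Nonempty ((Scheme.Modules.pullback g).obj M ≅ Coh.structureModule Y))
    (hdeg : ∀ i, ArSurf.inter R (Over.mk p) M (C i) = 0) :
    PicF.cl M ^ Models.multGcd R (Over.mk p) C = 1 := by
  obtain ⟨a, ha⟩ := exists_cl_eq_prod hreg hC L hL hg hM htriv
  have hker : ∀ i, ∑ j, (a j : ℤ) * ArSurf.inter R (Over.mk p) (L j) (C i) = 0 := fun i => by
    rw [← hdeg i, ← (inter_multiTwist (C i) (isInvertible_L hreg hC L hL) a).2]
    exact inter_congr (C i) (inter_multiTwist (C i) (isInvertible_L hreg hC L hL) a).1 hM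
      (by rw [FGA29.cl_multiTwist, ha])
  obtain ⟨c, hc⟩ := exists_rat_of_kernel hreg hC L hL hg hH0 (fun i => (a i : ℤ)) hker
  have hnum : ∀ i, (a i : ℤ) * c.den = c.num * (Models.mult R (Over.mk p) (C i) : ℤ) := fun i => by
    have h1 : ((a i : ℤ) : ℚ) * (c.den : ℚ) = (c.num : ℚ) * (Models.mult R (Over.mk p) (C i) : ℚ) := by
      rw [hc i]
      calc c * (Models.mult R (Over.mk p) (C i) : ℚ) * (c.den : ℚ)
          = (c * (c.den : ℚ)) * (Models.mult R (Over.mk p) (C i) : ℚ) := by ring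
        _ = _ := by rw [Rat.mul_den_eq_num]
    exact_mod_cast h1
  have hden : c.den ∣ Models.multGcd R (Over.mk p) C := Finset.dvd_gcd fun i _ => by
    have h1 : c.den ∣ c.num.natAbs * Models.mult R (Over.mk p) (C i) := by
      refine ⟨a i, ?_⟩
      have h2 := congrArg Int.natAbs (hnum i)
      simp only [Int.natAbs_mul, Int.natAbs_natCast] at h2
      rw [← h2, mul_comm]
    exact (Nat.Coprime.dvd_mul_left c.reduced.symm).1 h1
  obtain ⟨k, hk⟩ := hden
  rw [ha, ← Finset.prod_pow]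
  calc ∏ i, (PicF.cl (L i) ^ a i) ^ Models.multGcd R (Over.mk p) C
      = ∏ i, PicF.cl (L i) ^ (a i * Models.multGcd R (Over.mk p) C) := by simp only [← pow_mul]
    _ = ∏ i, PicF.cl (L i) ^ (0 : ℕ) := by
      refine prod_eq_of_int hreg hC L hL _ _ ((k : ℤ) * c.num) fun i => ?_
      rw [hk]
      push_cast
      linear_combination (k : ℤ) * hnum i
    _ = 1 := by simp

include hreg hC hL hg hH0 in
theorem exists_torsion_lift [Nonempty Y] {h : ℕ} (hcop : Nat.Coprime h (Models.multGcd R (Over.mk p) C))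
    (hn : 0 < n) {N : Y.Modules} (hNt : Nonempty (CohB1.tensorPow N h ≅ Coh.structureModule Y))
    {M : X.Modules} (hM : PicF.IsInvertible M) (hMN : Nonempty ((Scheme.Modules.pullback g).obj M ≅ N))
    (v : Fin n → ℤ)
    (hv : ∀ i, ArSurf.inter R (Over.mk p) M (C i) = ∑ j, ArSurf.inter R (Over.mk p) (L j) (C i) * v j) :
    ∃ M' : X.Modules, PicF.IsInvertible M' ∧ Nonempty (CohB1.tensorPow M' h ≅ Coh.structureModule X) ∧
      Nonempty ((Scheme.Modules.pullback g).obj M' ≅ N) := by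
  obtain ⟨M₁, hM₁, hM₁M, hdeg⟩ := exists_lift_degree_zero hreg hC L hL hg hM v hv
  let d := Models.multGcd R (Over.mk p) C
  have hd : 0 < d := Nat.pos_of_ne_zero fun h0 => (mult_pos hreg hC ⟨0, hn⟩).ne'
    (Finset.gcd_eq_zero_iff.1 h0 _ (Finset.mem_univ _))
  have hT := EGA73.isInvertible_tensorPow hM₁ h
  have hN : PicF.cl ((Scheme.Modules.pullback g).obj M₁) = PicF.cl N :=
    (Quot.sound hM₁M : PicF.cl _ = PicF.cl ((Scheme.Modules.pullback g).obj M)).trans (Quot.sound hMN)
  have hNh : PicF.cl N ^ h = 1 := by rw [← FGA29.cl_tensorPow, ← FGA29.cl_one]; exact Quot.sound hNt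
  have hTd : PicF.cl (CohB1.tensorPow M₁ h) ^ d = 1 :=
    cl_pow_multGcd_eq_one hreg hC L hL hg hH0 hT
      (FGA29.nonempty_iso_of_cl (by rw [cl_pullback_pow g hM₁, hN, hNh, FGA29.cl_one]))
      fun i => by rw [inter_pow (C i) hM₁, hdeg, mul_zero]
  let e := (d - 1) * h ^ (d.totient - 1)
  have hT' := EGA73.isInvertible_tensorPow hT e
  refine ⟨CohB1.tensorMod M₁ (CohB1.tensorPow (CohB1.tensorPow M₁ h) e), EGA73.isInvertible_tensorMod hM₁ hT',
    FGA29.nonempty_iso_of_cl ?_, FGA29.nonempty_iso_of_cl ?_⟩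
  · rw [FGA29.cl_tensorPow, FGA29.cl_tensor, FGA29.cl_tensorPow _ e, mul_pow, ← pow_mul, FGA29.cl_one,
      ← FGA29.cl_tensorPow M₁ h, ← pow_succ']
    have hdvd : d ∣ e * h + 1 := by
      have h1 : h ^ d.totient % d = 1 % d := Nat.ModEq.pow_totient hcop
      have h2 : e * h + 1 = (d - 1) * h ^ d.totient + 1 := by
        rw [show e * h = (d - 1) * (h ^ (d.totient - 1) * h) from mul_assoc _ _ _, ← pow_succ,
          Nat.sub_add_cancel (Nat.totient_pos.2 hd)]
      rw [h2, Nat.dvd_iff_mod_eq_zero, Nat.add_mod, Nat.mul_mod, h1, ← Nat.mul_mod, ← Nat.add_mod, mul_one,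
        Nat.sub_add_cancel hd, Nat.mod_self]
    obtain ⟨k, hk⟩ := hdvd
    rw [hk, pow_mul, hTd, one_pow]
  · rw [cl_pullback_hom g hM₁ hT', cl_pullback_pow g hT, cl_pullback_pow g hM₁, hN, hNh, one_pow, mul_one]

end Groth.Agent.ModPic
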