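import Groth.Agent.CAlg9.NT.Genus
import Groth.Agent.NT93.Classify
import Groth.Agent.NT93.Sub
import Groth.Agent.NT93.Configs3

/-!
The uniform bound on the entries of a minimal numerical type.
-/

set_option autoImplicit false

open Finset

namespace Groth.Agent.ModPic.NTB

open Groth.Agent NT93

variable {n : ℕ} (T : Models.NumericalType n)

/-- Within distance `d` (through `(-2)`-indices) from an index which is not a `(-2)`-index. -/
def Near : ℕ → Fin n → Prop
  | 0, i => T.IsMinusTwo i ∧ ∃ j, ¬T.IsMinusTwo j ∧ T.a i j ≠ 0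
  | d + 1, i => T.IsMinusTwo i ∧ (Near d i ∨ ∃ l, Near d l ∧ T.a i l ≠ 0)

/-- At distance exactly `d`. -/
def Exact (d : ℕ) (i : Fin n) : Prop := Near T d i ∧ ∀ e < d, ¬Near T e i

variable {T}

theorem Near.two {d : ℕ} {i : Fin n} (h : Near T d i) : T.IsMinusTwo i := by
  cases d with
  | zero => exact h.1
  | succ d => exact h.1

theorem Near.mono {d e : ℕ} (hde : d ≤ e) {i : Fin n} (h : Near T d i) : Near T e i := by
  induction hde with
  | refl => exact h
  | step _ ih => exact ⟨ih.two, Or.inl ih⟩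

theorem Exact.unique {d e : ℕ} {i : Fin n} (h : Exact T d i) (h' : Exact T e i) : d = e := by
  rcases lt_trichotomy d e with hl | hl | hl
  · exact absurd h.1 (h'.2 d hl)
  · exact hl
  · exact absurd h'.1 (h.2 e hl)

theorem exists_near (hJ : ∃ j, ¬T.IsMinusTwo j) (i : Fin n) (hi : T.IsMinusTwo i) :
    ∃ d, Near T d i := by
  classical
  by_contra hc
  obtain ⟨j₀, hj₀⟩ := hJ
  obtain ⟨a, ha, b, hb, hab⟩ := exists_adj_of_ne_univ T
    (univ.filter fun l => T.IsMinusTwo l ∧ ¬∃ d, Near T d l) ⟨i, by simp only [mem_filter]; exact ⟨mem_univ _, hi, hc⟩⟩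
    ⟨j₀, by simp only [mem_filter]; exact fun h => hj₀ h.2.1⟩
  simp only [mem_filter, mem_univ, true_and] at ha hb
  by_cases h2 : T.IsMinusTwo b
  · by_cases h3 : ∃ d, Near T d b
    · obtain ⟨d, hd⟩ := h3
      exact ha.2 ⟨d + 1, ha.1, Or.inr ⟨b, hd, hab⟩⟩
    · exact hb ⟨h2, h3⟩
  · exact ha.2 ⟨0, ha.1, b, h2, hab⟩

theorem exists_exact (hJ : ∃ j, ¬T.IsMinusTwo j) (i : Fin n) (hi : T.IsMinusTwo i) :
    ∃ d, Exact T d i := by
  classical
  have h := exists_near hJ i hi
  exact ⟨Nat.find h, Nat.find_spec h, fun e he => Nat.find_min h he⟩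

theorem Exact.step {D : ℕ} {i : Fin n} (h : Exact T (D + 1) i) :
    ∃ l, l ≠ i ∧ T.a i l ≠ 0 ∧ Exact T D l := by
  rcases h.1.2 with hn | ⟨l, hl, ha⟩
  · exact absurd hn (h.2 D (by omega))
  · refine ⟨l, fun e => h.2 D (by omega) (e ▸ hl), ha, hl, fun e he hle => ?_⟩
    exact h.2 (e + 1) (by omega) ⟨h.1.two, Or.inr ⟨l, hle, ha⟩⟩

theorem Exact.path : ∀ {D : ℕ} {i : Fin n}, Exact T D i → ∃ v : ℕ → Fin n, v 0 = i ∧
    (∀ p ≤ D, Exact T (D - p) (v p)) ∧ Path T (D + 1) v := by
  intro D
  induction D with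
  | zero =>
    exact fun {i} h => ⟨fun _ => i, rfl, fun p hp => by simpa [Nat.le_zero.1 hp] using h,
      fun p hp q hq _ => by omega, fun p hp => by omega⟩
  | succ D ih =>
    intro i h
    obtain ⟨l, hne, ha, hl⟩ := h.step
    obtain ⟨v, hv0, hv, hP⟩ := ih hl
    refine ⟨NT93.cons i v, by simp [NT93.cons], fun p hp => ?_, hP.cons (fun p hp e => ?_) (hv0 ▸ ha)⟩
    · rcases p with _ | p
      · simpa [NT93.cons] using h
      · simpa [NT93.cons, show D + 1 - (p + 1) = D - p by omega] using hv p (by omega)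
    · have := h.unique (e ▸ hv p (by omega)); omega

theorem bound_near {B : ℤ} (h0 : ∀ i, Near T 0 i → T.m i * T.w i ≤ B) (d : ℕ) :
    ∀ i, Near T d i → T.m i * T.w i ≤ 2 ^ d * B := by
  induction d with
  | zero => simpa using h0
  | succ d ih =>
    intro i hi
    have key : ∀ l, Near T d l → (l = i ∨ T.a i l ≠ 0) → T.m i * T.w i ≤ 2 ^ (d + 1) * B := by
      intro l hl hor
      have h1 := ih l hl
      have hpos : 0 < T.m l * T.w l := mul_pos (T.m_pos l) (T.w_pos l)
      rw [pow_succ]
      by_cases he : l = i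
      · subst he; nlinarith
      · have ha := pos_of_ne T (Ne.symm he) (hor.resolve_left he)
        have h2 := (CAlg9.NT.mul_le T i l ha).2
        rw [hl.two.2, abs_of_nonpos (by nlinarith [T.w_pos l])] at h2
        nlinarith
    rcases hi.2 with h | ⟨l, hl, ha⟩
    · exact key i h (Or.inl rfl)
    · exact key l hl (Or.inr ha)

theorem lt_of_minusTwo (hJ : ∃ j, ¬T.IsMinusTwo j) {k : ℕ} {v : ℕ → Fin n} (inj : Inj k v)
    (h2 : ∀ p < k, T.IsMinusTwo (v p)) : k < n := by
  obtain ⟨j, hj⟩ := hJ
  have : (range k).image v ⊂ univ := by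
    refine ⟨subset_univ _, fun h => ?_⟩
    obtain ⟨p, hp, e⟩ := mem_image.1 (h (mem_univ j))
    exact hj (e ▸ h2 p (mem_range.1 hp))
  simpa [inj.card_image] using card_lt_card this

theorem cons_two {k : ℕ} {v : ℕ → Fin n} {l : Fin n} (hl : T.IsMinusTwo l)
    (h2 : ∀ p < k, T.IsMinusTwo (v p)) : ∀ p < k + 1, T.IsMinusTwo (NT93.cons l v p) := fun p hp => by
  unfold NT93.cons
  split_ifs
  · exact hl
  · exact h2 _ (by omega)

/-- At an index far from the other indices the product `m w` is either at most the one of the next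
index towards them, or the mean of those of two adjacent indices. -/
theorem local_max (hJ : ∃ j, ¬T.IsMinusTwo j) {D : ℕ} (hD : 5 ≤ D) {i : Fin n} (h : Exact T D i) :
    ∃ v1, Exact T (D - 1) v1 ∧ (T.m i * T.w i ≤ T.m v1 * T.w v1 ∨
      ∃ l, T.IsMinusTwo l ∧ 2 * (T.m i * T.w i) = T.m l * T.w l + T.m v1 * T.w v1) := by
  classical
  obtain ⟨v, hv0, hlev, hP⟩ := h.path
  have h2 : ∀ p < D + 1, T.IsMinusTwo (v p) := fun p hp => (hlev p (by omega)).1.two
  have two : ∀ p < D + 1, Two T (v p) := fun p hp => (h2 p hp).2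
  refine ⟨v 1, hlev 1 (by omega), ?_⟩
  have hne : i ≠ v 1 := hv0 ▸ hP.inj.ne (by omega) (by omega) (by omega)
  have ha1 : T.a i (v 1) ≠ 0 := hv0 ▸ hP.adj 0 (by omega)
  have nb : ∀ l, l ≠ i → T.a i l ≠ 0 → T.IsMinusTwo l ∧ ∀ e, e + 2 ≤ D → ¬Near T e l := by
    intro l _ ha
    refine ⟨?_, fun e he hn => h.2 (e + 1) (by omega) ⟨h.1.two, Or.inr ⟨l, hn, ha⟩⟩⟩
    by_contra hl
    exact h.2 0 (by omega) ⟨h.1.two, l, hl, ha⟩
  have off : ∀ l, l ≠ i → l ≠ v 1 → T.a i l ≠ 0 → ∀ p < D + 1, v p ≠ l := by
    intro l hli hl1 ha p hp e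
    rcases (show p = 0 ∨ p = 1 ∨ 2 ≤ p by omega) with rfl | rfl | hp2
    · exact hli (e.symm.trans hv0)
    · exact hl1 e.symm
    · exact (nb l hli ha).2 (D - p) (by omega) (e ▸ (hlev p (by omega)).1)
  have hwi := T.w_pos i
  have hmi := T.m_pos i
  have hm1 := T.m_pos (v 1)
  by_cases hA : ∀ l, l ≠ i → l ≠ v 1 → T.a i l = 0
  · left
    have hr := row_eq (two 0 (by omega)) {v 1} (by simp [hv0, hne]) fun l hl hl' => by
      rw [hv0] at hl ⊢
      exact hA l hl (by simpa using hl')
    rw [sum_singleton, hv0] at hr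
    have hd := proper_dbl hP two (by omega) (lt_of_minusTwo hJ hP.inj h2) (e := 0) (by omega)
    rw [hv0, Nat.zero_add] at hd
    rcases hd with ⟨e1, e2⟩ | ⟨e1, e2⟩ | ⟨e1, e2⟩
    · rw [e1] at hr e2; rw [← e2]
      nlinarith
    · rw [e1] at hr e2
      have : T.m (v 1) = 2 * T.m i := mul_left_cancel₀ hwi.ne' (by linarith)
      rw [this, e2]; nlinarith [T.w_pos (v 1)]
    · rw [e1] at hr e2
      have : T.m (v 1) = T.m i := mul_left_cancel₀ hwi.ne' (by linarith)
      rw [this, ← e2]; nlinarith
  push Not at hA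
  obtain ⟨l, hli, hl1, hal⟩ := hA
  have hl2 := (nb l hli hal).1
  have hQ : Path T (D + 2) (NT93.cons l v) :=
    hP.cons (off l hli hl1 hal) (by rw [aSymm T, hv0]; exact hal)
  have hQ2 : ∀ p < D + 2, T.IsMinusTwo (NT93.cons l v p) := cons_two hl2 h2
  have twoQ : ∀ p < D + 2, Two T (NT93.cons l v p) := fun p hp => (hQ2 p hp).2
  have hQn := lt_of_minusTwo hJ hQ.inj hQ2
  obtain ⟨f1, f2⟩ := proper_inner hQ twoQ hQn (by omega) (e := 1) le_rfl (by omega)
  simp only [NT93.cons, one_ne_zero, if_false, OfNat.ofNat_ne_zero, Nat.reduceAdd, Nat.reduceSub,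
    Nat.sub_self, hv0] at f1 f2
  by_cases hB : ∀ r, r ≠ i → r ≠ v 1 → r ≠ l → T.a i r = 0
  · have hr := row_eq (two 0 (by omega)) {l, v 1} (by simp [hv0, hne, Ne.symm hli]) fun r hr hr' => by
      rw [hv0] at hr ⊢
      simp only [mem_insert, mem_singleton, not_or] at hr'
      exact hB r hr hr'.2 hr'.1
    rw [sum_pair hl1, hv0, f1] at hr
    have leaf : T.a l i ≠ T.w i ∨ T.a l i ≠ T.w l →
        T.a l i * T.m i = 2 * T.w l * T.m l := by
      intro hns
      have hz : ∀ r, r ≠ l → r ∉ ({i} : Finset (Fin n)) → T.a l r = 0 := by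
        intro r hrl hri
        by_contra har
        have hri' : r ≠ i := by simpa using hri
        have hr2 : T.IsMinusTwo r := by
          by_contra hr2
          exact (nb l hli hal).2 0 (by omega) ⟨hl2, r, hr2, har⟩
        have hr1 : ∀ p < D + 2, NT93.cons l v p ≠ r := by
          intro p hp e
          rcases (show p = 0 ∨ p = 1 ∨ 2 ≤ p by omega) with rfl | rfl | hp2
          · simp [NT93.cons] at e; exact hrl e.symm
          · simp [NT93.cons, hv0] at e; exact hri' e.symm
          · refine har ?_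
            have := noChord hQ twoQ hQn (i := 0) (l := p) (by omega) hp
            rw [e] at this
            simpa [NT93.cons] using this
        have hR := hQ.cons (j := r) hr1 (by rw [aSymm T]; simpa [NT93.cons] using har)
        have hR2 := cons_two (T := T) hr2 hQ2
        obtain ⟨g1, g2⟩ := proper_inner hR (fun p hp => (hR2 p hp).2)
          (lt_of_minusTwo hJ hR.inj hR2) (by omega) (e := 1) le_rfl (by omega)
        simp only [NT93.cons, one_ne_zero, if_false, OfNat.ofNat_ne_zero, Nat.reduceAdd, Nat.reduceSub,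
          Nat.sub_self, if_true, hv0] at g1 g2
        rcases hns with hns | hns
        · exact hns g2
        · exact hns g1
      have := row_eq hl2.2 {i} (by simpa using hli) hz
      rwa [sum_singleton] at this
    have hd := proper_dbl hQ twoQ (by omega) hQn (e := 0) (by omega)
    simp only [NT93.cons, if_true, Nat.zero_add, one_ne_zero, if_false, Nat.sub_self, hv0] at hd
    have hwl := T.w_pos l
    rw [aSymm T i l] at leaf
    rw [aSymm T l i] at hr
    rw [aSymm T i l] at hd
    rw [f1] at f2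
    rcases hd with ⟨e1, e2⟩ | ⟨e1, e2⟩ | ⟨e1, e2⟩
    · right
      refine ⟨l, hl2, ?_⟩
      rw [aSymm T] at hr
      rw [← f2]
      rw [e2] at e1
      rw [← e1]
      rw [e2] at hr
      linarith
    · left
      have hll := leaf (Or.inl (by omega))
      rw [e1] at hll
      rw [e1] at e2
      rw [← f2]
      have hm : T.m i = 2 * T.m l := mul_left_cancel₀ hwl.ne' (by linarith)
      have : T.w i * T.m (v 1) = T.w i * T.m i := by
        rw [aSymm T, e1, e2, hm] at hr
        linarith [congrArg (fun x => T.w i * x) hm]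
      rw [mul_left_cancel₀ hwi.ne' this]
    · left
      have hll := leaf (Or.inr (by omega))
      rw [e1] at hll
      have hm : T.m i = T.m l := mul_left_cancel₀ hwl.ne' (by linarith)
      rw [← f2]
      have : T.w i * T.m (v 1) = T.w i * T.m i := by
        rw [aSymm T, e2, ← hm] at hr
        linarith
      rw [mul_left_cancel₀ hwi.ne' this]
  push Not at hB
  obtain ⟨r, hri, hr1, hrl, har⟩ := hB
  left
  have hr2 := (nb r hri har).1
  have hjr : ∀ p < D + 2, NT93.cons l v p ≠ r := by
    intro p hp e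
    rcases p with _ | p
    · simp [NT93.cons] at e; exact hrl e.symm
    · simp [NT93.cons] at e; exact off r hri hr1 har p (by omega) e
  have hkn : D + 2 + 1 < n := by
    have hR2 := cons_two (T := T) hr2 hQ2
    refine lt_of_minusTwo hJ (v := NT93.cons r (NT93.cons l v)) ?_ hR2
    intro p hp q hq e
    rcases p with _ | p <;> rcases q with _ | q
    · rfl
    · exfalso; exact hjr q (by omega) (by simpa [NT93.cons] using e.symm)
    · exfalso; exact hjr p (by omega) (by simpa [NT93.cons] using e)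
    · have := hQ.inj p (by omega) q (by omega) (by simpa [NT93.cons] using e); omega
  obtain ⟨bw, bwj, ba, baj, -, -⟩ := proper_branch hQ twoQ hr2.2 hjr hkn (i := 1) le_rfl (by omega)
    (by simp only [NT93.cons, one_ne_zero, if_false, Nat.sub_self, hv0]; rw [aSymm T]; exact har)
  have ewi : T.w i = T.w l := by simpa [NT93.cons, hv0] using bw 1 (by omega)
  have ewr : T.w r = T.w l := by simpa [NT93.cons] using bwj
  have eal : T.a l i = T.w l := by simpa [NT93.cons, hv0] using ba 0 (by omega)
  have ea1 : T.a i (v 1) = T.w l := by simpa [NT93.cons, hv0] using ba 1 (by omega)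
  have ew1 : T.w (v 1) = T.w l := by simpa [NT93.cons] using bw 2 (by omega)
  have ear : T.a i r = T.w l := by simpa [NT93.cons, hv0] using baj
  have noE8 : ∀ x y, x ≠ i → x ≠ v 1 → T.a i x ≠ 0 → y ≠ i → y ≠ v 1 → T.a i y ≠ 0 → y ≠ x →
      ∀ z, z ≠ x → z ≠ i → T.a x z = 0 := by
    intro x y hxi hx1 hax hyi hy1 hay hyx z hzx hzi
    by_contra hz
    have hx2 := (nb x hxi hax).1
    have hy2 := (nb y hyi hay).1
    have hX : Path T (D + 2) (NT93.cons x v) :=
      hP.cons (off x hxi hx1 hax) (by rw [aSymm T, hv0]; exact hax)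
    have hX2 := cons_two (T := T) hx2 h2
    have hXn := lt_of_minusTwo hJ hX.inj hX2
    have hz2 : T.IsMinusTwo z := by
      by_contra hz2
      exact (nb x hxi hax).2 0 (by omega) ⟨hx2, z, hz2, hz⟩
    have hzq : ∀ p < D + 2, NT93.cons x v p ≠ z := by
      intro p hp e
      rcases (show p = 0 ∨ p = 1 ∨ 2 ≤ p by omega) with rfl | rfl | hp2
      · simp [NT93.cons] at e; exact hzx e.symm
      · simp [NT93.cons, hv0] at e; exact hzi e.symm
      · refine hz ?_
        have := noChord hX (fun p hp => (hX2 p hp).2) hXn (i := 0) (l := p) (by omega) hp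
        rw [e] at this
        simpa [NT93.cons] using this
    have hZ := hX.cons (j := z) hzq (by rw [aSymm T]; simpa [NT93.cons] using hz)
    have hZ2 := cons_two (T := T) hz2 hX2
    have hyz : ∀ p < D + 3, NT93.cons z (NT93.cons x v) p ≠ y := by
      intro p hp e
      rcases p with _ | p
      · simp [NT93.cons] at e
        subst e
        have := noChord hZ (fun p hp => (hZ2 p hp).2) (lt_of_minusTwo hJ hZ.inj hZ2) (i := 0) (l := 2)
          (by omega) (by omega)
        simp [NT93.cons, hv0] at this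
        exact hay (by rw [aSymm T]; exact this)
      · rcases p with _ | p
        · simp [NT93.cons] at e; exact hyx e.symm
        · simp [NT93.cons] at e; exact off y hyi hy1 hay p (by omega) e
    let u : ℕ → Fin n := fun p => if p = 8 then y else NT93.cons z (NT93.cons x v) (7 - p)
    have huinj : Inj 9 u := by
      intro p hp q hq e
      simp only [u] at e
      split_ifs at e with hp' hq' hq'
      · omega
      · exact absurd e.symm (hyz _ (by omega))
      · exact absurd e (hyz _ (by omega))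
      · have := hZ.inj _ (by omega) _ (by omega) e; omega
    have hu2 : ∀ p < 9, T.IsMinusTwo (u p) := by
      intro p hp
      simp only [u]; split_ifs
      · exact hy2
      · exact hZ2 _ (by omega)
    have h9 := (cfgE8 (T := T) huinj (fun p hp => (hu2 p hp).2) fun p hp q hq hpq => by
      simp only [u]
      rcases hpq with ⟨rfl, h'⟩ | ⟨rfl, rfl⟩
      · rw [if_neg (by omega), if_neg (by omega), aSymm T,
          show 7 - p = (7 - (p + 1)) + 1 by omega]
        exact hZ.adj _ (by omega)
      · simp [NT93.cons, hv0]; exact hay).1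
    have := lt_of_minusTwo hJ huinj hu2
    omega
  have lr1 := row_eq hl2.2 {i} (by simpa using hli) fun z hz hz' =>
    noE8 l r hli hl1 hal hri hr1 har hrl z hz (by simpa using hz')
  have lr2 := row_eq hr2.2 {i} (by simpa using hri) fun z hz hz' =>
    noE8 r l hri hr1 har hli hl1 hal (Ne.symm hrl) z hz (by simpa using hz')
  have hrow := row_eq (two 0 (by omega)) {v 1, l, r} (by simp [hv0, hne, Ne.symm hli, Ne.symm hri])
    fun z hz hz' => by
      rw [hv0] at hz ⊢
      simp only [mem_insert, mem_singleton, not_or] at hz'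
      by_contra haz
      have hz2 := (nb z hz haz).1
      have hoff : ∀ p < D + 2, NT93.cons l v p ≠ z := by
        intro p hp e
        rcases p with _ | p
        · simp [NT93.cons] at e; exact hz'.2.1 e.symm
        · simp [NT93.cons] at e; exact off z hz hz'.1 haz p (by omega) e
      have h5 := (twoBranch hQ twoQ hr2.2 hz2.2 (Ne.symm hz'.2.2) hjr hoff (i := 1) (i' := 1) le_rfl le_rfl
        (by omega) (by simp only [NT93.cons, one_ne_zero, if_false, Nat.sub_self, hv0]; rw [aSymm T]; exact har)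
        (by simp only [NT93.cons, one_ne_zero, if_false, Nat.sub_self, hv0]; rw [aSymm T]; exact haz)).1
      omega
  rw [sum_singleton, eal] at lr1
  rw [sum_singleton, aSymm T i r, ear, ewr] at lr2
  rw [sum_insert (by simp [Ne.symm hl1, Ne.symm hr1]), sum_pair (Ne.symm hrl), hv0, ea1,
    aSymm T l i, eal, ear, ewi] at hrow
  rw [ewi, ew1]
  linarith

theorem bound_two (hJ : ∃ j, ¬T.IsMinusTwo j) {B : ℤ}
    (h0 : ∀ i, Near T 0 i → T.m i * T.w i ≤ B) {i : Fin n} (hi : T.IsMinusTwo i) :
    T.m i * T.w i ≤ 16 * B := by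
  classical
  by_contra hlt
  obtain ⟨z, hz, hmax⟩ := exists_max_image (univ.filter T.IsMinusTwo) (fun l => T.m l * T.w l)
    ⟨i, by simp [hi]⟩
  simp only [mem_filter, mem_univ, true_and] at hz hmax
  have hzb : 16 * B < T.m z * T.w z := lt_of_lt_of_le (not_le.1 hlt) (hmax i hi)
  have main : ∀ D, ∀ y, Exact T D y → T.m z * T.w z ≤ T.m y * T.w y → False := by
    intro D
    induction D using Nat.strong_induction_on with
    | _ D ih =>
      intro y hy hle
      by_cases hD : D ≤ 4
      · have h1 := bound_near h0 4 y (hy.1.mono hD)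
        norm_num at h1
        linarith
      · obtain ⟨v1, hv1, hor⟩ := local_max hJ (by omega) hy
        refine ih (D - 1) (by omega) v1 hv1 ?_
        rcases hor with h | ⟨l, hl, h⟩
        · linarith
        · linarith [hmax l hl, hmax y hy.1.two]
  obtain ⟨D, hD⟩ := exists_exact hJ z hz
  exact main D z hD le_rfl

theorem bound_768 (hmin : T.IsMinimal) (hg : 2 ≤ T.genus) (i j : Fin n) :
    T.m i * |T.a i j| ≤ 768 * T.genus := by
  classical
  by_cases hn : 1 < n
  · obtain ⟨hJc, hb⟩ := CAlg9.NT.bounds T hn hmin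
    have hJ : ∃ j, ¬T.IsMinusTwo j := by
      by_contra h
      push Not at h
      have hs := CAlg9.NT.sum_c T
      rw [sum_eq_zero fun l _ => by simp only [CAlg9.NT.c, (h l).1, (h l).2]; ring] at hs
      omega
    have h0 : ∀ l, Near T 0 l → T.m l * T.w l ≤ 6 * T.genus - 6 := by
      rintro l ⟨hl, r, hr, har⟩
      have hne : l ≠ r := fun e => hr (e ▸ hl)
      exact le_trans (mul_le_mul_of_nonneg_left (w_le_of_ne T hne har) (T.m_pos l).le) ((hb r hr).2.2 l)
    have hdiag : ∀ l, T.m l * |T.a l l| ≤ 768 * T.genus := by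
      intro l
      by_cases hl : T.IsMinusTwo l
      · have := bound_two hJ h0 hl
        rw [hl.2, abs_of_nonpos (by linarith [T.w_pos l])]
        linarith
      · linarith [(hb l hl).2.1]
    by_cases hij : i = j
    · subst hij; exact hdiag i
    · by_cases ha : T.a i j = 0
      · rw [ha, abs_zero, mul_zero]; omega
      · have hp := pos_of_ne T hij ha
        rw [abs_of_pos hp]
        exact le_trans (CAlg9.NT.mul_le T i j hp).1 (hdiag j)
  · have : n = 1 := by have := T.pos; omega
    subst this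
    rw [Subsingleton.elim j i, CAlg9.NT.diag_eq_zero_of_one, abs_zero, mul_zero]
    omega

end Groth.Agent.ModPic.NTB
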