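import Groth.Agent.CAlg9.NT.Genus

/-!
Contraction of a numerical type along a `(-1)`-index, and the Picard group.
-/

set_option autoImplicit false

open Finset

namespace Groth.Agent.ModPic.NTC

open Groth.Agent

/-- The two divisibility facts behind the contraction. -/
theorem contract_index {w wl b g : ℤ} (hw : 0 < w) (hwl : 0 < wl) (hb : 0 ≤ b) (hg : 0 ≤ g)
    (h1 : w ∣ b) (h2 : wl ∣ b) {w' : ℤ}
    (hw' : w' = if 2 ∣ b / wl ∧ ¬ 2 ∣ b / w then w / 2 else w) :
    0 < w' ∧ w' ∣ w ∧ 2 * (w / w') ≤ 4 ∧
      0 ≤ w / w' * (g - 1) + 1 + (b ^ 2 - wl * b) / (2 * w' * wl) ∧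
      2 * w' * ((w / w' * (g - 1) + 1 + (b ^ 2 - wl * b) / (2 * w' * wl)) - 1) =
        2 * w * (g - 1) + b * (b / wl) - b := by
  obtain ⟨d, hd⟩ := h1
  obtain ⟨c, hc⟩ := h2
  have ec : b / wl = c := by rw [hc, Int.mul_ediv_cancel_left _ hwl.ne']
  have ed : b / w = d := by rw [hd, Int.mul_ediv_cancel_left _ hw.ne']
  rw [ec, ed] at hw'
  rw [ec]
  have hc0 : 0 ≤ c := by nlinarith
  have hd0 : 0 ≤ d := by nlinarith
  have hcd : wl * c = w * d := by rw [← hc, ← hd]
  have hcc : 0 ≤ c * (c - 1) := by
    rcases hc0.eq_or_lt with h | h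
    · rw [← h]; simp
    · exact mul_nonneg hc0 (by omega)
  by_cases hA : 2 ∣ c ∧ ¬ 2 ∣ d
  · rw [if_pos hA] at hw'
    have h2w : (2 : ℤ) ∣ w := by
      have : (2 : ℤ) ∣ w * d := hcd ▸ dvd_mul_of_dvd_right hA.1 wl
      exact (Int.prime_two.dvd_mul.1 this).resolve_right hA.2
    obtain ⟨u, hu⟩ := h2w
    have hwu : w' = u := by rw [hw', hu, Int.mul_ediv_cancel_left _ two_ne_zero]
    have hu0 : 0 < u := by omega
    have hq : w / w' = 2 := by rw [hwu, hu, Int.mul_ediv_cancel _ hu0.ne']
    have hX : (b ^ 2 - wl * b) / (2 * w' * wl) = d * (c - 1) := by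
      rw [show b ^ 2 - wl * b = (2 * w' * wl) * (d * (c - 1)) by
        rw [hwu]; linear_combination (b - wl) * hd + w * d * hc + (d * wl * (c - 1)) * hu]
      exact Int.mul_ediv_cancel_left _ (mul_ne_zero (mul_ne_zero two_ne_zero (by omega)) hwl.ne')
    rw [hX, hq]
    refine ⟨by omega, ⟨2, by rw [hwu, hu]; ring⟩, by norm_num, ?_, ?_⟩
    · rcases hg.eq_or_lt with h | h
      · have hd1 : 1 ≤ d := by
          rcases hd0.eq_or_lt with h' | h'
          · exact absurd ⟨0, by omega⟩ hA.2
          · omega
        have hc2 : 2 ≤ c := by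
          have : 0 < wl * c := by rw [hcd]; positivity
          have : 0 < c := by nlinarith
          obtain ⟨e, he⟩ := hA.1
          omega
        nlinarith
      · have : 0 ≤ d * (c - 1) := by
          rcases hc0.eq_or_lt with h' | h'
          · have : w * d = 0 := by rw [← hcd, ← h']; simp
            rw [(mul_eq_zero.1 this).resolve_left hw.ne']; simp
          · exact mul_nonneg hd0 (by omega)
        omega
    · rw [hwu, hd, hu]; ring
  · rw [if_neg hA] at hw'
    have hq : w / w' = 1 := by rw [hw', Int.ediv_self hw.ne']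
    obtain ⟨q, hq2⟩ : (2 : ℤ) ∣ d * (c - 1) := by
      by_cases h : 2 ∣ d
      · exact dvd_mul_of_dvd_left h _
      · exact dvd_mul_of_dvd_right (by
          have hnc : ¬ 2 ∣ c := fun hc2 => hA ⟨hc2, h⟩
          omega) _
    have hX : (b ^ 2 - wl * b) / (2 * w' * wl) = q := by
      rw [show b ^ 2 - wl * b = (2 * w' * wl) * q by
        rw [hw']; linear_combination (b - wl) * hd + w * d * hc + (wl * w) * hq2]
      exact Int.mul_ediv_cancel_left _ (mul_ne_zero (mul_ne_zero two_ne_zero (by omega)) hwl.ne')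
    rw [hX, hq]
    have hq0 : 0 ≤ q := by
      rcases hc0.eq_or_lt with h' | h'
      · have : w * d = 0 := by rw [← hcd, ← h']; simp
        rw [(mul_eq_zero.1 this).resolve_left hw.ne'] at hq2; omega
      · have : 0 ≤ d * (c - 1) := mul_nonneg hd0 (by omega)
        omega
    refine ⟨by omega, ⟨1, by rw [hw']; ring⟩, by norm_num, by omega, ?_⟩
    rw [hw', hd]
    linear_combination (-w) * hq2

variable {n : ℕ} (T : Models.NumericalType (n + 1))

theorem last_pos (h : T.IsMinusOne (Fin.last n)) : 0 < n := by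
  rcases Nat.eq_zero_or_pos n with rfl | hn
  · have h0 := CAlg9.NT.diag_eq_zero_of_one (T := T) (Fin.last 0)
    rw [h.2] at h0
    have := T.w_pos (Fin.last 0)
    omega
  · exact hn

/-- The intersection number with the contracted index. -/
def col (i : Fin n) : ℤ := T.a i.castSucc (Fin.last n)

theorem col_nonneg (i : Fin n) : 0 ≤ col T i := T.offDiag_nonneg _ _ (Fin.castSucc_lt_last i).ne

theorem wl_dvd_col (i : Fin n) : T.w (Fin.last n) ∣ col T i := by
  rw [col, ← NT93.aSymm T i.castSucc (Fin.last n)]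
  exact T.w_dvd _ _

theorem a_contract (h : T.IsMinusOne (Fin.last n)) (i j : Fin n) :
    T.a i.castSucc j.castSucc - col T i * col T j / T.a (Fin.last n) (Fin.last n) =
      T.a i.castSucc j.castSucc + col T i * (col T j / T.w (Fin.last n)) := by
  rw [h.2, Int.ediv_neg, Int.mul_ediv_assoc _ (wl_dvd_col T j)]
  ring

theorem sum_col_mul (h : T.IsMinusOne (Fin.last n)) :
    ∑ j : Fin n, col T j * T.m j.castSucc = T.w (Fin.last n) * T.m (Fin.last n) := by
  have := NT93.rowM T (Fin.last n)
  rw [Fin.sum_univ_castSucc, h.2] at this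
  simp only [col, fun j : Fin n => (NT93.aSymm T j.castSucc (Fin.last n)).symm]
  linarith

theorem exists_contraction (h : T.IsMinusOne (Fin.last n)) :
    ∃ T' : Models.NumericalType n, T.IsContraction T' := by
  classical
  let w' : Fin n → ℤ := fun i =>
    if 2 ∣ col T i / T.w (Fin.last n) ∧ ¬ 2 ∣ col T i / T.w i.castSucc
      then T.w i.castSucc / 2 else T.w i.castSucc
  let a' : Matrix (Fin n) (Fin n) ℤ := Matrix.of fun i j =>
    T.a i.castSucc j.castSucc - col T i * col T j / T.a (Fin.last n) (Fin.last n)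
  have key := fun i : Fin n => contract_index (T.w_pos i.castSucc) (T.w_pos (Fin.last n)) (col_nonneg T i)
    (T.g_nonneg i.castSucc) (T.w_dvd _ _) (wl_dvd_col T i) (w' := w' i) rfl
  have ha : ∀ i j, a' i j = T.a i.castSucc j.castSucc + col T i * (col T j / T.w (Fin.last n)) :=
    a_contract T h
  have hnn : ∀ j, 0 ≤ col T j / T.w (Fin.last n) := fun j =>
    Int.ediv_nonneg (col_nonneg T j) (T.w_pos _).le
  let T' : Models.NumericalType n :=
    { m := fun i => T.m i.castSucc
      a := a'
      w := w'
      g := fun i => T.w i.castSucc / w' i * (T.g i.castSucc - 1) + 1 +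
        (col T i ^ 2 - T.w (Fin.last n) * col T i) / (2 * w' i * T.w (Fin.last n))
      pos := last_pos T h
      m_pos := fun i => T.m_pos _
      w_pos := fun i => (key i).1
      g_nonneg := fun i => (key i).2.2.2.1
      symm := Matrix.IsSymm.ext fun i j => by
        simp only [a', Matrix.of_apply]
        rw [NT93.aSymm T, mul_comm]
      offDiag_nonneg := fun i j hij => by
        rw [ha]
        exact add_nonneg (T.offDiag_nonneg _ _ (fun e => hij (Fin.castSucc_injective _ e)))
          (mul_nonneg (col_nonneg T i) (hnn j))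
      connected := fun I hI hI' => by
        by_contra hc
        push Not at hc
        have h0 : ∀ i ∈ I, ∀ j, j ∉ I → T.a i.castSucc j.castSucc = 0 ∧
            col T i * (col T j / T.w (Fin.last n)) = 0 := by
          intro i hi j hj
          have h1 := hc i hi j hj
          rw [ha] at h1
          have h2 := T.offDiag_nonneg i.castSucc j.castSucc
            (fun e => hj (Fin.castSucc_injective _ e ▸ hi))
          have h3 := mul_nonneg (col_nonneg T i) (hnn j)
          constructor <;> linarith
        obtain ⟨j₀, hj₀⟩ : ∃ j, j ∉ I := by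
          by_contra hall
          push Not at hall
          exact hI' (eq_univ_iff_forall.2 hall)
        have edge : ∀ J : Finset (Fin n), J.Nonempty →
            (∀ i ∈ J, ∀ j, j ∉ J → T.a i.castSucc j.castSucc = 0) → ∃ i ∈ J, col T i ≠ 0 := by
          intro J hJ hJ0
          obtain ⟨x, hx, y, hy, hxy⟩ := T.connected (J.map Fin.castSuccEmb) (hJ.map) (fun e => by
            have := e ▸ mem_univ (Fin.last n)
            obtain ⟨z, -, hz⟩ := mem_map.1 this
            exact (Fin.castSucc_lt_last z).ne hz)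
          obtain ⟨i, hi, rfl⟩ := mem_map.1 hx
          induction y using Fin.lastCases with
          | last => exact ⟨i, hi, hxy⟩
          | cast j => exact absurd (hJ0 i hi j (fun hj => hy (mem_map.2 ⟨j, hj, rfl⟩))) hxy
        obtain ⟨i, hi, hci⟩ := edge I hI fun i hi j hj => (h0 i hi j hj).1
        obtain ⟨j, hj, hcj⟩ := edge Iᶜ ⟨j₀, mem_compl.2 hj₀⟩ fun j hj i hi => by
          rw [NT93.aSymm T]
          exact (h0 i (by simpa using hi) j (mem_compl.1 hj)).1
        rcases mul_eq_zero.1 (h0 i hi j (mem_compl.1 hj)).2 with e | e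
        · exact hci e
        · exact hcj (Int.eq_zero_of_ediv_eq_zero (wl_dvd_col T j) e)
      mulVec_m := funext fun i => by
        simp only [Matrix.mulVec, dotProduct, Pi.zero_apply]
        have h1 := NT93.rowM T i.castSucc
        rw [Fin.sum_univ_castSucc] at h1
        obtain ⟨c, hc⟩ := wl_dvd_col T i
        have h2 := sum_col_mul T h
        calc ∑ j, a' i j * T.m j.castSucc
            = ∑ j : Fin n, (T.a i.castSucc j.castSucc * T.m j.castSucc + c * (col T j * T.m j.castSucc)) := by
              refine sum_congr rfl fun j _ => ?_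
              rw [ha]
              obtain ⟨e, he⟩ := wl_dvd_col T j
              rw [he, Int.mul_ediv_cancel_left _ (T.w_pos _).ne', hc]
              ring
          _ = 0 := by
              rw [sum_add_distrib, ← mul_sum, h2]
              have hcol : T.a i.castSucc (Fin.last n) = T.w (Fin.last n) * c := hc
              rw [hcol] at h1
              linarith
      w_dvd := fun i j => by
        rw [ha]
        exact (key i).2.1.trans (dvd_add (T.w_dvd _ _) (dvd_mul_of_dvd_left (T.w_dvd _ _) _)) }
  exact ⟨T', fun _ => rfl, fun _ _ => rfl, fun _ => rfl, fun _ => rfl⟩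

theorem genus_contraction (h : T.IsMinusOne (Fin.last n)) {T' : Models.NumericalType n}
    (hT' : T.IsContraction T') : T'.genus = T.genus := by
  obtain ⟨hm, ha, hw, hg⟩ := hT'
  have key : ∀ i : Fin n, CAlg9.NT.c T' i = CAlg9.NT.c T i.castSucc - col T i * T.m i.castSucc := by
    intro i
    have hk := (contract_index (T.w_pos i.castSucc) (T.w_pos (Fin.last n)) (col_nonneg T i)
      (T.g_nonneg i.castSucc) (T.w_dvd _ _) (wl_dvd_col T i) (w' := T'.w i) (hw i)).2.2.2.2
    have hg' : T'.g i = T.w i.castSucc / T'.w i * (T.g i.castSucc - 1) + 1 +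
        (col T i ^ 2 - T.w (Fin.last n) * col T i) / (2 * T'.w i * T.w (Fin.last n)) := hg i
    rw [← hg'] at hk
    have ha' : T'.a i i = T.a i.castSucc i.castSucc + col T i * (col T i / T.w (Fin.last n)) :=
      (ha i i).trans (a_contract T h i i)
    simp only [CAlg9.NT.c, hm, ha']
    linear_combination T.m i.castSucc * hk
  have h1 := CAlg9.NT.sum_c T'
  have h2 := CAlg9.NT.sum_c T
  rw [sum_congr rfl fun i _ => key i, sum_sub_distrib, sum_col_mul T h] at h1
  rw [Fin.sum_univ_castSucc] at h2
  have hl : CAlg9.NT.c T (Fin.last n) = -(T.w (Fin.last n) * T.m (Fin.last n)) := by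
    simp only [CAlg9.NT.c, h.1, h.2]; ring
  rw [hl] at h2
  linarith

/-- Membership in the relations, written with the intersection matrix. -/
theorem mem_relations_iff {k : ℕ} (S : Models.NumericalType k) (x : Fin k → ℤ) :
    x ∈ LinearMap.range (Matrix.mulVecLin S.picMatrix) ↔
      ∃ u : Fin k → ℤ, ∀ i, ∑ j, S.a i j * u j = S.w i * x i := by
  have hP : ∀ (u : Fin k → ℤ) i, S.w i * Matrix.mulVecLin S.picMatrix u i = ∑ j, S.a i j * u j := fun u i => by
    simp only [Matrix.mulVecLin_apply, Matrix.mulVec, dotProduct, mul_sum,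
      Models.NumericalType.picMatrix, ← mul_assoc]
    exact sum_congr rfl fun l _ => by rw [Int.mul_ediv_cancel' (S.w_dvd i l)]
  constructor
  · rintro ⟨u, rfl⟩
    exact ⟨u, fun i => (hP u i).symm⟩
  · rintro ⟨u, hu⟩
    exact ⟨u, funext fun i => mul_left_cancel₀ (S.w_pos i).ne' ((hP u i).trans (hu i))⟩

theorem pic_embeds_contraction (h : T.IsMinusOne (Fin.last n)) {T' : Models.NumericalType n}
    (hT' : T.IsContraction T') :
    ∃ f : T.Pic →+ T'.Pic, Function.Injective f ∧ ∀ y : T'.Pic, ∃ x : T.Pic, 2 • y = f x := by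
  obtain ⟨-, ha, hw, -⟩ := hT'
  have key := fun i : Fin n => contract_index (T.w_pos i.castSucc) (T.w_pos (Fin.last n)) (col_nonneg T i)
    (T.g_nonneg i.castSucc) (T.w_dvd _ _) (wl_dvd_col T i) (w' := T'.w i) (hw i)
  have hk : ∀ i : Fin n, T'.w i * (T.w i.castSucc / T'.w i) = T.w i.castSucc := fun i =>
    Int.mul_ediv_cancel' (key i).2.1
  have ha' : ∀ i j, T'.a i j = T.a i.castSucc j.castSucc + col T i * (col T j / T.w (Fin.last n)) :=
    fun i j => (ha i j).trans (a_contract T h i j)
  have hd : ∀ i : Fin n, T.w i.castSucc * (col T i / T.w i.castSucc) = col T i := fun i =>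
    Int.mul_ediv_cancel' (T.w_dvd _ _)
  have hc : ∀ i : Fin n, T.w (Fin.last n) * (col T i / T.w (Fin.last n)) = col T i := fun i =>
    Int.mul_ediv_cancel' (wl_dvd_col T i)
  let L : (Fin (n + 1) → ℤ) →ₗ[ℤ] (Fin n → ℤ) := LinearMap.pi fun i =>
    (T.w i.castSucc / T'.w i) • (LinearMap.proj i.castSucc +
      (col T i / T.w i.castSucc) • LinearMap.proj (Fin.last n))
  have hL : ∀ x i, T'.w i * L x i = T.w i.castSucc * x i.castSucc + col T i * x (Fin.last n) := by
    intro x i
    simp only [L, LinearMap.pi_apply, LinearMap.smul_apply, LinearMap.add_apply, LinearMap.proj_apply,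
      smul_eq_mul]
    rw [← mul_assoc, hk, mul_add, ← mul_assoc, hd]
  have hsplit : ∀ (u : Fin (n + 1) → ℤ) (i : Fin n), ∑ j : Fin n, T'.a i j * u j.castSucc =
      ∑ j : Fin n, T.a i.castSucc j.castSucc * u j.castSucc +
        col T i * ∑ j : Fin n, col T j / T.w (Fin.last n) * u j.castSucc := fun u i => by
    rw [mul_sum, ← sum_add_distrib]
    exact sum_congr rfl fun j _ => by rw [ha']; ring
  have hlast : ∀ u : Fin (n + 1) → ℤ, ∑ j, T.a (Fin.last n) j * u j =
      T.w (Fin.last n) * ((∑ j : Fin n, col T j / T.w (Fin.last n) * u j.castSucc) - u (Fin.last n)) := by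
    intro u
    rw [Fin.sum_univ_castSucc, h.2, mul_sub, mul_sum, sub_eq_add_neg, neg_mul]
    congr 1
    refine sum_congr rfl fun j _ => ?_
    rw [← mul_assoc, hc, col, NT93.aSymm T j.castSucc (Fin.last n)]
  have hmap : LinearMap.range (Matrix.mulVecLin T.picMatrix) ≤
      (LinearMap.range (Matrix.mulVecLin T'.picMatrix)).comap L := by
    intro x hx
    obtain ⟨u, hu⟩ := (mem_relations_iff T x).1 hx
    refine (mem_relations_iff T' (L x)).2 ⟨fun j => u j.castSucc, fun i => ?_⟩
    rw [hL, hsplit, ← hu i.castSucc, Fin.sum_univ_castSucc]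
    have hl := hu (Fin.last n)
    rw [hlast] at hl
    have := mul_left_cancel₀ (T.w_pos (Fin.last n)).ne' hl
    rw [← this]
    simp only [col]
    ring
  refine ⟨(Submodule.mapQ _ _ L hmap).toAddMonoidHom, ?_, ?_⟩
  · rw [injective_iff_map_eq_zero]
    intro y hy
    obtain ⟨x, rfl⟩ := Submodule.Quotient.mk_surjective _ y
    have hy' : L x ∈ LinearMap.range (Matrix.mulVecLin T'.picMatrix) :=
      (Submodule.Quotient.mk_eq_zero _).1 hy
    obtain ⟨v, hv⟩ := (mem_relations_iff T' _).1 hy'
    refine (Submodule.Quotient.mk_eq_zero _).2 ((mem_relations_iff T x).2 ?_)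
    refine ⟨Fin.lastCases ((∑ j : Fin n, col T j / T.w (Fin.last n) * v j) - x (Fin.last n)) v, ?_⟩
    intro i
    induction i using Fin.lastCases with
    | last =>
      rw [hlast]
      simp only [Fin.lastCases_castSucc, Fin.lastCases_last]
      ring
    | cast i =>
      have h1 := hv i
      have h2 := hsplit (Fin.lastCases ((∑ j : Fin n, col T j / T.w (Fin.last n) * v j) - x (Fin.last n)) v) i
      simp only [Fin.lastCases_castSucc] at h2
      rw [hL, h2] at h1
      rw [Fin.sum_univ_castSucc]
      simp only [Fin.lastCases_castSucc, Fin.lastCases_last]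
      simp only [col] at h1 ⊢
      linarith
  · intro y
    obtain ⟨z, rfl⟩ := Submodule.Quotient.mk_surjective _ y
    have h2 : ∀ i : Fin n, T.w i.castSucc / T'.w i ∣ 2 := fun i => by
      have h1 := (key i).2.2.1
      have h0 : 0 < T.w i.castSucc / T'.w i := by nlinarith [hk i, T.w_pos i.castSucc, T'.w_pos i]
      rcases (show T.w i.castSucc / T'.w i = 1 ∨ T.w i.castSucc / T'.w i = 2 by omega) with e | e <;>
        rw [e]
      norm_num
    choose e he using h2
    refine ⟨Submodule.Quotient.mk (Fin.lastCases 0 fun i => e i * z i), ?_⟩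
    show 2 • Submodule.Quotient.mk z = Submodule.Quotient.mk (L _)
    rw [← Submodule.Quotient.mk_smul]
    congr 1
    refine funext fun i => mul_left_cancel₀ (T'.w_pos i).ne' ?_
    rw [hL]
    simp only [Fin.lastCases_castSucc, Fin.lastCases_last, Pi.smul_apply, nsmul_eq_mul, Nat.cast_ofNat]
    rw [mul_zero, add_zero, he i]
    linear_combination (e i * z i) * hk i

end Groth.Agent.ModPic.NTC
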