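import Groth.Agent.ModPic.NTContract
import Groth.Agent.ModPic.NTBound
import Mathlib.LinearAlgebra.Matrix.Rank
import Mathlib.FieldTheory.Finite.Basic
import Mathlib.Algebra.Module.Torsion.Basic

/-!
Torsion in the cokernel of the intersection matrix and in the Picard group of a numerical type.
-/

set_option autoImplicit false
set_option linter.style.haveILetI false

open Finset

namespace Groth.Agent.ModPic.NTT

open Groth.Agent

/-- Torsion modulo a prime in the cokernel of a connected symmetric matrix. -/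
theorem finite_card_torsion_coker {n : ℕ} (hn : 0 < n) (A : Matrix (Fin n) (Fin n) ℤ)
    (m : Fin n → ℤ) (hsymm : A.IsSymm) (hA : ∀ i j, i ≠ j → 0 ≤ A i j)
    (hAm : A.mulVec m = 0)
    (hconn : ∀ I : Finset (Fin n), I.Nonempty → I ≠ univ → ∃ i ∈ I, ∃ j ∉ I, A i j ≠ 0)
    (ℓ : ℕ) (hℓ : ℓ.Prime) (hℓA : ∀ i j, A i j ≠ 0 → ¬ ((ℓ : ℤ) ∣ A i j))
    (hℓm : ∀ i, ¬ ((ℓ : ℤ) ∣ m i)) :
    n ≤ (univ.filter fun p : Fin n × Fin n => p.1 < p.2 ∧ 0 < A p.1 p.2).card + 1 ∧
    Finite (Submodule.torsionBy ℤ ((Fin n → ℤ) ⧸ LinearMap.range (Matrix.mulVecLin A)) (ℓ : ℤ)) ∧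
    Nat.card (Submodule.torsionBy ℤ ((Fin n → ℤ) ⧸ LinearMap.range (Matrix.mulVecLin A)) (ℓ : ℤ))
      ≤ ℓ ^ ((univ.filter fun p : Fin n × Fin n => p.1 < p.2 ∧ 0 < A p.1 p.2).card + 1 - n) := by
  classical
  haveI := Fact.mk hℓ
  let i₀ : Fin n := ⟨0, hn⟩
  let P : Fin n × Fin n → Prop := fun p => p.1 < p.2 ∧ 0 < A p.1 p.2
  let E := {p : Fin n × Fin n // P p}
  have hE : Fintype.card E = (univ.filter P).card := Fintype.card_subtype P
  let M : Matrix E (Fin n) (ZMod ℓ) := Matrix.of fun p i =>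
    (if p.1.1 = i then 1 else 0) - (if p.1.2 = i then 1 else 0)
  have hM : ∀ z p, M.mulVecLin z p = z p.1.1 - z p.1.2 := fun z p => by
    simp [M, Matrix.mulVec, dotProduct, sub_mul, sum_sub_distrib]
  have hkerM : ∀ z ∈ LinearMap.ker M.mulVecLin, ∀ i, z i = z i₀ := by
    intro z hz i
    by_contra hne
    obtain ⟨a, ha, b, hb, hab⟩ := hconn (univ.filter fun j => z j = z i₀) ⟨i₀, by simp⟩ (fun e => by
      have := e ▸ mem_univ i
      exact hne (by simpa using this))
    simp only [mem_filter, mem_univ, true_and] at ha hb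
    have hne' : a ≠ b := fun e => hb (e ▸ ha)
    have hpos : 0 < A a b := lt_of_le_of_ne (hA a b hne') (Ne.symm hab)
    rcases lt_or_gt_of_ne hne' with hlt | hlt
    · have := congrFun (LinearMap.mem_ker.1 hz) ⟨(a, b), hlt, hpos⟩
      rw [hM, Pi.zero_apply, sub_eq_zero] at this
      exact hb (this.symm.trans ha)
    · have := congrFun (LinearMap.mem_ker.1 hz) ⟨(b, a), hlt, by rw [hsymm.apply a b]; exact hpos⟩
      rw [hM, Pi.zero_apply, sub_eq_zero] at this
      exact hb (this.trans ha)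
  have hdimM : Module.finrank (ZMod ℓ) (LinearMap.ker M.mulVecLin) ≤ 1 := by
    have : LinearMap.ker M.mulVecLin ≤ Submodule.span (ZMod ℓ) {(fun _ => 1 : Fin n → ZMod ℓ)} := fun z hz =>
      Submodule.mem_span_singleton.2 ⟨z i₀, funext fun i => by simp [hkerM z hz i]⟩
    exact (Submodule.finrank_mono this).trans ((finrank_span_le_card _).trans (by simp))
  have hrn := LinearMap.finrank_range_add_finrank_ker M.mulVecLin
  have hrn' := LinearMap.finrank_range_add_finrank_ker M.transpose.mulVecLin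
  rw [Module.finrank_fintype_fun_eq_card] at hrn hrn'
  rw [Fintype.card_fin] at hrn
  rw [hE] at hrn'
  have hrank : Module.finrank (ZMod ℓ) (LinearMap.range M.transpose.mulVecLin) =
      Module.finrank (ZMod ℓ) (LinearMap.range M.mulVecLin) := Matrix.rank_transpose M
  -- the kernel of the matrix modulo ℓ
  let μ : Fin n → ZMod ℓ := fun i => (m i : ZMod ℓ)
  have hμ : ∀ i, μ i ≠ 0 := fun i h => hℓm i ((ZMod.intCast_zmod_eq_zero_iff_dvd _ _).1 h)
  let B : Matrix (Fin n) (Fin n) (ZMod ℓ) := Matrix.of fun i j => (A i j : ZMod ℓ)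
  let K := LinearMap.ker B.mulVecLin
  have hBμ : ∀ i, ∑ j, B i j * μ j = 0 := fun i => by
    have := congrArg (fun z : ℤ => (z : ZMod ℓ)) (congrFun hAm i)
    simpa [Matrix.mulVec, dotProduct, B, μ] using this
  have hμK : μ ∈ K := LinearMap.mem_ker.2 (funext hBμ)
  let W : E → ZMod ℓ := fun p => B p.1.1 p.1.2 * μ p.1.1 * μ p.1.2
  have hW : ∀ p, W p ≠ 0 := fun p => mul_ne_zero (mul_ne_zero
    (fun h => hℓA _ _ (ne_of_gt p.2.2) ((ZMod.intCast_zmod_eq_zero_iff_dvd _ _).1 h)) (hμ _)) (hμ _)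
  let G : (Fin n → ZMod ℓ) →ₗ[ZMod ℓ] (E → ZMod ℓ) :=
    LinearMap.pi fun p => W p • ((μ p.1.1)⁻¹ • LinearMap.proj p.1.1 - (μ p.1.2)⁻¹ • LinearMap.proj p.1.2)
  have hG : ∀ z p, G z p = W p * ((μ p.1.1)⁻¹ * z p.1.1 - (μ p.1.2)⁻¹ * z p.1.2) := fun z p => by
    simp [G]
  have hGK : ∀ z ∈ K, G z ∈ LinearMap.ker M.transpose.mulVecLin := by
    intro z hz
    refine LinearMap.mem_ker.2 (funext fun i => ?_)
    let F : Fin n → Fin n → ZMod ℓ := fun a b => B a b * μ a * μ b * ((μ a)⁻¹ * z a - (μ b)⁻¹ * z b)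
    have hFs : ∀ a b, F b a = - F a b := fun a b => by
      have : B b a = B a b := congrArg (fun z : ℤ => (z : ZMod ℓ)) (hsymm.apply a b)
      simp only [F, this]; ring
    have hF0 : ∀ a b, a < b → ¬ P (a, b) → F a b = 0 := fun a b hab hp => by
      have : A a b = 0 := le_antisymm (not_lt.1 fun h => hp ⟨hab, h⟩) (hA a b hab.ne)
      simp [F, B, this]
    have h1 : M.transpose.mulVecLin (G z) i =
        ∑ p : Fin n × Fin n, (if p.1 < p.2 then
          ((if p.1 = i then F p.1 p.2 else 0) - (if p.2 = i then F p.1 p.2 else 0)) else 0) := by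
      simp only [Matrix.mulVecLin_apply, Matrix.mulVec, dotProduct, Matrix.transpose_apply, M,
        Matrix.of_apply, hG]
      rw [← sum_subtype (univ.filter P) (fun p => by simp) (fun p : Fin n × Fin n =>
        ((if p.1 = i then 1 else 0) - (if p.2 = i then 1 else 0)) *
          (B p.1 p.2 * μ p.1 * μ p.2 * ((μ p.1)⁻¹ * z p.1 - (μ p.2)⁻¹ * z p.2))), sum_filter]
      refine sum_congr rfl fun p _ => ?_
      by_cases hlt : p.1 < p.2
      · by_cases hp : P p
        · rw [if_pos hp, if_pos hlt]; simp [F, sub_mul]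
        · rw [if_neg hp, if_pos hlt, hF0 p.1 p.2 hlt hp]; simp
      · rw [if_neg (fun hp => hlt hp.1), if_neg hlt]
    have h2 : ∀ p : Fin n × Fin n, (if p.1 < p.2 then
          ((if p.1 = i then F p.1 p.2 else 0) - (if p.2 = i then F p.1 p.2 else 0)) else 0) =
        (if p.1 = i then (if i < p.2 then F i p.2 else 0) else 0) +
          (if p.2 = i then (if p.1 < i then F i p.1 else 0) else 0) := fun p => by
      by_cases e1 : p.1 = i <;> by_cases e2 : p.2 = i
      · simp [e1, e2]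
      · subst e1; simp [e2]
      · subst e2; simp [e1, hFs p.1 p.2]
      · simp [e1, e2]
    have h3 : ∀ b, ((if i < b then F i b else 0) + if b < i then F i b else 0) = F i b := fun b => by
      rcases lt_trichotomy i b with h | h | h
      · simp [h, h.not_gt]
      · subst h; simp [F]
      · simp [h, h.not_gt]
    have hz' : ∑ j, B i j * z j = 0 := congrFun (LinearMap.mem_ker.1 hz) i
    rw [h1, sum_congr rfl fun p _ => h2 p, sum_add_distrib, Fintype.sum_prod_type, Fintype.sum_prod_type,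
      sum_comm (f := fun a b => if (a, b).1 = i then (if i < (a, b).2 then F i (a, b).2 else 0) else 0)]
    simp only [sum_ite_eq', mem_univ, if_true, ← sum_add_distrib]
    rw [sum_congr rfl fun b _ => h3 b]
    have h4 : ∀ b, F i b = z i * (B i b * μ b) - μ i * (B i b * z b) := fun b => by
      simp only [F]
      field_simp [hμ i, hμ b]
    rw [sum_congr rfl fun b _ => h4 b, sum_sub_distrib, ← mul_sum, ← mul_sum, hBμ, hz']
    simp
  let G' : K →ₗ[ZMod ℓ] LinearMap.ker M.transpose.mulVecLin :=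
    LinearMap.codRestrict _ (G.comp K.subtype) fun z => hGK z.1 z.2
  have hdimG : Module.finrank (ZMod ℓ) (LinearMap.ker G') ≤ 1 := by
    have h : (LinearMap.ker G').map K.subtype ≤ Submodule.span (ZMod ℓ) {μ} := by
      rintro z ⟨⟨z', hz'⟩, hk, rfl⟩
      have hG0 : G z' = 0 := congrArg Subtype.val (LinearMap.mem_ker.1 hk)
      have hD : (fun i => (μ i)⁻¹ * z' i) ∈ LinearMap.ker M.mulVecLin := by
        refine LinearMap.mem_ker.2 (funext fun p => ?_)
        have := congrFun hG0 p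
        rw [hG, Pi.zero_apply] at this
        rw [hM, Pi.zero_apply]
        exact (mul_eq_zero.1 this).resolve_left (hW p)
      refine Submodule.mem_span_singleton.2 ⟨(μ i₀)⁻¹ * z' i₀, funext fun i => ?_⟩
      have := hkerM _ hD i
      simp only [Submodule.coe_subtype, Pi.smul_apply, smul_eq_mul]
      rw [← this]
      field_simp [hμ i]
    rw [← Submodule.finrank_map_subtype_eq]
    exact (Submodule.finrank_mono h).trans ((finrank_span_le_card _).trans (by simp))
  have hrnG := LinearMap.finrank_range_add_finrank_ker G'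
  have hrangeG : Module.finrank (ZMod ℓ) (LinearMap.range G') ≤
      Module.finrank (ZMod ℓ) (LinearMap.ker M.transpose.mulVecLin) := Submodule.finrank_le _
  have hμne : (⟨μ, hμK⟩ : K) ≠ 0 := fun h => hμ i₀ (congrFun (congrArg Subtype.val h) i₀)
  let S : Submodule (ZMod ℓ) K := Submodule.span (ZMod ℓ) {⟨μ, hμK⟩}
  have hS : Module.finrank (ZMod ℓ) S = 1 := finrank_span_singleton hμne
  have hq := S.finrank_quotient_add_finrank
  have hn1 : n ≤ (univ.filter P).card + 1 := by omega
  have hcardQ : Nat.card (K ⧸ S) ≤ ℓ ^ ((univ.filter P).card + 1 - n) := by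
    rw [Module.natCard_eq_pow_finrank (K := ZMod ℓ) (V := K ⧸ S), Nat.card_zmod]
    exact Nat.pow_le_pow_right hℓ.pos (by omega)
  haveI : Finite (K ⧸ S) := Finite.of_surjective _ (Submodule.Quotient.mk_surjective S)
  let Q := (Fin n → ℤ) ⧸ LinearMap.range (Matrix.mulVecLin A)
  have hrep : ∀ t : Submodule.torsionBy ℤ Q (ℓ : ℤ), ∃ xy : (Fin n → ℤ) × (Fin n → ℤ),
      Submodule.Quotient.mk xy.1 = (t : Q) ∧ ∀ i, ∑ j, A i j * xy.2 j = ℓ * xy.1 i := by
    intro t
    obtain ⟨x, hx⟩ := Submodule.Quotient.mk_surjective _ (t : Q)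
    have h := (Submodule.mem_torsionBy_iff _ _).1 t.2
    rw [← hx, ← Submodule.Quotient.mk_smul, Submodule.Quotient.mk_eq_zero] at h
    obtain ⟨y, hy⟩ := h
    exact ⟨(x, y), hx, fun i => congrFun hy i⟩
  choose xy hx hy using hrep
  have hbar : ∀ t, (fun i => ((xy t).2 i : ZMod ℓ)) ∈ K := fun t => LinearMap.mem_ker.2 (funext fun i => by
    have := congrArg (fun z : ℤ => (z : ZMod ℓ)) (hy t i)
    simpa [Matrix.mulVec, dotProduct, B] using this)
  let ψ : Submodule.torsionBy ℤ Q (ℓ : ℤ) → K ⧸ S := fun t => Submodule.Quotient.mk ⟨_, hbar t⟩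
  have hψ : Function.Injective ψ := by
    intro t t' h
    have h' := (Submodule.Quotient.eq S).1 h
    obtain ⟨c, hc⟩ := Submodule.mem_span_singleton.1 h'
    obtain ⟨c', rfl⟩ := ZMod.intCast_surjective c
    have hdiv : ∀ i, ∃ e, (xy t).2 i - (xy t').2 i - c' * m i = ℓ * e := fun i => by
      have h1 : (c' : ZMod ℓ) * μ i = ((xy t).2 i : ZMod ℓ) - ((xy t').2 i : ZMod ℓ) :=
        congrFun (congrArg Subtype.val hc) i
      obtain ⟨e, he⟩ := (ZMod.intCast_zmod_eq_zero_iff_dvd ((xy t).2 i - (xy t').2 i - c' * m i) ℓ).1 (by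
        push_cast
        rw [← h1]
        simp [μ])
      exact ⟨e, he⟩
    choose e he using hdiv
    refine Subtype.ext ?_
    rw [← hx t, ← hx t', Submodule.Quotient.eq]
    refine ⟨e, funext fun i => ?_⟩
    have hl : (ℓ : ℤ) ≠ 0 := by exact_mod_cast hℓ.ne_zero
    refine mul_left_cancel₀ hl ?_
    show (ℓ : ℤ) * ∑ j, A i j * e j = ℓ * ((xy t).1 i - (xy t').1 i)
    rw [mul_sub, ← hy, ← hy, mul_sum, ← sum_sub_distrib]
    have h0 : ∑ j, A i j * m j = 0 := congrFun hAm i
    calc ∑ j, (ℓ : ℤ) * (A i j * e j)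
        = ∑ j, (A i j * (xy t).2 j - A i j * (xy t').2 j) - c' * ∑ j, A i j * m j := by
          rw [mul_sum, ← sum_sub_distrib]
          exact sum_congr rfl fun j _ => by linear_combination (-(A i j)) * he j
      _ = _ := by rw [h0, mul_zero, sub_zero]
  exact ⟨hn1, Finite.of_injective ψ hψ, (Nat.card_le_card_of_injective ψ hψ).trans hcardQ⟩

variable {n : ℕ}

/-- A numerical type with its indices renumbered. -/
def perm (T : Models.NumericalType n) (σ : Equiv.Perm (Fin n)) : Models.NumericalType n where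
  m i := T.m (σ i)
  a := Matrix.of fun i j => T.a (σ i) (σ j)
  w i := T.w (σ i)
  g i := T.g (σ i)
  pos := T.pos
  m_pos i := T.m_pos _
  w_pos i := T.w_pos _
  g_nonneg i := T.g_nonneg _
  symm := Matrix.IsSymm.ext fun i j => T.symm.apply (σ i) (σ j)
  offDiag_nonneg i j h := T.offDiag_nonneg _ _ (fun e => h (σ.injective e))
  connected I hI hI' := by
    obtain ⟨x, hx, y, hy, hxy⟩ := T.connected (I.map σ.toEmbedding) hI.map (fun e => hI' (by
      refine eq_univ_iff_forall.2 fun i => ?_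
      have := e ▸ mem_univ (σ i)
      simpa using this))
    obtain ⟨i, hi, rfl⟩ := mem_map.1 hx
    exact ⟨i, hi, σ.symm y, fun hj => hy (mem_map.2 ⟨_, hj, by simp⟩), by simpa using hxy⟩
  mulVec_m := funext fun i => by
    have := NT93.rowM T (σ i)
    rw [← Equiv.sum_comp σ] at this
    simpa [Matrix.mulVec, dotProduct] using this
  w_dvd i j := T.w_dvd _ _

theorem genus_perm (T : Models.NumericalType n) (σ : Equiv.Perm (Fin n)) :
    (perm T σ).genus = T.genus := by
  have h1 := CAlg9.NT.sum_c (perm T σ)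
  have h2 := CAlg9.NT.sum_c T
  rw [← Equiv.sum_comp σ] at h2
  have : ∀ i, CAlg9.NT.c (perm T σ) i = CAlg9.NT.c T (σ i) := fun i => rfl
  rw [sum_congr rfl fun i _ => this i] at h1
  omega

theorem nonempty_pic_perm (T : Models.NumericalType n) (σ : Equiv.Perm (Fin n)) :
    Nonempty (T.Pic ≃+ (perm T σ).Pic) := by
  refine ⟨(Submodule.Quotient.equiv _ _ (LinearEquiv.funCongrLeft ℤ ℤ σ) ?_).toAddEquiv⟩
  refine Submodule.ext fun y => ?_
  rw [Submodule.mem_map]
  constructor
  · rintro ⟨x, hx, rfl⟩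
    obtain ⟨u, hu⟩ := (NTC.mem_relations_iff T x).1 hx
    refine (NTC.mem_relations_iff (perm T σ) _).2 ⟨fun j => u (σ j), fun i => ?_⟩
    exact (Equiv.sum_comp σ (fun j => T.a (σ i) j * u j)).trans (hu (σ i))
  · intro hy
    obtain ⟨u, hu⟩ := (NTC.mem_relations_iff (perm T σ) y).1 hy
    refine ⟨fun i => y (σ.symm i), (NTC.mem_relations_iff T _).2 ⟨fun j => u (σ.symm j), fun i => ?_⟩,
      funext fun i => show y (σ.symm (σ i)) = y i by simp⟩
    rw [← Equiv.sum_comp σ]
    have := hu (σ.symm i)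
    simpa [perm] using this

theorem exists_pic_embedding {k : ℕ} (T : Models.NumericalType (k + 1)) (h : ¬ T.IsMinimal) :
    ∃ (T' : Models.NumericalType k) (f : T.Pic →+ T'.Pic), T'.genus = T.genus ∧ Function.Injective f := by
  simp only [Models.NumericalType.IsMinimal, not_forall, not_not] at h
  obtain ⟨i, hi⟩ := h
  let σ := Equiv.swap i (Fin.last k)
  have hlast : (perm T σ).IsMinusOne (Fin.last k) := by
    have : σ (Fin.last k) = i := Equiv.swap_apply_right _ _
    show T.g (σ (Fin.last k)) = 0 ∧ T.a (σ (Fin.last k)) (σ (Fin.last k)) = -T.w (σ (Fin.last k))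
    rw [this]; exact hi
  obtain ⟨T', hT'⟩ := NTC.exists_contraction _ hlast
  obtain ⟨f, hf, -⟩ := NTC.pic_embeds_contraction _ hlast hT'
  obtain ⟨e⟩ := nonempty_pic_perm T σ
  exact ⟨T', f.comp e.toAddMonoidHom, (NTC.genus_contraction _ hlast hT').trans (genus_perm T σ),
    hf.comp e.injective⟩

theorem pic_one (T : Models.NumericalType 1) : Nonempty (T.Pic ≃+ ℤ) := by
  have h : LinearMap.range (Matrix.mulVecLin T.picMatrix) = ⊥ := by
    refine (Submodule.eq_bot_iff _).2 fun x hx => ?_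
    obtain ⟨u, hu⟩ := (NTC.mem_relations_iff T x).1 hx
    refine funext fun i => ?_
    have := hu i
    rw [Fin.sum_univ_one, Subsingleton.elim i 0, CAlg9.NT.diag_eq_zero_of_one, zero_mul] at this
    rw [Subsingleton.elim i 0]
    exact (mul_eq_zero.1 this.symm).resolve_left (T.w_pos _).ne'
  exact ⟨((Submodule.quotEquivOfEqBot _ h).trans (LinearEquiv.funUnique (Fin 1) ℤ ℤ)).toAddEquiv⟩

theorem pic_of_genus_nonpos : ∀ {n : ℕ} (T : Models.NumericalType n), T.genus ≤ 0 →
    Nonempty (T.Pic ≃+ ℤ) := by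
  intro n
  induction n with
  | zero => exact fun T _ => absurd T.pos (lt_irrefl 0)
  | succ k ih =>
    intro T hg
    rcases Nat.eq_zero_or_pos k with rfl | hk
    · exact pic_one T
    obtain ⟨T', f, hg', hf⟩ := exists_pic_embedding T fun hmin => by
      have := CAlg9.NT.one_le_genus T (by omega) hmin; omega
    obtain ⟨e⟩ := ih T' (by omega)
    let φ : T.Pic →+ ℤ := e.toAddMonoidHom.comp f
    have hφ : Function.Injective φ := e.injective.comp hf
    obtain ⟨a, ha⟩ := Int.subgroup_cyclic φ.range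
    obtain ⟨x₀, hx₀⟩ : a ∈ φ.range := ha ▸ AddSubgroup.subset_closure rfl
    have hne : a ≠ 0 := by
      intro h0
      have hs : Subsingleton T.Pic := ⟨fun x y => hφ (by
        have : ∀ z, φ z = 0 := fun z => by
          have hz : φ z ∈ AddSubgroup.closure {a} := ha ▸ ⟨z, rfl⟩
          obtain ⟨c, hc⟩ := AddSubgroup.mem_closure_singleton.1 hz
          rw [← hc, h0, smul_zero]
        rw [this, this])⟩
      have := CAlg9.NT.finrank_pic T
      rw [Module.finrank_zero_of_subsingleton] at this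
      omega
    refine ⟨(AddEquiv.ofBijective (zmultiplesHom T.Pic x₀) ⟨fun c d h => ?_, fun y => ?_⟩).symm⟩
    · have := congrArg φ h
      simp only [zmultiplesHom_apply, map_zsmul, hx₀, smul_eq_mul] at this
      exact mul_right_cancel₀ hne this
    · have hy : φ y ∈ AddSubgroup.closure {a} := ha ▸ ⟨y, rfl⟩
      obtain ⟨c, hc⟩ := AddSubgroup.mem_closure_singleton.1 hy
      exact ⟨c, hφ (by rw [zmultiplesHom_apply, map_zsmul, hx₀, hc])⟩

/-- The torsion does not grow along an injective homomorphism. -/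
theorem torsion_transfer {M N : Type*} [AddCommGroup M] [AddCommGroup N] (f : M →+ N)
    (hf : Function.Injective f) (z : ℤ) [Finite (Submodule.torsionBy ℤ N z)] :
    Finite (Submodule.torsionBy ℤ M z) ∧
      Nat.card (Submodule.torsionBy ℤ M z) ≤ Nat.card (Submodule.torsionBy ℤ N z) := by
  let F : Submodule.torsionBy ℤ M z → Submodule.torsionBy ℤ N z := fun x => ⟨f x.1, by
    rw [Submodule.mem_torsionBy_iff, ← map_zsmul, (Submodule.mem_torsionBy_iff _ _).1 x.2, map_zero]⟩
  have hF : Function.Injective F := fun x y h => Subtype.ext (hf (congrArg Subtype.val h))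
  exact ⟨Finite.of_injective F hF, Nat.card_le_card_of_injective F hF⟩

theorem torsion_minimal (T : Models.NumericalType n) (hmin : T.IsMinimal) (hg : 2 ≤ T.genus)
    (ℓ : ℕ) (hℓ : ℓ.Prime) (hℓg : 768 * T.genus < ℓ) :
    Finite (Submodule.torsionBy ℤ T.Pic (ℓ : ℤ)) ∧
      Nat.card (Submodule.torsionBy ℤ T.Pic (ℓ : ℤ)) ≤ ℓ ^ T.topGenus.toNat ∧
      T.topGenus ≤ T.genus := by
  classical
  by_cases hn : 1 < n
  · have hb := NTB.bound_768 hmin hg
    have hℓA : ∀ i j, T.a i j ≠ 0 → ¬ ((ℓ : ℤ) ∣ T.a i j) := fun i j hne hdvd => by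
      have h1 := Int.le_of_dvd (abs_pos.2 hne) ((dvd_abs _ _).2 hdvd)
      have h2 := hb i j
      nlinarith [T.m_pos i, abs_nonneg (T.a i j)]
    have hℓm : ∀ i, ¬ ((ℓ : ℤ) ∣ T.m i) := fun i hdvd => by
      have h1 := Int.le_of_dvd (T.m_pos i) hdvd
      have h2 := hb i i
      have h3 : 1 ≤ |T.a i i| := Int.one_le_abs (ne_of_lt (NT93.diag_neg (T := T) hn i))
      nlinarith [T.m_pos i]
    obtain ⟨hne, hfin, hc⟩ := finite_card_torsion_coker T.pos T.a T.m T.symm T.offDiag_nonneg T.mulVec_m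
      T.connected ℓ hℓ hℓA hℓm
    obtain ⟨f, hf, -⟩ := CAlg9.NT.pic_embeds T
    haveI := hfin
    obtain ⟨h1, h2⟩ := torsion_transfer f hf (ℓ : ℤ)
    refine ⟨h1, h2.trans (hc.trans (le_of_eq ?_)), CAlg9.NT.topGenus_le T hn hmin⟩
    congr 1
    simp only [Models.NumericalType.topGenus, Models.NumericalType.edgeCount]
    omega
  · obtain rfl : n = 1 := by have := T.pos; omega
    obtain ⟨e⟩ := pic_one T
    haveI hs : Subsingleton (Submodule.torsionBy ℤ T.Pic (ℓ : ℤ)) := ⟨fun x y => Subtype.ext (e.injective (by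
      have : ∀ t : Submodule.torsionBy ℤ T.Pic (ℓ : ℤ), e t.1 = 0 := fun t => by
        have h := congrArg e ((Submodule.mem_torsionBy_iff _ _).1 t.2)
        rw [map_zsmul, map_zero, smul_eq_mul] at h
        exact (mul_eq_zero.1 h).resolve_left (by exact_mod_cast hℓ.ne_zero)
      rw [this, this]))⟩
    refine ⟨inferInstance, ?_, ?_⟩
    · rw [Nat.card_of_subsingleton (0 : Submodule.torsionBy ℤ T.Pic (ℓ : ℤ))]
      exact Nat.one_le_pow _ _ hℓ.pos
    · have : T.edgeCount = 0 := by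
        simp only [Models.NumericalType.edgeCount, card_eq_zero, filter_eq_empty_iff]
        exact fun p _ h => (lt_irrefl p.1) (by rw [Subsingleton.elim p.2 p.1] at h; exact h.1)
      simp only [Models.NumericalType.topGenus, this]
      omega

theorem torsion_pic_le : ∀ {n : ℕ} (T : Models.NumericalType n) (ℓ : ℕ), 2 ≤ T.genus → ℓ.Prime →
    768 * T.genus < ℓ →
    Finite (Submodule.torsionBy ℤ T.Pic (ℓ : ℤ)) ∧
      Nat.card (Submodule.torsionBy ℤ T.Pic (ℓ : ℤ)) ≤ ℓ ^ T.genus.toNat := by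
  intro n
  induction n with
  | zero => exact fun T => absurd T.pos (lt_irrefl 0)
  | succ k ih =>
    intro T ℓ hg hℓ hℓg
    by_cases hmin : T.IsMinimal
    · obtain ⟨h1, h2, h3⟩ := torsion_minimal T hmin hg ℓ hℓ hℓg
      exact ⟨h1, h2.trans (Nat.pow_le_pow_right hℓ.pos (Int.toNat_le_toNat h3))⟩
    · obtain ⟨T', f, hg', hf⟩ := exists_pic_embedding T hmin
      obtain ⟨h1, h2⟩ := ih T' ℓ (by omega) hℓ (by omega)
      haveI := h1
      obtain ⟨h3, h4⟩ := torsion_transfer f hf (ℓ : ℤ)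
      exact ⟨h3, h4.trans (hg' ▸ h2)⟩

end Groth.Agent.ModPic.NTT
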