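import Groth.Agent.ModPic.Degree
import Mathlib.AlgebraicGeometry.Morphisms.Proper

/-!
Intersection numbers are divisible by the degree of the field of constants.
-/

set_option autoImplicit false
set_option backward.isDefEq.respectTransparency.types false
set_option linter.style.haveILetI false

noncomputable section

universe u

open CategoryTheory CategoryTheory.Limits AlgebraicGeometry TopologicalSpace Opposite
open Groth.Agent

namespace Groth.Agent.ModPic

/-- Cohomology of a module on a proper integral scheme is a vector space over the constants. -/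
theorem h0_dvd_finrank (k : Type u) [Field k] (T : Scheme.{u}) [T.Over (Spec (CommRingCat.of k))]
    [IsProper (T ↘ Spec (CommRingCat.of k))] [IsIntegral T] (M : T.Modules) (n : ℕ) :
    Module.finrank k (Coh.HH T (Coh.structureModule T) 0) ∣ Module.finrank k (Coh.HH T M n) := by
  let F : T.Modules := Coh.structureModule T
  let K : Type u := Coh.Γtop T
  have hK : IsField K := isField_of_universallyClosed k (T ↘ Spec (CommRingCat.of k))
  letI : Field (Coh.Γtop T) := hK.toField
  letI : Algebra k (Coh.Γtop T) := (Coh.toGlobal (T ↘ Spec (CommRingCat.of k))).toAlgebra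
  haveI : IsScalarTower k (Coh.Γtop T) (Coh.HH T M n) := IsScalarTower.of_algebraMap_smul fun a m => rfl
  let eO : Coh.HH T F 0 ≃ₗ[k] Coh.Γtop T :=
    { Crv77.sec F with map_smul' := fun a x => Crv77.sec_smul k F a x }
  rw [show Module.finrank k (Coh.HH T (Coh.structureModule T) 0) = Module.finrank k (Coh.Γtop T) from eO.finrank_eq]
  exact ⟨Module.finrank (Coh.Γtop T) (Coh.HH T M n), (Module.finrank_mul_finrank k (Coh.Γtop T) (Coh.HH T M n)).symm⟩

variable {R : Type u} [CommRing R] [IsDomain R] [IsDiscreteValuationRing R] {X : Scheme.{u}}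
  {p : X ⟶ Spec (CommRingCat.of R)} [IsProper p] {n : ℕ} {C : Fin n → ArSurf.VertComp R (Over.mk p)}

/-- The residue field. -/
local notation "κ" => IsLocalRing.ResidueField R

theorem wdeg_pos (i : Fin n) : 0 < Models.wdeg R (Over.mk p) (C i) := by
  haveI := isProper_curve (C i)
  haveI := (curveCoh (C i)).finite _ Crv77.isCoh_structureModule 0
  haveI : Nontrivial Γ((C i).curve.left, ⊤) :=
    letI := (isField_of_universallyClosed κ ((C i).curve.left ↘ Spec (CommRingCat.of κ))).toField
    inferInstance
  haveI : Nontrivial Γ(Coh.structureModule (C i).curve.left, ⊤) := ‹Nontrivial Γ((C i).curve.left, ⊤)›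
  haveI : Nontrivial (Coh.HH (C i).curve.left (Coh.structureModule (C i).curve.left) 0) :=
    (Crv77.sec (Coh.structureModule (C i).curve.left)).toEquiv.nontrivial
  exact Module.finrank_pos

theorem wdeg_dvd_euler (i : Fin n) {M : (C i).curve.left.Modules} (hM : Coh.IsCoh M) :
    (Models.wdeg R (Over.mk p) (C i) : ℤ) ∣ Curv2.euler κ (C i).curve.left M := by
  haveI := isProper_curve (C i)
  rw [(curveCoh (C i)).euler_eq hM]
  exact dvd_sub (Int.natCast_dvd_natCast.2 (h0_dvd_finrank κ _ M 0))
    (Int.natCast_dvd_natCast.2 (h0_dvd_finrank κ _ M 1))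

theorem wdeg_dvd_inter (i : Fin n) {M : X.Modules} (hM : PicF.IsInvertible M) :
    (Models.wdeg R (Over.mk p) (C i) : ℤ) ∣ ArSurf.inter R (Over.mk p) M (C i) := by
  haveI := isProper_curve (C i)
  haveI := Crv77.isNoetherian_of_proper κ (C i).curve.left
  rw [inter_eq_deg (C i) hM, Curv2.deg, Nat.cast_one, one_mul]
  exact dvd_sub (wdeg_dvd_euler i (Amp73.isCoh_of_isInvertible (Amp73.isInvertible_pullback _ hM)))
    (wdeg_dvd_euler i Crv77.isCoh_structureModule)

theorem wdeg_dvd_h1 (i : Fin n) : Models.wdeg R (Over.mk p) (C i) ∣ Models.h1 R (Over.mk p) (C i) := by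
  haveI := isProper_curve (C i)
  exact h0_dvd_finrank κ (C i).curve.left _ 1

end Groth.Agent.ModPic
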