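import Groth.Agent.ModPic.Genus
import Groth.Agent.ModPic.Wdvd
import Groth.Agent.CAlg9.NT.Genus

/-!
The numerical type of a regular model.
-/

set_option autoImplicit false
set_option backward.isDefEq.respectTransparency.types false
set_option linter.style.haveILetI false

noncomputable section

universe u

open CategoryTheory CategoryTheory.Limits AlgebraicGeometry TopologicalSpace Opposite
open Groth.Agent

namespace Groth.Agent.ModPic

variable {R : Type u} [CommRing R] [IsDomain R] [IsDiscreteValuationRing R] {X : Scheme.{u}}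
  {p : X ⟶ Spec (CommRingCat.of R)} [Flat p] [IsProper p] (hreg : Models.IsRegularScheme X)
  {n : ℕ} {C : Fin n → ArSurf.VertComp R (Over.mk p)}
  (hC : Models.IsComponentList R (Over.mk p) C) (L : Fin n → X.Modules)
  (hL : ∀ i, ClSub.IsInverseOf (L i) (ClSub.idealMod (cI (C i))))
  {Y : Scheme.{u}} {f : Y ⟶ Spec (CommRingCat.of (FractionRing R))} {g : Y ⟶ X}
  (hg : IsPullback g f p (Spec.map (CommRingCat.ofHom (algebraMap R (FractionRing R))))) (hH0 : IsIso f.appTop)
  (hYd : topologicalKrullDim Y ≤ 1) [Nonempty Y]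

include hreg hC hL hg hH0 hYd in
theorem exists_numericalType :
    ∃ T : Models.NumericalType n,
      (∀ i, T.m i = (Models.mult R (Over.mk p) (C i) : ℤ)) ∧
      (∀ i j, T.a i j = ArSurf.inter R (Over.mk p) (L j) (C i)) ∧
      (∀ i, T.w i = (Models.wdeg R (Over.mk p) (C i) : ℤ)) ∧
      (∀ i, T.w i * T.g i = (Models.h1 R (Over.mk p) (C i) : ℤ)) ∧
      T.genus = (Models.curveGenus (FractionRing R) Y f : ℤ) := by
  let a : Matrix (Fin n) (Fin n) ℤ := Matrix.of fun i j => ArSurf.inter R (Over.mk p) (L j) (C i)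
  let w : Fin n → ℕ := fun i => Models.wdeg R (Over.mk p) (C i)
  let gg : Fin n → ℕ := fun i => Models.h1 R (Over.mk p) (C i) / w i
  have hwg : ∀ i, (w i : ℤ) * (gg i : ℤ) = (Models.h1 R (Over.mk p) (C i) : ℤ) := fun i => by
    rw [← Nat.cast_mul, Nat.mul_div_cancel' (wdeg_dvd_h1 i)]
  have hrow : a.mulVec (fun i => (Models.mult R (Over.mk p) (C i) : ℤ)) = 0 := funext fun i => by
    simp only [Matrix.mulVec, dotProduct, a, Matrix.of_apply, Pi.zero_apply]
    rw [← sum_mult_inter hreg hC L hL i]
    exact Finset.sum_congr rfl fun j _ => by rw [inter_symm hC hreg L hL i j, mul_comm]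
  let T : Models.NumericalType n :=
    { m := fun i => (Models.mult R (Over.mk p) (C i) : ℤ)
      a := a
      w := fun i => (w i : ℤ)
      g := fun i => (gg i : ℤ)
      pos := pos_of_model hC hg
      m_pos := fun i => Int.natCast_pos.2 (mult_pos hreg hC i)
      w_pos := fun i => Int.natCast_pos.2 (wdeg_pos i)
      g_nonneg := fun i => Int.natCast_nonneg _
      symm := Matrix.IsSymm.ext fun i j => (inter_symm hC hreg L hL i j).symm
      offDiag_nonneg := fun i j hij => (inter_nonneg hC hreg L hL hij).1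
      connected := fun I hI hI' => exists_inter_ne_zero hreg hC L hL hg hH0 I hI hI'
      mulVec_m := hrow
      w_dvd := fun i j => wdeg_dvd_inter i (isInvertible_L hreg hC L hL j) }
  refine ⟨T, fun i => rfl, fun i j => rfl, fun i => rfl, hwg, ?_⟩
  have h2 := two_mul_genus hreg hC L hL hg hH0 hYd
  have hc := CAlg9.NT.sum_c T
  have e : ∀ i, CAlg9.NT.c T i = (Models.mult R (Over.mk p) (C i) : ℤ) *
      (2 * ((Models.h1 R (Over.mk p) (C i) : ℤ) - (Models.wdeg R (Over.mk p) (C i) : ℤ)) -
        ArSurf.inter R (Over.mk p) (L i) (C i)) := fun i => by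
    show (Models.mult R (Over.mk p) (C i) : ℤ) *
      (2 * (w i : ℤ) * ((gg i : ℤ) - 1) - ArSurf.inter R (Over.mk p) (L i) (C i)) = _
    rw [← hwg i]
    simp only [w]
    ring
  rw [Finset.sum_congr rfl fun i _ => e i] at hc
  omega

end Groth.Agent.ModPic
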