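import Groth.Agent.ModPic.Surf
import Groth.Agent.ModPic.HorizChart
import Groth.Agent.ArS10.FactorBlowUp
import Groth.Agent.Div89.RegStalk
import Groth.Agent.Unr55.SmoothStalkCor
import Groth.Agent.VarGal.SmoothReg
import Groth.Agent.IntMult12.DiagMult
import Groth.Agent.LimTop61.SteinFinite

/-!
Over a henselian base with algebraically closed residue field every component has a divisor meeting
the closed fibre in a single point of it, with intersection number one.
-/

set_option autoImplicit false
set_option backward.isDefEq.respectTransparency.types false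
set_option linter.style.haveILetI false

noncomputable section

universe u

open CategoryTheory CategoryTheory.Limits AlgebraicGeometry TopologicalSpace Opposite IsLocalRing
open Groth.Agent

namespace Groth.Agent.ModPic

/-- An open nonempty set of an integral curve over a perfect field contains a closed regular point. -/
theorem exists_regular_closed_point {k : Type u} [Field k] [PerfectField k] {T : Scheme.{u}} [IsIntegral T]
    (t : T ⟶ Spec (CommRingCat.of k)) [IsProper t] (W : T.Opens) (hW : genericPoint T ∈ W) :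
    ∃ c : T, c ∈ W ∧ IsClosed ({c} : Set T) ∧ IsRegularLocalRing (T.presheaf.stalk c) := by
  haveI : LocallyOfFinitePresentation t := inferInstance
  haveI := LocallyOfFiniteType.isLocallyNoetherian t
  haveI : JacobsonSpace T := LocallyOfFiniteType.jacobsonSpace t
  obtain ⟨c, ⟨hcW, hcS⟩, hc⟩ := nonempty_inter_closedPoints
    (Z := ((W ⊓ t.smoothLocus : T.Opens) : Set T))
    ⟨genericPoint T, hW, Scheme.Hom.genericPoint_mem_smoothLocus_of_perfectField t⟩
    (W ⊓ t.smoothLocus).2.isLocallyClosed
  exact ⟨c, hcW, hc, (Unr55.isRegularLocalRing_stalk_iff_of_smooth t c (Scheme.Hom.mem_smoothLocus.1 hcS)).2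
    (VarGal.isRegularLocalRing_stalk_spec_field k _)⟩

/-- The maximal ideal of a regular local ring of dimension at most one is principal. -/
theorem exists_maximalIdeal_eq_span {A : Type u} [CommRing A] [IsRegularLocalRing A] (h : ringKrullDim A ≤ 1) :
    ∃ t : A, maximalIdeal A = Ideal.span {t} := by
  have h1 : (maximalIdeal A).spanFinrank ≤ 1 := by
    have h2 := (IsRegularLocalRing.spanFinrank_maximalIdeal (R := A)).le.trans h
    exact_mod_cast h2
  have hfg : Submodule.FG (maximalIdeal A) := IsNoetherian.noetherian _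
  rw [← hfg.generators_ncard] at h1
  have hs := Submodule.span_generators (maximalIdeal A)
  rcases Nat.le_one_iff_eq_zero_or_eq_one.1 h1 with h3 | h3
  · refine ⟨0, ?_⟩
    rw [(Set.ncard_eq_zero hfg.finite_generators).1 h3] at hs
    simp only [Submodule.span_empty] at hs
    rw [← hs]
    simp
  · obtain ⟨a, ha⟩ := Set.ncard_eq_one.1 h3
    exact ⟨a, by rw [ha] at hs; exact hs.symm⟩

/-- A point with trivial maximal ideal in its local ring on an integral scheme is generic. -/
theorem eq_genericPoint_of_maximalIdeal_eq_bot {T : Scheme.{u}} [IsIntegral T] {c : T}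
    (h : maximalIdeal (T.presheaf.stalk c) = ⊥) : c = genericPoint T := by
  obtain ⟨q, hq⟩ : genericPoint T ∈ Set.range (T.fromSpecStalk c) :=
    T.range_fromSpecStalk.ge (genericPoint_specializes c)
  have : q = closedPoint (T.presheaf.stalk c) := PrimeSpectrum.ext (le_antisymm
    (le_maximalIdeal q.isPrime.ne_top) (show maximalIdeal (T.presheaf.stalk c) ≤ q.asIdeal by rw [h]; exact bot_le))
  rw [← hq, this, Scheme.fromSpecStalk_closedPoint]

/-- On a proper curve over an algebraically closed field a reduced point has one dimension of functions. -/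
theorem finrank_h0_point {k : Type u} [Field k] [IsAlgClosed k] {T : Scheme.{u}}
    [T.Over (Spec (CommRingCat.of k))] [IsProper (T ↘ Spec (CommRingCat.of k))] {c : T}
    (hc : IsClosed ({c} : Set T)) :
    Module.finrank k (Coh.HH T (ClSub.quotMod (Scheme.IdealSheafData.vanishingIdeal
      (⟨{c}, hc⟩ : Closeds T))) 0) = 1 := by
  let J := Scheme.IdealSheafData.vanishingIdeal (⟨{c}, hc⟩ : Closeds T)
  let Z := J.subscheme
  let z : Z ⟶ Spec (CommRingCat.of k) := J.subschemeι ≫ T ↘ Spec (CommRingCat.of k)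
  have hr : Set.range J.subschemeι.base = {c} := by
    rw [Scheme.IdealSheafData.range_subschemeι, Scheme.IdealSheafData.coe_support_vanishingIdeal]
    rfl
  haveI : Subsingleton Z := ⟨fun a b => J.subschemeι.isClosedEmbedding.injective (by
    have ha : J.subschemeι.base a ∈ ({c} : Set T) := hr ▸ Set.mem_range_self a
    have hb : J.subschemeι.base b ∈ ({c} : Set T) := hr ▸ Set.mem_range_self b
    rw [Set.mem_singleton_iff.1 ha, Set.mem_singleton_iff.1 hb])⟩
  haveI : Nonempty Z := by
    obtain ⟨a, -⟩ := hr.ge (Set.mem_singleton c)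
    exact ⟨a⟩
  haveI : IrreducibleSpace Z :=
    { isPreirreducible_univ := by
        rintro u v - - ⟨a, ha⟩ ⟨b, hb⟩
        exact ⟨a, trivial, ha.2, Subsingleton.elim b a ▸ hb.2⟩
      toNonempty := inferInstance }
  haveI : IsReduced Z := SchBasics.isReduced_vanishingIdeal_subscheme _
  haveI : IsIntegral Z := isIntegral_of_irreducibleSpace_of_isReduced Z
  let φ : k →+* Γ(Z, ⊤) := z.appTop.hom.comp (Scheme.ΓSpecIso (CommRingCat.of k)).inv.hom
  have hfin : φ.Finite := LimTop61.finite_appTop_of_isProper (CommRingCat.of k) z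
  letI : Field Γ(Z, ⊤) := (isField_of_universallyClosed k z).toField
  letI : Algebra k Γ(Z, ⊤) := φ.toAlgebra
  haveI : Module.Finite k Γ(Z, ⊤) := hfin
  have hbij : Function.Bijective (algebraMap k Γ(Z, ⊤)) := IsAlgClosed.algebraMap_bijective_of_isIntegral
  let F : T.Modules := ClSub.quotMod J
  let e : Coh.HH T F 0 ≃ₗ[k] Γ(Z, ⊤) :=
    { Crv77.sec F with
      map_smul' := fun a x => (Crv77.sec_smul k F a x).trans (Algebra.smul_def a (show Γ(Z, ⊤) from Crv77.sec F x)).symm }
  refine e.finrank_eq.trans ?_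
  exact ((LinearEquiv.ofBijective (Algebra.linearMap k Γ(Z, ⊤)) hbij).finrank_eq.symm.trans (Module.finrank_self k))

variable {R : Type u} [CommRing R] [IsDomain R] [IsDiscreteValuationRing R] [HenselianLocalRing R]
  [IsAlgClosed (IsLocalRing.ResidueField R)] {X : Scheme.{u}}
  {p : X ⟶ Spec (CommRingCat.of R)} (hX : ArS10.IsSurf R (Over.mk p))
  {n : ℕ} {C : Fin n → ArSurf.VertComp R (Over.mk p)}
  (hC : Models.IsComponentList R (Over.mk p) C)

include hX hC in
theorem exists_inter_eq_ite (i : Fin n) :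
    ∃ M : X.Modules, PicF.IsInvertible M ∧
      ∀ j : Fin n, ArSurf.inter R (Over.mk p) M (C j) = if j = i then 1 else 0 := by
  classical
  haveI : IsIntegral (Over.mk p).left := hX.2.1
  haveI : IsProper (Over.mk p).hom := hX.2.2.2.2
  haveI : Flat (Over.mk p).hom := hX.2.2.2.1
  let T := (C i).curve.left
  let ι : T ⟶ X := (C i).ι
  haveI := ArS10.isProper_over (C i)
  haveI := ArS10.isProper_curve (C i)
  haveI := ArS10.isNoetherian_curve (C i)
  -- the point
  have hother : IsClosed (⋃ j ∈ Finset.univ.erase i, cSet (C j)) :=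
    isClosed_biUnion_finset fun j _ => isClosed_cSet (C j)
  let W : T.Opens := ι ⁻¹ᵁ ⟨(⋃ j ∈ Finset.univ.erase i, cSet (C j))ᶜ, hother.isOpen_compl⟩
  have hWgen : genericPoint T ∈ W := by
    show cPt (C i) ∈ ((⋃ j ∈ Finset.univ.erase i, cSet (C j))ᶜ : Set X)
    simp only [Set.mem_compl_iff, Set.mem_iUnion, not_exists, Finset.mem_erase]
    exact fun j hj h => hj.1 ((cPt_mem_iff hC i j).1 h).symm
  obtain ⟨c₀, hc₀⟩ := ArS10.exists_specialization (C i)
  obtain ⟨c, hcW, hc, hcreg⟩ := exists_regular_closed_point ((C i).curve.hom) W hWgen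
  have hcgen : c ≠ genericPoint T := fun e => hc₀ (by
    have h3 : c₀ ∈ closure ({genericPoint T} : Set T) := (genericPoint_spec T).def.symm ▸ Set.mem_univ c₀
    rw [← e, hc.closure_eq] at h3
    exact (Set.mem_singleton_iff.1 h3).trans e)
  let x : X := ι.base c
  have hxcl : IsClosed ({x} : Set X) := by
    rw [← Set.image_singleton]
    exact ι.isClosedEmbedding.isClosedMap _ hc
  have hxs : x ∈ fSet p := cI_subset_fSet hC i ⟨c, rfl⟩
  have hxo : ∀ j, j ≠ i → x ∉ cSet (C j) := fun j hj h => hcW (by
    simp only [Finset.mem_erase, Finset.mem_univ, and_true]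
    exact Set.mem_iUnion₂.2 ⟨j, hj, h⟩)
  -- the equation
  obtain ⟨t, ht⟩ := exists_maximalIdeal_eq_span (A := T.presheaf.stalk c)
    ((Ega11.SchemeDimFormula.stalk_dim_le T c).trans (C i).dim_eq.le)
  obtain ⟨e, he⟩ := ι.stalkMap_surjective c t
  obtain ⟨U, hxU⟩ := Div89.exists_affine_mem x
  letI := TopCat.Presheaf.algebra_section_stalk X.presheaf (⟨x, hxU⟩ : U.1)
  haveI := U.2.isLocalization_stalk ⟨x, hxU⟩
  obtain ⟨⟨a, s⟩, has⟩ := IsLocalization.surj (U.2.primeIdealOf ⟨x, hxU⟩).asIdeal.primeCompl e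
  have hsu : IsUnit (X.presheaf.germ U.1 x hxU (s : Γ(X, U.1))) :=
    IsLocalization.map_units (X.presheaf.stalk x) s
  have hspan : Ideal.span {X.presheaf.germ U.1 x hxU a} = Ideal.span {e} := by
    rw [show X.presheaf.germ U.1 x hxU a = e * X.presheaf.germ U.1 x hxU (s : Γ(X, U.1)) from has.symm]
    exact Ideal.span_singleton_mul_right_unit hsu e
  have hgermT : Ideal.span {ι.stalkMap c (X.presheaf.germ U.1 x hxU a)} = maximalIdeal (T.presheaf.stalk c) := by
    rw [← Set.image_singleton, ← Ideal.map_span (ι.stalkMap c).hom, hspan, Ideal.map_span, Set.image_singleton,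
      ht, he]
  have hgerm : X.presheaf.germ U.1 x hxU a ∈ maximalIdeal (X.presheaf.stalk x) := by
    intro hu
    have h1 := Ideal.span_singleton_eq_top.2 (hu.map (ι.stalkMap c).hom)
    rw [hgermT] at h1
    exact (maximalIdeal.isMaximal _).ne_top h1
  have hax : x ∉ X.basicOpen a := fun h => hgerm ((X.mem_basicOpen a x hxU).1 h)
  have hamax : ∀ z, IsFibreMax p z → z ⤳ x → z ∈ X.basicOpen a := by
    intro z hz hzx
    obtain ⟨j, rfl⟩ := exists_component_of_fibreMax hC hz
    have hji : j = i := by
      by_contra hne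
      exact hxo j hne (hzx.mem_closed (isClosed_cSet (C j)) ⟨_, rfl⟩)
    subst hji
    by_contra hnot
    refine hcgen (eq_genericPoint_of_maximalIdeal_eq_bot ?_)
    have hb : T.basicOpen (ι.app U.1 a) = ⊥ := by
      by_contra hne
      obtain ⟨y, hy⟩ := (Opens.ne_bot_iff_nonempty _).1 hne
      have hgy := ((genericPoint_spec T).mem_open_set_iff (T.basicOpen (ι.app U.1 a)).2).2 ⟨y, trivial, hy⟩
      rw [← Scheme.preimage_basicOpen] at hgy
      exact hnot hgy
    haveI : Nonempty (ι ⁻¹ᵁ U.1 : T.Opens) := ⟨⟨c, hxU⟩⟩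
    have h0 := (basicOpen_eq_bot_iff _).1 hb
    rw [← hgermT, Scheme.Hom.germ_stalkMap_apply ι U.1 c hxU a, h0, map_zero, Ideal.span_singleton_eq_bot]
  -- the divisor
  obtain ⟨D, d, hd, hdc, -, hdint, hdst⟩ := exists_horizontal_of_equation (Over.mk p) hX.2.2.1 x hxcl hxs U.2
    hxU a hax hamax
  haveI := hd
  have hsupp : (d.ker.support : Set (Over.mk p).left) = Set.range d.base := by
    rw [Scheme.Hom.support_ker]
    exact d.isClosedEmbedding.isClosed_range.closure_eq
  have hmeet : ∀ y, y ∈ fSet p → y ∈ (d.ker.support : Set (Over.mk p).left) → y = x := fun y hy hy' => by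
    have : y ∈ Set.range d.base ∩ Models.specialFibreSet R (Over.mk p) := ⟨hsupp.le hy', hy⟩
    rwa [hdint] at this
  have hgenne : ∀ j, cPt (C j) ∉ (d.ker.support : Set (Over.mk p).left) := by
    intro j h
    have hj := hmeet _ (cI_subset_fSet hC j ⟨_, rfl⟩) h
    by_cases hji : j = i
    · subst hji
      exact hcgen (ι.isClosedEmbedding.injective hj.symm)
    · exact hxo j hji ⟨_, hj⟩
  obtain ⟨L, hLinv, hL⟩ := An92.InvMod.exists_inverse ((Curves2.isInvertible_idealMod_iff _).2 hdc)
  refine ⟨L, hLinv, fun j => ?_⟩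
  by_cases hji : j = i
  swap
  · rw [if_neg hji]
    refine (ArS10.inter_eq_zero_iff (C j) hdc (hgenne j) ⟨hL.some⟩).2 (Set.disjoint_left.2 fun y hy hy' => ?_)
    exact hxo j hji (hmeet y (cI_subset_fSet hC j hy) hy' ▸ hy)
  subst hji
  rw [if_pos rfl, ArS10.inter_eq_h0 (C j) hdc (hgenne j) ⟨hL.some⟩]
  have hcut : ArS10.cut (C j) d.ker = Scheme.IdealSheafData.vanishingIdeal (⟨{c}, hc⟩ : Closeds T) := by
    refine le_antisymm ((Div89.le_iff_stalkIdeal _ _).2 fun y => ?_) ((Div89.le_iff_stalkIdeal _ _).2 fun y => ?_)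
    all_goals by_cases hy : y = c
    · subst hy
      rw [ArS10.stalkIdeal_vanishing_point, Div89.stalkIdeal_comap, hdst, Ideal.map_span, Set.image_singleton]
      exact hgermT.le
    · rw [(Div89.notMem_support_iff_stalkIdeal (Scheme.IdealSheafData.vanishingIdeal (⟨{c}, hc⟩ : Closeds T)) y).1 (by
        rw [← SetLike.mem_coe, Scheme.IdealSheafData.coe_support_vanishingIdeal]; exact hy)]
      exact le_top
    · subst hy
      rw [ArS10.stalkIdeal_vanishing_point, Div89.stalkIdeal_comap, hdst, Ideal.map_span, Set.image_singleton]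
      exact hgermT.ge
    · rw [(Div89.notMem_support_iff_stalkIdeal (ArS10.cut (C j) d.ker) y).1 (by
        rw [Scheme.IdealSheafData.support_comap]
        intro h
        exact hy (ι.isClosedEmbedding.injective (hmeet (ι.base y) (cI_subset_fSet hC j ⟨y, rfl⟩) h)))]
      exact le_top
  rw [hcut, finrank_h0_point hc, Nat.cast_one]

end Groth.Agent.ModPic
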