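import Groth.Agent.ModPic.Lifting
import Groth.Agent.ModPic.PointDivisor
import Groth.Agent.Curves2.Ufd.Main
import Groth.Prelude.Def_PicGrp

/-!
The exact sequence of the Picard group of the generic fibre and the component group.
-/

set_option autoImplicit false
set_option backward.isDefEq.respectTransparency.types false
set_option linter.style.haveILetI false

noncomputable section

universe u

open CategoryTheory CategoryTheory.Limits AlgebraicGeometry TopologicalSpace Opposite
open Groth.Agent

namespace Groth.Agent.ModPic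

open scoped Groth.Agent.FGA29

variable {R : Type u} [CommRing R] [IsDomain R] [IsDiscreteValuationRing R] {X : Scheme.{u}}
  {p : X ⟶ Spec (CommRingCat.of R)} [Flat p] [IsProper p] (hreg : Models.IsRegularScheme X)
  {Y : Scheme.{u}} {f : Y ⟶ Spec (CommRingCat.of (FractionRing R))} {g : Y ⟶ X}
  (hg : IsPullback g f p (Spec.map (CommRingCat.ofHom (algebraMap R (FractionRing R)))))

omit [Flat p] in
include hreg hg in
/-- Every invertible module on the generic fibre extends. -/
theorem exists_pullback_iso {N : Y.Modules} (hN : PicF.IsInvertible N) :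
    ∃ M : X.Modules, PicF.IsInvertible M ∧ Nonempty ((Scheme.Modules.pullback g).obj M ≅ N) := by
  haveI := isNoetherian p
  obtain ⟨e, he⟩ := exists_iso_genOpen hg
  obtain ⟨M, hM, ⟨φ⟩⟩ := Curves2.Ufd.exists_extension (genOpen p)
    ((Scheme.Modules.pullback e.inv).obj N) (Amp73.isInvertible_pullback e.inv hN)
    fun x _ => (ufm_stalk hreg x).2
  refine ⟨M, hM, ⟨(Scheme.Modules.pullbackCongr he.symm).app M ≪≫
    ((Scheme.Modules.pullbackComp e.hom (genOpen p).ι).app M).symm ≪≫
    (Scheme.Modules.pullback e.hom).mapIso (((Scheme.Modules.restrictFunctorIsoPullback (genOpen p).ι).app M).symm ≪≫ φ) ≪≫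
    (Scheme.Modules.pullbackComp e.hom e.inv).app N ≪≫
    (Scheme.Modules.pullbackCongr e.hom_inv_id).app N ≪≫ (Scheme.Modules.pullbackId Y).app N⟩⟩

variable {n : ℕ} {C : Fin n → ArSurf.VertComp R (Over.mk p)}
  (hC : Models.IsComponentList R (Over.mk p) C) (L : Fin n → X.Modules)
  (hL : ∀ i, ClSub.IsInverseOf (L i) (ClSub.idealMod (cI (C i))))

/-- The matrix of intersection numbers. -/
abbrev interMat : Matrix (Fin n) (Fin n) ℤ :=
  Matrix.of fun j i => ArSurf.inter R (Over.mk p) (L i) (C j)

/-- The class of the degree vector. -/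
abbrev degCls (M : X.Modules) : (Fin n → ℤ) ⧸ LinearMap.range (Matrix.mulVecLin (interMat (C := C) L)) :=
  Submodule.Quotient.mk fun j => ArSurf.inter R (Over.mk p) M (C j)

include hreg hC hL hg in
theorem degCls_congr {M M' : X.Modules} (hM : PicF.IsInvertible M) (hM' : PicF.IsInvertible M')
    (h : Nonempty ((Scheme.Modules.pullback g).obj M ≅ (Scheme.Modules.pullback g).obj M')) :
    degCls (C := C) L M = degCls (C := C) L M' := by
  obtain ⟨a, ha⟩ := exists_diff hreg hC L hL hg hM hM' h
  refine (Submodule.Quotient.eq _).2 ⟨fun i => (a i : ℤ), funext fun j => ?_⟩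
  show ∑ i, ArSurf.inter R (Over.mk p) (L i) (C j) * (a i : ℤ) =
    ArSurf.inter R (Over.mk p) M (C j) - ArSurf.inter R (Over.mk p) M' (C j)
  rw [inter_of_cl_eq hreg hC L hL hM hM' a ha j, add_sub_cancel_left]
  exact Finset.sum_congr rfl fun i _ => mul_comm _ _

variable [PicGrp.Law X] [PicGrp.Law Y] (hgm : PicGrp.PullMul g)

include hreg hC hL hg in
theorem exists_degHom [IsIntegral Y] [HenselianLocalRing R] [IsAlgClosed (IsLocalRing.ResidueField R)] :
    ∃ ψ : Additive (PicLoc.PicSet Y) →+
        ((Fin n → ℤ) ⧸ LinearMap.range (Matrix.mulVecLin (interMat (C := C) L))),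
      (∀ (M : X.Modules) (hM : PicF.IsInvertible M),
          ψ (Additive.ofMul (PicGrp.pullHom g hgm (PicGrp.cls M hM))) = degCls (C := C) L M) ∧
        Function.Surjective ψ ∧
        (∀ c : PicLoc.PicSet Y, ψ (Additive.ofMul c) = 0 →
          ∃ (M : X.Modules) (hM : PicF.IsInvertible M),
            (∀ j, ArSurf.inter R (Over.mk p) M (C j) = 0) ∧ PicGrp.pullHom g hgm (PicGrp.cls M hM) = c) := by
  have hex : ∀ c : PicLoc.PicSet Y, ∃ (M : X.Modules) (hM : PicF.IsInvertible M),
      PicGrp.pullHom g hgm (PicGrp.cls M hM) = c := fun c => by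
    obtain ⟨N, hN, rfl⟩ := PicGrp.exists_eq_cls c
    obtain ⟨M, hM, ⟨φ⟩⟩ := exists_pullback_iso hreg hg hN
    exact ⟨M, hM, Subtype.ext (Quot.sound ⟨φ⟩)⟩
  choose M hM hMc using hex
  have key : ∀ (M' : X.Modules) (hM' : PicF.IsInvertible M'),
      degCls (C := C) L (M (PicGrp.pullHom g hgm (PicGrp.cls M' hM'))) = degCls (C := C) L M' := fun M' hM' =>
    degCls_congr hreg hg hC L hL (hM _) hM'
      ((PicGrp.cl_eq_cl_iff _ _).1 (congrArg Subtype.val (hMc (PicGrp.pullHom g hgm (PicGrp.cls M' hM')))))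
  have hadd : ∀ c d : PicLoc.PicSet Y,
      degCls (C := C) L (M (c * d)) = degCls (C := C) L (M c) + degCls (C := C) L (M d) := fun c d => by
    have hT := EGA73.isInvertible_tensorMod (hM c) (hM d)
    have hcls : PicGrp.cls (M c) (hM c) * PicGrp.cls (M d) (hM d) = PicGrp.cls (CohB1.tensorMod (M c) (M d)) hT :=
      Subtype.ext (PicGrp.cls_mul_cls_val (hM c) (hM d))
    have hcd : PicGrp.pullHom g hgm (PicGrp.cls (CohB1.tensorMod (M c) (M d)) hT) = c * d := by
      rw [← hcls, map_mul, hMc, hMc]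
    conv_lhs => rw [← hcd, key]
    simp only [degCls, ← Submodule.Quotient.mk_add]
    exact congrArg Submodule.Quotient.mk (funext fun j => inter_tensor (C j) (hM c) (hM d))
  let ψ : Additive (PicLoc.PicSet Y) →+
      ((Fin n → ℤ) ⧸ LinearMap.range (Matrix.mulVecLin (interMat (C := C) L))) :=
    AddMonoidHom.mk' (fun c => degCls (C := C) L (M (Additive.toMul c))) fun c d => hadd _ _
  refine ⟨ψ, key, ?_, ?_⟩
  · have hsingle : ∀ i, Submodule.Quotient.mk (Pi.single i (1 : ℤ)) ∈ ψ.range := fun i => by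
      obtain ⟨P, hP, hPi⟩ := exists_inter_eq_ite (isSurf_model hreg hg hC) hC i
      refine ⟨Additive.ofMul (PicGrp.pullHom g hgm (PicGrp.cls P hP)), (key P hP).trans ?_⟩
      exact congrArg Submodule.Quotient.mk (funext fun j => by rw [hPi, Pi.single_apply])
    intro y
    obtain ⟨w, rfl⟩ := Submodule.Quotient.mk_surjective _ y
    show Submodule.Quotient.mk w ∈ ψ.range
    rw [← Finset.univ_sum_single w, ← Submodule.mkQ_apply, map_sum]
    refine sum_mem fun i _ => ?_
    rw [show Pi.single i (w i) = w i • Pi.single (M := fun _ : Fin n => ℤ) i (1 : ℤ) from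
      funext fun j => by simp [Pi.single_apply], map_zsmul]
    exact zsmul_mem (hsingle i) _
  · intro c hc
    obtain ⟨v, hv⟩ := (Submodule.Quotient.mk_eq_zero _).1 hc
    obtain ⟨M', hM', ⟨φ⟩, hdeg⟩ := exists_lift_degree_zero hreg hC L hL hg (hM c) v fun j => (congrFun hv j).symm
    refine ⟨M', hM', hdeg, ?_⟩
    rw [← hMc c]
    exact Subtype.ext (Quot.sound ⟨φ⟩)

include hreg hC hL hg in
/-- A class of degree zero on every component which is trivial on the generic fibre is trivial. -/
theorem cls_eq_one_of_degree_zero [Nonempty Y] (hH0 : IsIso f.appTop)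
    (hgcd : Models.multGcd R (Over.mk p) C = 1) (M : X.Modules) (hM : PicF.IsInvertible M)
    (hdeg : ∀ j, ArSurf.inter R (Over.mk p) M (C j) = 0)
    (htriv : PicGrp.pullHom g hgm (PicGrp.cls M hM) = 1) : PicGrp.cls M hM = 1 := by
  have h := cl_pow_multGcd_eq_one hreg hC L hL hg hH0 hM
    ((PicGrp.cl_eq_cl_iff _ _).1 ((congrArg Subtype.val htriv).trans PicGrp.one_val)) hdeg
  rw [hgcd, pow_one] at h
  exact Subtype.ext (h.trans (FGA29.cl_one.symm.trans PicGrp.one_val.symm))

end Groth.Agent.ModPic
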