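import Groth.Agent.ModPic.FibreGor
import Mathlib.RingTheory.DiscreteValuationRing.Basic

/-!
The uniformiser at a maximal point of a reduced special fibre.
-/

set_option autoImplicit false
set_option backward.isDefEq.respectTransparency.types false
set_option linter.style.haveILetI false

noncomputable section

universe u

open CategoryTheory CategoryTheory.Limits AlgebraicGeometry TopologicalSpace Opposite
open Groth.Agent

namespace Groth.Agent.ModPic

variable {R : Type u} [CommRing R] [IsDomain R] [IsDiscreteValuationRing R] {X : Scheme.{u}}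
  {p : X ⟶ Spec (CommRingCat.of R)} [Flat p]

theorem span_eq_maximalIdeal_of_reduced {Xs : Scheme.{u}} (gs : Xs ⟶ X)
    (fs : Xs ⟶ Spec (CommRingCat.of (IsLocalRing.ResidueField R)))
    (hs : IsPullback gs fs p (Spec.map (CommRingCat.ofHom (IsLocalRing.residue R)))) [IsReduced Xs] (ξ : Xs)
    {B : Type u} [CommRing B] [IsDomain B] [IsDiscreteValuationRing B]
    (e : X.presheaf.stalk (gs.base ξ) ≅ CommRingCat.of B) :
    IsLocalRing.maximalIdeal B = Ideal.span {e.hom.hom (X.presheaf.germ ⊤ (gs.base ξ) trivial (piG p))} := by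
  let res := Spec.map (CommRingCat.ofHom (algebraMap R (IsLocalRing.ResidueField R)))
  let ε : Xs ≅ Models.specialFibre R X p := hs.isoPullback
  haveI : IsReduced (Models.specialFibre R X p) := isReduced_of_isOpenImmersion ε.inv
  let z := ε.hom.base ξ
  have hzx : (pullback.fst p res).base z = gs.base ξ :=
    congrArg (fun φ : Xs ⟶ X => φ.base ξ) hs.isoPullback_hom_fst
  let t := e.hom.hom (X.presheaf.germ ⊤ (gs.base ξ) trivial (piG p))
  haveI : _root_.IsReduced (B ⧸ Ideal.span {t}) := by
    obtain ⟨e'⟩ := nonempty_stalk_specialFibre_equiv (p := p) z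
    have hz : (X.presheaf.stalkCongr (.of_eq hzx.symm)).hom.hom (X.presheaf.germ ⊤ (gs.base ξ) trivial (piG p)) =
        X.presheaf.germ ⊤ ((pullback.fst p res).base z) trivial (piG p) := by
      have key : ∀ (a b : X) (h : a = b),
          (X.presheaf.stalkCongr (.of_eq h)).hom.hom (X.presheaf.germ ⊤ a trivial (piG p)) =
            X.presheaf.germ ⊤ b trivial (piG p) := by
        rintro a b rfl
        simp
      exact key _ _ hzx.symm
    let σ : X.presheaf.stalk (gs.base ξ) ≃+* X.presheaf.stalk ((pullback.fst p res).base z) :=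
      (X.presheaf.stalkCongr (.of_eq hzx.symm)).commRingCatIsoToRingEquiv
    let q : (B ⧸ Ideal.span {t}) ≃+* (Models.specialFibre R X p).presheaf.stalk z :=
      ((Ideal.quotientEquiv _ _ e.commRingCatIsoToRingEquiv (by
          rw [Ideal.map_span, Set.image_singleton]; rfl)).symm.trans
        (Ideal.quotientEquiv _ _ σ (by
          rw [Ideal.map_span, Set.image_singleton]; exact congrArg (fun a => Ideal.span {a}) hz.symm))).trans e'
    exact isReduced_of_injective q q.injective
  have hloc : (t : B) ∈ IsLocalRing.maximalIdeal B := by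
    have hxc : p.base (gs.base ξ) = IsLocalRing.closedPoint R := hzx ▸ mem_specialFibre_image z
    obtain ⟨h1, -, -⟩ := LimTop61.exists_uniformizer_stalk p (irreducible_unif R) (gs.base ξ) hxc
    rw [IsLocalRing.mem_maximalIdeal, mem_nonunits_iff] at h1 ⊢
    exact fun hu => h1 ((MulEquiv.isUnit_map e.commRingCatIsoToRingEquiv).1 hu)
  refine le_antisymm (fun x hx => ?_) (Ideal.span_singleton_le_iff_mem _ |>.2 hloc)
  have hne : t ≠ 0 := by
    have hxc : p.base (gs.base ξ) = IsLocalRing.closedPoint R := hzx ▸ mem_specialFibre_image z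
    obtain ⟨-, h2, -⟩ := LimTop61.exists_uniformizer_stalk p (irreducible_unif R) (gs.base ξ) hxc
    intro h0
    haveI : Nontrivial (X.presheaf.stalk (gs.base ξ)) := inferInstance
    exact nonZeroDivisors.ne_zero h2 (e.commRingCatIsoToRingEquiv.injective (h0.trans (map_zero _).symm))
  obtain ⟨ϖ, hϖ⟩ := IsDiscreteValuationRing.exists_irreducible B
  obtain ⟨k, v, hk⟩ := IsDiscreteValuationRing.eq_unit_mul_pow_irreducible hne hϖ
  have hk0 : k ≠ 0 := fun h => (IsLocalRing.mem_maximalIdeal t).1 hloc (by rw [hk, h, pow_zero, mul_one]; exact v.isUnit)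
  have hmem : ϖ ∈ Ideal.span {t} := by
    rw [← Ideal.Quotient.eq_zero_iff_mem]
    refine IsReduced.eq_zero _ ⟨k, ?_⟩
    rw [← map_pow, Ideal.Quotient.eq_zero_iff_mem, Ideal.mem_span_singleton]
    exact ⟨(v⁻¹ : Bˣ), by rw [hk, mul_right_comm, Units.mul_inv, one_mul]⟩
  rw [hϖ.maximalIdeal_eq, Ideal.mem_span_singleton] at hx
  obtain ⟨c, rfl⟩ := hx
  exact Ideal.mul_mem_right c _ hmem

end Groth.Agent.ModPic
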