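import Groth.Agent.ModPic.Twists

/-!
Torsion in the kernel of restriction to the generic fibre.
-/

set_option autoImplicit false
set_option backward.isDefEq.respectTransparency.types false
set_option linter.style.haveILetI false

noncomputable section

universe u

open CategoryTheory CategoryTheory.Limits AlgebraicGeometry TopologicalSpace

namespace Groth.Agent.ModPic

/-- A multiple relation `h a = c m` makes `a` a multiple of `m / gcd (h, gcd m)`. -/
theorem exists_mul_of_relation {n : ℕ} (m a : Fin n → ℕ) {h : ℕ} (hh : 0 < h) (c : ℤ)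
    (hrel : ∀ i, (h : ℤ) * a i = c * m i) :
    ∃ k₀ : ℤ, ∀ i, (a i : ℤ) = k₀ * ((m i / Nat.gcd h (Finset.univ.gcd m) : ℕ) : ℤ) := by
  let e := Nat.gcd h (Finset.univ.gcd m)
  have he : 0 < e := Nat.gcd_pos_of_pos_left _ hh
  obtain ⟨h', hh'⟩ : e ∣ h := Nat.gcd_dvd_left _ _
  have hm : ∀ i, e ∣ m i := fun i => (Nat.gcd_dvd_right _ _).trans (Finset.gcd_dvd (Finset.mem_univ i))
  -- the cofactor of h divides c
  have hdvd : (h' : ℤ) ∣ c := by
    have h1 : ∀ i, h ∣ c.natAbs * m i := fun i => by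
      have := congrArg Int.natAbs (hrel i)
      rw [Int.natAbs_mul, Int.natAbs_mul, Int.natAbs_natCast, Int.natAbs_natCast, Int.natAbs_natCast] at this
      exact this ▸ dvd_mul_right _ _
    have h2 : h ∣ c.natAbs * Finset.univ.gcd m := by
      have := Finset.dvd_gcd (s := Finset.univ) (f := fun i => c.natAbs * m i) fun i _ => h1 i
      rwa [Finset.gcd_mul_left, normalize_eq] at this
    obtain ⟨d', hd'⟩ : e ∣ Finset.univ.gcd m := Nat.gcd_dvd_right _ _
    have hcop : Nat.Coprime h' d' := by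
      have h3 : e = Nat.gcd (e * h') (e * d') := by rw [← hh', ← hd']
      rw [Nat.gcd_mul_left] at h3
      exact Nat.eq_of_mul_eq_mul_left he (by rw [mul_one]; exact h3.symm)
    rw [hh', hd', mul_left_comm] at h2
    exact Int.natCast_dvd.2 (hcop.dvd_of_dvd_mul_right (Nat.dvd_of_mul_dvd_mul_left he h2))
  obtain ⟨k₀, hk₀⟩ := hdvd
  refine ⟨k₀, fun i => ?_⟩
  obtain ⟨m', hm'⟩ := hm i
  have hh0 : h' ≠ 0 := fun h0 => hh.ne' (by rw [hh', h0, mul_zero])
  have := hrel i
  show (a i : ℤ) = k₀ * ((m i / e : ℕ) : ℤ)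
  rw [hm', Nat.mul_div_cancel_left _ he]
  rw [hh', hm', hk₀] at this
  push_cast at this
  refine mul_left_cancel₀ (show ((e : ℤ) * h') ≠ 0 from mul_ne_zero (by exact_mod_cast he.ne') (by exact_mod_cast hh0)) ?_
  linear_combination this

open scoped Groth.Agent.FGA29

variable {X : Scheme.{u}} {R : Type u} [CommRing R] [IsDomain R] [IsDiscreteValuationRing R]
  {p : X ⟶ Spec (CommRingCat.of R)} [Flat p] [LocallyOfFiniteType p] [QuasiCompact p]
  (hreg : Models.IsRegularScheme X) {n : ℕ} {C : Fin n → ArSurf.VertComp R (Over.mk p)}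
  (hC : Models.IsComponentList R (Over.mk p) C) (L : Fin n → X.Modules)
  (hL : ∀ i, ClSub.IsInverseOf (L i) (ClSub.idealMod (cI (C i))))
  {Y : Scheme.{u}} {f : Y ⟶ Spec (CommRingCat.of (FractionRing R))} {g : Y ⟶ X}
  (hg : IsPullback g f p (Spec.map (CommRingCat.ofHom (algebraMap R (FractionRing R)))))
  (hH0 : IsIso f.appTop)

include hreg hC hL hg hH0 in
theorem exists_kernel_generator {M : X.Modules} (hM : PicF.IsInvertible M) {h : ℕ} (hh : 0 < h)
    (htors : Nonempty (CohB1.tensorPow M h ≅ Coh.structureModule X))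
    (htriv : Nonempty ((Scheme.Modules.pullback g).obj M ≅ Coh.structureModule Y)) :
    ∃ k : ℕ, k < Nat.gcd h (Models.multGcd R (Over.mk p) C) ∧ PicF.cl M =
      ∏ i, PicF.cl (L i) ^ (k * (Models.mult R (Over.mk p) (C i) / Nat.gcd h (Models.multGcd R (Over.mk p) C))) := by
  obtain ⟨a, ha⟩ := exists_cl_eq_prod hreg hC L hL hg hM htriv
  have h1 : ∏ i, PicF.cl (L i) ^ (a i * h) = ∏ i, PicF.cl (L i) ^ (0 : ℕ) := by
    simp only [pow_mul, Finset.prod_pow, ← ha, pow_zero, Finset.prod_const_one]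
    rw [← FGA29.cl_tensorPow]
    exact Quot.sound htors
  obtain ⟨c, hc⟩ := (prod_eq_iff hreg hC L hL hg hH0 _ _).1 h1
  obtain ⟨k₀, hk₀⟩ := exists_mul_of_relation (fun i => Models.mult R (Over.mk p) (C i)) a hh c fun i => by
    have := hc i
    push_cast at this
    linear_combination this
  let e := Nat.gcd h (Models.multGcd R (Over.mk p) C)
  have he : (0 : ℤ) < e := by exact_mod_cast Nat.gcd_pos_of_pos_left _ hh
  have hk1 : ((k₀ % (e : ℤ)).toNat : ℤ) = k₀ % e := Int.toNat_of_nonneg (Int.emod_nonneg _ he.ne')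
  refine ⟨(k₀ % (e : ℤ)).toNat, by zify; rw [hk1]; exact Int.emod_lt_of_pos _ he, ha.trans ?_⟩
  refine prod_eq_of_int hreg hC L hL _ _ (k₀ / e) fun i => ?_
  obtain ⟨m', hm'⟩ : e ∣ Models.mult R (Over.mk p) (C i) :=
    (Nat.gcd_dvd_right _ _).trans (Finset.gcd_dvd (Finset.mem_univ i))
  have hq : Models.mult R (Over.mk p) (C i) / e = m' := by
    rw [hm', Nat.mul_div_cancel_left _ (by exact_mod_cast he)]
  have hak := hk₀ i
  change (a i : ℤ) = k₀ * ((Models.mult R (Over.mk p) (C i) / e : ℕ) : ℤ) at hak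
  show (a i : ℤ) - (((k₀ % (e : ℤ)).toNat * (Models.mult R (Over.mk p) (C i) / e) : ℕ) : ℤ) = _
  rw [hq] at hak ⊢
  rw [hm']
  push_cast
  rw [hk1, hak, Int.emod_def]
  ring

include hreg hC hL hg hH0 in
theorem kernel_generator_unique (hn : 0 < n) {k k' e : ℕ} (he : ∀ i, e ∣ Models.mult R (Over.mk p) (C i))
    (hk : k < e) (hk' : k' < e)
    (h : ∏ i, PicF.cl (L i) ^ (k * (Models.mult R (Over.mk p) (C i) / e)) =
      ∏ i, PicF.cl (L i) ^ (k' * (Models.mult R (Over.mk p) (C i) / e))) : k = k' := by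
  obtain ⟨c, hc⟩ := (prod_eq_iff hreg hC L hL hg hH0 _ _).1 h
  obtain ⟨m', hm'⟩ := he ⟨0, hn⟩
  have h1 := hc ⟨0, hn⟩
  have hm0 := mult_pos hreg hC (⟨0, hn⟩ : Fin n)
  rw [hm'] at h1 hm0
  rw [Nat.mul_div_cancel_left _ (Nat.pos_of_mul_pos_right hm0)] at h1
  have hm0' : (m' : ℤ) ≠ 0 := by exact_mod_cast (Nat.pos_of_mul_pos_left hm0).ne'
  have h2 : (k : ℤ) - k' = c * e := mul_right_cancel₀ hm0' (by push_cast at h1; linear_combination h1)
  have h3 : |c * (e : ℤ)| < e := by rw [← h2, abs_lt]; omega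
  rw [abs_mul, Int.natCast_nonneg e |> abs_of_nonneg] at h3
  have : |c| < 1 := (mul_lt_iff_lt_one_left (by omega)).1 h3
  rw [abs_lt] at this
  have : c = 0 := by omega
  rw [this, zero_mul] at h2
  omega

omit [Flat p] [LocallyOfFiniteType p] [QuasiCompact p] in
include hg in
theorem fSet_nonempty [IsProper p] [Nonempty Y] : (fSet p).Nonempty := by
  obtain ⟨y⟩ := (inferInstance : Nonempty Y)
  have hcl : IsClosed (p.base '' closure {g.base y}) := p.isClosedMap _ isClosed_closure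
  have hs : p.base (g.base y) ⤳ IsLocalRing.closedPoint R :=
    IsLocalRing.specializes_closedPoint (R := R) (p.base (g.base y))
  obtain ⟨x, -, hx⟩ := hs.mem_closed hcl ⟨_, subset_closure rfl, rfl⟩
  exact ⟨x, hx⟩

include hC hg in
theorem pos_of_model [IsProper p] [Nonempty Y] : 0 < n := by
  obtain ⟨x, hx⟩ := fSet_nonempty hg
  obtain ⟨i, -⟩ := exists_mem_component hC hx
  exact i.pos

end Groth.Agent.ModPic
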