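import Groth.Agent.ModPic.Kernel
import Groth.Agent.ModPic.Torsion
import Groth.Agent.ModPic.EulerLen
import Groth.Agent.ModPic.FibreGor
import Groth.Agent.ArS10.Comp
import Groth.Agent.Ega11.SchemeDimFormula
import Groth.Agent.E4O.RectDepth

/-!
A regular proper model of an integral curve is a regular integral surface.
-/

set_option autoImplicit false
set_option backward.isDefEq.respectTransparency.types false
set_option linter.style.haveILetI false

noncomputable section

universe u

open CategoryTheory CategoryTheory.Limits AlgebraicGeometry TopologicalSpace Opposite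
open Groth.Agent

namespace Groth.Agent.ModPic

variable {R : Type u} [CommRing R] [IsDomain R] [IsDiscreteValuationRing R] {X : Scheme.{u}}
  {p : X ⟶ Spec (CommRingCat.of R)} [Flat p] [IsProper p] (hreg : Models.IsRegularScheme X)
  {Y : Scheme.{u}} {f : Y ⟶ Spec (CommRingCat.of (FractionRing R))} {g : Y ⟶ X}
  (hg : IsPullback g f p (Spec.map (CommRingCat.ofHom (algebraMap R (FractionRing R)))))

omit [IsProper p] in
include hreg hg in
theorem isIntegral_model [IsIntegral Y] : IsIntegral X := by
  haveI : ∀ x : X, IsDomain (X.presheaf.stalk x) := isDomain_stalk hreg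
  haveI : IsReduced X := isReduced_of_isReduced_stalk X
  obtain ⟨e, he⟩ := exists_iso_genOpen hg
  let η : X := g.base (genericPoint Y)
  have hgen : ∀ x : X, η ⤳ x := fun x => by
    obtain ⟨z, hz, hzx⟩ := exists_genOpen_specializes (p := p) hreg x
    have hy : (e.inv ≫ g).base (⟨z, hz⟩ : (genOpen p).toScheme) = z := by
      rw [← he, e.inv_hom_id_assoc]
      rfl
    refine Specializes.trans ?_ hzx
    rw [← hy, Scheme.Hom.comp_apply]
    exact (genericPoint_specializes _).map g.continuous
  haveI : IrreducibleSpace X :=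
    { isPreirreducible_univ := by
        rintro u v hu hv ⟨a, -, ha⟩ ⟨b, -, hb⟩
        exact ⟨η, trivial, (hgen a).mem_open hu ha, (hgen b).mem_open hv hb⟩
      toNonempty := ⟨η⟩ }
  exact isIntegral_of_irreducibleSpace_of_isReduced X

variable {n : ℕ} {C : Fin n → ArSurf.VertComp R (Over.mk p)}
  (hC : Models.IsComponentList R (Over.mk p) C)

include hC in
theorem dim_specialFibre_le : topologicalKrullDim (Models.specialFibre R X p) ≤ 1 := by
  haveI hc : IsClosedImmersion (Spec.map (CommRingCat.ofHom (algebraMap R (IsLocalRing.ResidueField R)))) :=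
    IsClosedImmersion.spec_of_surjective _ IsLocalRing.residue_surjective
  let i := Limits.pullback.fst p (Spec.map (CommRingCat.ofHom (algebraMap R (IsLocalRing.ResidueField R))))
  haveI : IsClosedImmersion i := MorphismProperty.pullback_fst _ _ hc
  have h := dim_le_one_of_fibre hC i (by
    rintro _ ⟨z, rfl⟩
    exact mem_specialFibre_image z)
  exact h

omit [Flat p] in
/-- Every point specialises to a point of the special fibre. -/
theorem exists_mem_fSet_specializes (x : X) : ∃ x₀ ∈ fSet p, x ⤳ x₀ := by
  have hcl : IsClosed (p.base '' closure {x}) := p.isClosedMap _ isClosed_closure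
  obtain ⟨y, hy, hyc⟩ := (IsLocalRing.specializes_closedPoint (p.base x)).mem_closed hcl
    ⟨x, subset_closure rfl, rfl⟩
  exact ⟨y, hyc, specializes_iff_mem_closure.2 hy⟩

include hC in
theorem dim_stalk_le_two (x₁ : X) : ringKrullDim (X.presheaf.stalk x₁) ≤ 2 := by
  haveI := isNoetherian p
  obtain ⟨x, hx, hsp⟩ := exists_mem_fSet_specializes (p := p) x₁
  have hmono : ringKrullDim (X.presheaf.stalk x₁) ≤ ringKrullDim (X.presheaf.stalk x) := by
    rw [← E4O.topologicalKrullDim_generizations, ← E4O.topologicalKrullDim_generizations]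
    exact (Topology.IsEmbedding.inclusion (s := {t : X | t ⤳ x₁}) (t := {t : X | t ⤳ x})
      fun t ht => (show t ⤳ x₁ from ht).trans hsp).isInducing.topologicalKrullDim_le
  refine hmono.trans ?_
  obtain ⟨z, rfl⟩ : x ∈ Set.range (Limits.pullback.fst p (Spec.map (CommRingCat.ofHom
      (algebraMap R (IsLocalRing.ResidueField R))))).base := by
    rw [Scheme.Pullback.range_fst]
    exact ⟨⟨⊥, Ideal.isPrime_bot⟩, (Eq.trans (PrimeSpectrum.ext (by
      show Ideal.comap (IsLocalRing.residue R) ⊥ = _
      rw [← RingHom.ker_eq_comap_bot, IsLocalRing.ker_residue]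
      rfl)) hx.symm)⟩
  obtain ⟨e⟩ := nonempty_stalk_specialFibre_equiv (p := p) z
  obtain ⟨h1, h2, -⟩ := LimTop61.exists_uniformizer_stalk p (irreducible_unif R) _ (mem_specialFibre_image z)
  let A := X.presheaf.stalk ((Limits.pullback.fst p (Spec.map (CommRingCat.ofHom
      (algebraMap R (IsLocalRing.ResidueField R))))).base z)
  let a : A := X.presheaf.germ ⊤ _ trivial (piG p)
  have hj : a ∈ Ring.jacobson A := by
    rw [IsLocalRing.ringJacobson_eq_maximalIdeal]
    exact h1
  have hle := ringKrullDim_le_ringKrullDim_quotient_add_encard ({a} : Set A)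
    (Set.singleton_subset_iff.2 hj)
  rw [Set.encard_singleton, ringKrullDim_eq_of_ringEquiv e] at hle
  refine hle.trans ?_
  calc ringKrullDim ((Models.specialFibre R X p).presheaf.stalk z) + ((1 : ℕ∞) : WithBot ℕ∞)
      ≤ 1 + 1 := add_le_add ((Ega11.SchemeDimFormula.stalk_dim_le _ z).trans (dim_specialFibre_le hC)) le_rfl
    _ = 2 := one_add_one_eq_two

omit [Flat p] in
include hg in
/-- The generic fibre has dimension at most one. -/
theorem dim_generic_le (h : topologicalKrullDim X ≤ 2) : topologicalKrullDim Y ≤ 1 := by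
  obtain ⟨e, he⟩ := exists_iso_genOpen hg
  haveI : IsOpenImmersion g := by rw [← he]; infer_instance
  have hgF : ∀ y, g.base y ∉ fSet p := fun y => (mem_genOpen_iff (p := p)).1 (by
    rw [← he]
    exact (e.hom.base y).2)
  refine iSup_le fun s => ?_
  let m := s.map _ (IrreducibleCloseds.map_strictMono_of_isInducing g.isOpenEmbedding.isInducing)
  obtain ⟨y, hy⟩ := s.head.isIrreducible'.nonempty
  obtain ⟨x₀, hx₀, hsp⟩ := exists_mem_fSet_specializes (p := p) (g.base y)
  let q : IrreducibleCloseds X := ⟨closure {x₀}, isIrreducible_singleton.closure, isClosed_closure⟩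
  have hmem : g.base y ∈ (m.head : Set X) := subset_closure (Set.mem_image_of_mem _ hy)
  have hlt : q < m.head := by
    refine lt_of_le_of_ne (closure_minimal (Set.singleton_subset_iff.2 (hsp.mem_closed m.head.isClosed' hmem))
      m.head.isClosed') fun eq => ?_
    have h1 : g.base y ∈ (q : Set X) := eq.symm ▸ hmem
    exact hgF y (closure_minimal (Set.singleton_subset_iff.2 hx₀) (isClosed_fSet p) h1)
  have h3 : ((s.length + 1 : ℕ) : WithBot ℕ∞) ≤ topologicalKrullDim X := by
    rw [show s.length + 1 = (m.cons q hlt).length by simp [m]]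
    exact Order.LTSeries.length_le_krullDim (m.cons q hlt)
  have : s.length + 1 ≤ 2 := by exact_mod_cast h3.trans h
  exact_mod_cast (show s.length ≤ 1 by omega)

include hreg hg hC in
theorem isSurf_model [IsIntegral Y] :
    ArS10.IsSurf R (Over.mk p) := by
  haveI hint := isIntegral_model hreg hg
  refine ⟨hreg, hint, le_antisymm ?_ ?_, ‹Flat p›, ‹IsProper p›⟩
  · exact Ega11.SchemeDimFormula.dim_le_of_stalk X (dim_stalk_le_two hC)
  · haveI : IsIntegral (Over.mk p).left := hint
    haveI : Flat (Over.mk p).hom := ‹Flat p›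
    let i : Fin n := ⟨0, pos_of_model hC hg⟩
    obtain ⟨c, hc⟩ := ArS10.exists_specialization (C i)
    have h1 : cPt (C i) ⤳ (C i).ι.base c := (genericPoint_specializes c).map (C i).ι.continuous
    have h1' : (C i).ι.base c ≠ cPt (C i) := fun e => hc ((C i).ι.isClosedEmbedding.injective e)
    have h2 : cPt (C i) ≠ genericPoint X := fun e =>
      ArS10.genericPoint_notMem_fibre (X := Over.mk p) (e ▸ (isFibreMax_cPt hC i).1)
    let q : X → IrreducibleCloseds X := fun x =>
      ⟨closure {x}, isIrreducible_singleton.closure, isClosed_closure⟩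
    let s : LTSeries (IrreducibleCloseds X) :=
      ((RelSeries.singleton _ (q ((C i).ι.base c))).snoc (q (cPt (C i))) (ArS10.closure_lt h1 h1')).snoc
        (q (genericPoint X)) (by rw [RelSeries.last_snoc]; exact ArS10.closure_lt (genericPoint_specializes _) h2)
    exact Order.LTSeries.length_le_krullDim s

end Groth.Agent.ModPic
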