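import Groth.Agent.ModPic.Inject

/-!
Combinations of components in the Picard group of a regular model.
-/

set_option autoImplicit false
set_option backward.isDefEq.respectTransparency.types false
set_option linter.style.haveILetI false

noncomputable section

universe u

open CategoryTheory CategoryTheory.Limits AlgebraicGeometry TopologicalSpace Opposite
open Groth.Agent Groth.Agent.Var76.LineBundle

namespace Groth.Agent.ModPic

open scoped Groth.Agent.FGA29

variable {X : Scheme.{u}}

theorem cl_eq_one_of_frame_top {M : X.Modules} (e : Γ(M, ⊤)) (he : IsFrame M ⊤ e) : PicF.cl M = 1 := by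
  haveI : IsIso (Var76.Frames.ofSection M e) := Amp73.isIso_of_frames _ fun x =>
    ⟨⊤, ((1 : Γ(X, ⊤)) : Γ(Coh.structureModule X, ⊤)), trivial, Amp73.isFrame_one ⊤, by
      have h : (Var76.Frames.ofSection M e).app ⊤ ((1 : Γ(X, ⊤)) : Γ(Coh.structureModule X, ⊤)) = e := by
        rw [Amp73.app_eq_smul_val, Var76.Frames.val_ofSection, one_smul, Amp73.res_self]
      rw [h]; exact he⟩
  exact (Quot.sound ⟨asIso (Var76.Frames.ofSection M e)⟩).symm

theorem isInvertible_of_inverse {L : X.Modules} {I : X.IdealSheafData} (hI : BlowUp.IsEffCartierIdeal I)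
    (h : ClSub.IsInverseOf L (ClSub.idealMod I)) : PicF.IsInvertible L := by
  have hI' := (Curves2.isInvertible_idealMod_iff I).2 hI
  obtain ⟨N, hN, ⟨e⟩⟩ := An92.InvMod.exists_inverse hI'
  have h1 : PicF.cl N = PicF.cl L := (isUnit_cl hI').mul_left_cancel (by
    rw [mul_comm _ (PicF.cl L), cl_mul_eq_one_of_isInverseOf h]
    exact Quot.sound ⟨EGA73.tensComm _ _ ≪≫ e⟩)
  exact EGA73.isInvertible_of_iso (FGA29.nonempty_iso_of_cl h1).some hN

theorem cl_eq_one_of_frame {M : X.Modules} {U : X.Opens} (hU : U = ⊤) (e : Γ(M, U)) (he : IsFrame M U e) :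
    PicF.cl M = 1 := by
  subst hU; exact cl_eq_one_of_frame_top e he

variable {R : Type u} [CommRing R] [IsDomain R] [IsDiscreteValuationRing R]
  {p : X ⟶ Spec (CommRingCat.of R)} [Flat p] [LocallyOfFiniteType p] [QuasiCompact p]
  (hreg : Models.IsRegularScheme X) {n : ℕ} {C : Fin n → ArSurf.VertComp R (Over.mk p)}
  (hC : Models.IsComponentList R (Over.mk p) C) (L : Fin n → X.Modules)
  (hL : ∀ i, ClSub.IsInverseOf (L i) (ClSub.idealMod (cI (C i))))
  {Y : Scheme.{u}} {f : Y ⟶ Spec (CommRingCat.of (FractionRing R))} {g : Y ⟶ X}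
  (hg : IsPullback g f p (Spec.map (CommRingCat.ofHom (algebraMap R (FractionRing R)))))

include hreg hC hL in
theorem isInvertible_L (i : Fin n) : PicF.IsInvertible (L i) :=
  isInvertible_of_inverse (isEffCartier_cI hC hreg i) (hL i)

include hreg hC hg in
theorem cl_pullback_cI (i : Fin n) : PicF.cl ((Scheme.Modules.pullback g).obj (ClSub.idealMod (cI (C i)))) = 1 := by
  have hinv := (Curves2.isInvertible_idealMod_iff _).2 (isEffCartier_cI hC hreg i)
  have hnot : ∀ x ∈ genOpen p, x ∉ (cI (C i)).support := fun x hx h =>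
    (mem_genOpen_iff.1 hx) (cI_subset_fSet hC i ((mem_support_cI _).1 h))
  have hker : (cI (C i)).subschemeι.app (genOpen p) 1 = 0 := by
    exact TopCat.Presheaf.section_ext (cI (C i)).subscheme.sheaf _ _ _ fun y hy => (hnot _ hy (by
      rw [← SetLike.mem_coe, ← Scheme.IdealSheafData.range_subschemeι]; exact Set.mem_range_self y)).elim
  obtain ⟨e, he⟩ := Omega57.exists_idealSect_eq (cI (C i)) (genOpen p) 1 hker
  have hfr : IsFrame (ClSub.idealMod (cI (C i))) (genOpen p) e := Amp73.isFrame_of_locally _ fun x hx => by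
    obtain ⟨W, hxW, hW⟩ := Div89.exists_affine_le hx
    refine ⟨W.1, hW, hxW, Curves2.isFrame_of_span _ W (one_mem _) ?_ _ ?_⟩
    · rw [Ideal.span_singleton_one, Ideal.eq_top_iff_one, ← Scheme.IdealSheafData.ker_subschemeι_app]
      have := congrArg ((cI (C i)).subscheme.presheaf.map (homOfLE (fun y hy => hW hy : (cI (C i)).subschemeι ⁻¹ᵁ W.1 ≤ (cI (C i)).subschemeι ⁻¹ᵁ genOpen p)).op) hker
      rw [map_zero] at this
      show (cI (C i)).subschemeι.app W.1 1 = 0
      rw [map_one] at this ⊢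
      rwa [map_one] at this
    · rw [Curves2.idealSect_res, he, map_one]
  obtain ⟨iso, hiso⟩ := exists_iso_genOpen hg
  have hpre : g ⁻¹ᵁ genOpen p = ⊤ := top_le_iff.1 fun y _ => by
    show g.base y ∈ genOpen p
    rw [← hiso, Scheme.Hom.comp_apply]
    exact (iso.hom.base y).2
  exact cl_eq_one_of_frame hpre _ (Amp73.isFrame_pullS g hinv hfr)

include hreg hC hL hg in
theorem cl_pullback_L (i : Fin n) : PicF.cl ((Scheme.Modules.pullback g).obj (L i)) = 1 := by
  have h1 := cl_pullback_hom g (isInvertible_L hreg hC L hL i) ((Curves2.isInvertible_idealMod_iff _).2 (isEffCartier_cI hC hreg i))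
  rw [cl_pullback_congr g (show PicF.cl (CohB1.tensorMod (L i) _) = PicF.cl (Coh.structureModule X) from cl_L_mul L hL i),
    cl_pullback_one, cl_pullback_cI hreg hC hg i, mul_one] at h1
  exact h1.symm

include hreg hC hL hg in
theorem cl_pullback_multiTwist (a : Fin n → ℕ) :
    PicF.cl ((Scheme.Modules.pullback g).obj (FGA.multiTwist L a)) = 1 ∧ PicF.IsInvertible (FGA.multiTwist L a) := by
  have key : ∀ l : List (Fin n), PicF.cl ((Scheme.Modules.pullback g).obj (FGA.tensorList (l.map fun i => CohB1.tensorPow (L i) (a i)))) = 1 ∧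
      PicF.IsInvertible (FGA.tensorList (l.map fun i => CohB1.tensorPow (L i) (a i))) := by
    intro l
    induction l with
    | nil => exact ⟨cl_pullback_one g, Mero90.isInvertible_of_frames fun x => ⟨⊤, trivial, _, Amp73.isFrame_one ⊤⟩⟩
    | cons i l ih =>
      have hi := EGA73.isInvertible_tensorPow (isInvertible_L hreg hC L hL i) (a i)
      refine ⟨?_, EGA73.isInvertible_tensorMod hi ih.2⟩
      show PicF.cl ((Scheme.Modules.pullback g).obj (CohB1.tensorMod _ _)) = 1
      rw [cl_pullback_hom g hi ih.2, ih.1, cl_pullback_pow g (isInvertible_L hreg hC L hL i),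
        cl_pullback_L hreg hC L hL hg i, one_pow, mul_one]
  exact key _

include hreg hC hL hg in
/-- Modules with the same restriction to the generic fibre differ by components. -/
theorem exists_diff {M M' : X.Modules} (hM : PicF.IsInvertible M) (hM' : PicF.IsInvertible M')
    (h : Nonempty ((Scheme.Modules.pullback g).obj M ≅ (Scheme.Modules.pullback g).obj M')) :
    ∃ a : Fin n → ℕ, PicF.cl M = PicF.cl M' * ∏ i, PicF.cl (L i) ^ a i := by
  obtain ⟨T, hT, ⟨e₀⟩⟩ := An92.InvMod.exists_inverse hM'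
  let e : CohB1.tensorMod M' T ≅ Coh.structureModule X := EGA73.tensComm _ _ ≪≫ e₀
  have h1 : PicF.cl ((Scheme.Modules.pullback g).obj (CohB1.tensorMod M T)) = 1 := by
    rw [cl_pullback_hom g hM hT, show PicF.cl ((Scheme.Modules.pullback g).obj M) = PicF.cl ((Scheme.Modules.pullback g).obj M') from Quot.sound h,
      ← cl_pullback_hom g hM' hT]
    exact (cl_pullback_congr g (Quot.sound ⟨e⟩ : PicF.cl (CohB1.tensorMod M' T) = PicF.cl (Coh.structureModule X))).trans (cl_pullback_one g)
  obtain ⟨a, ha⟩ := exists_cl_eq_prod hreg hC L hL hg (EGA73.isInvertible_tensorMod hM hT)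
    (FGA29.nonempty_iso_of_cl (by rw [h1, FGA29.cl_one]))
  refine ⟨a, ?_⟩
  rw [← ha, FGA29.cl_tensor, mul_left_comm, show PicF.cl M' * PicF.cl T = 1 from Quot.sound ⟨e⟩, mul_one]

include hreg hC hL in
theorem prod_eq_of_int (a b : Fin n → ℕ) (c : ℤ)
    (h : ∀ i, (a i : ℤ) - (b i : ℤ) = c * (Models.mult R (Over.mk p) (C i) : ℤ)) :
    ∏ i, PicF.cl (L i) ^ a i = ∏ i, PicF.cl (L i) ^ b i := by
  have e : ∀ i, a i + (-c).toNat * Models.mult R (Over.mk p) (C i) = b i + c.toNat * Models.mult R (Over.mk p) (C i) := by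
    intro i
    have h1 : (c.toNat : ℤ) - (-c).toNat = c := Int.toNat_sub_toNat_neg c
    have h2 := h i
    rw [← h1] at h2
    zify
    linarith
  have hk : ∀ k : ℕ, ∏ i, PicF.cl (L i) ^ (k * Models.mult R (Over.mk p) (C i)) = 1 := fun k => by
    rw [← one_pow (M := PicF.Cl X) k, ← prod_L_mult hreg hC L hL, ← Finset.prod_pow]
    exact Finset.prod_congr rfl fun i _ => by rw [← pow_mul, mul_comm]
  calc ∏ i, PicF.cl (L i) ^ a i = ∏ i, PicF.cl (L i) ^ (a i + (-c).toNat * Models.mult R (Over.mk p) (C i)) := by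
        simp only [pow_add, Finset.prod_mul_distrib, hk, mul_one]
    _ = _ := by simp only [e, pow_add, Finset.prod_mul_distrib, hk, mul_one]

variable (hH0 : IsIso f.appTop)

include hreg hC hL hg hH0 in
theorem prod_eq_iff (a b : Fin n → ℕ) :
    ∏ i, PicF.cl (L i) ^ a i = ∏ i, PicF.cl (L i) ^ b i ↔
      ∃ c : ℤ, ∀ i, (a i : ℤ) - (b i : ℤ) = c * (Models.mult R (Over.mk p) (C i) : ℤ) := by
  refine ⟨fun h => exists_int_of_cl_eq hreg hg hH0 hC a b ?_, fun ⟨c, hc⟩ => prod_eq_of_int hreg hC L hL a b c hc⟩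
  calc ∏ i, PicF.cl (ClSub.idealMod (cI (C i))) ^ a i
      = ((∏ i, PicF.cl (L i) ^ b i) * ∏ i, PicF.cl (ClSub.idealMod (cI (C i))) ^ b i) *
          ∏ i, PicF.cl (ClSub.idealMod (cI (C i))) ^ a i := by rw [prod_L_mul (C := C) L hL, one_mul]
    _ = ((∏ i, PicF.cl (L i) ^ a i) * ∏ i, PicF.cl (ClSub.idealMod (cI (C i))) ^ a i) *
          ∏ i, PicF.cl (ClSub.idealMod (cI (C i))) ^ b i := by rw [h, mul_right_comm]
    _ = _ := by rw [prod_L_mul (C := C) L hL, one_mul]

end Groth.Agent.ModPic
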